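import Cfsg.Agent.Lib.Suzuki.Subfield
import Cfsg.Agent.Lib.Suzuki.Multiplier
import Cfsg.Prelude.Def_EvenType
import Cfsg.Agent.Lib.PiHom.Basic
import Cfsg.Agent.Lib.LocalEven.SylowAux
import Mathlib.FieldTheory.Finite.GaloisField

/-!
# An automorphism of order three of a Suzuki group with soluble centraliser
-/

set_option autoImplicit false
set_option linter.style.haveILetI false
set_option linter.unusedSectionVars false

namespace Cfsg.Agent.ThreePrime

open Subgroup

universe u v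

/-- In an extension of a normal subgroup of order prime to three by an element of order three, all complements
are conjugate. -/
theorem conj_mem_zpowers {A : Type u} [Group A] [Finite A] (N : Subgroup A) [N.Normal] (hN : ¬ 3 ∣ Nat.card N)
    {a b : A} (ha : a ^ 3 = 1) (hb : b ^ 3 = 1) (hab : a * b⁻¹ ∈ N) : ∃ y : A, y * a * y⁻¹ ∈ zpowers b := by
  haveI : Fact (Nat.Prime 3) := ⟨Nat.prime_three⟩
  have hp : ∀ c : A, c ^ 3 = 1 → IsPGroup 3 (zpowers c) := by
    rintro c hc ⟨_, i, rfl⟩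
    refine ⟨1, Subtype.ext ?_⟩
    show (c ^ i) ^ 3 ^ 1 = 1
    rw [pow_one, ← zpow_natCast, zpow_comm, zpow_natCast, hc, one_zpow]
  set X := zpowers b ⊔ N with hX
  have hbX : zpowers b ≤ X := le_sup_left
  have hidx : ¬ 3 ∣ ((zpowers b).subgroupOf X).index := by
    intro h
    have h1 : (zpowers b).relIndex X = (zpowers b).relIndex N := PiHom.relIndex_sup_normal _ _
    exact hN ((h.trans (by rw [← relIndex, h1])).trans (relIndex_dvd_card _ _))
  let S : Sylow 3 X := IsPGroup.toSylow (P := (zpowers b).subgroupOf X)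
    ((hp b hb).comap_of_injective X.subtype X.subtype_injective) hidx
  have haX : a ∈ X := by
    have := mul_mem (show a * b⁻¹ ∈ X from le_sup_right (a := zpowers b) hab) (hbX (mem_zpowers b))
    rwa [inv_mul_cancel_right] at this
  obtain ⟨y, -, hy⟩ := LESylow.exists_conj_le_of_le (zpowers_le.2 haX) (hp a ha) S
  rw [show (S : Subgroup X) = (zpowers b).subgroupOf X from rfl, map_subgroupOf_eq_of_le hbX] at hy
  exact ⟨y, hy ⟨a, mem_zpowers a, rfl⟩⟩

section Sz

variable {F : Type v} [Field F] [Fintype F] {m : ℕ} (h : Suzuki.SzField F m)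

include h

theorem frobAut_entries (j : ℕ) (x : Cfsg.Sz F m) :
    ((Suzuki.frobAut h j x : Cfsg.Sz F m) : Matrix.SpecialLinearGroup (Fin 4) F).1 =
      x.1.1.map (fun z => z ^ 2 ^ j) :=
  Suzuki.frobSL_coe h j x.1

theorem frobAut_add (i j : ℕ) : Suzuki.frobAut h i * Suzuki.frobAut h j = Suzuki.frobAut h (j + i) := by
  refine MulEquiv.ext fun x => Subtype.ext (Subtype.ext ?_)
  show ((Suzuki.frobAut h i (Suzuki.frobAut h j x) : Cfsg.Sz F m) : Matrix.SpecialLinearGroup (Fin 4) F).1 = _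
  rw [frobAut_entries h, frobAut_entries h, frobAut_entries h, Matrix.map_map]
  refine Matrix.ext fun r s => ?_
  simp [Matrix.map_apply, ← pow_mul, pow_add]

theorem frobAut_multiple (t : ℕ) : Suzuki.frobAut h ((2 * m + 1) * t) = 1 := by
  refine MulEquiv.ext fun x => Subtype.ext (Subtype.ext ?_)
  show ((Suzuki.frobAut h _ x : Cfsg.Sz F m) : Matrix.SpecialLinearGroup (Fin 4) F).1 = x.1.1
  rw [frobAut_entries h]
  refine Matrix.ext fun r s => ?_
  rw [Matrix.map_apply, pow_mul, ← h.card, FiniteField.pow_card_pow]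

theorem frobAut_zero : Suzuki.frobAut h 0 = 1 := by simpa using frobAut_multiple h 0

theorem not_isSolvable_sz : ¬ Group.IsSolvable (Cfsg.Sz F m) := fun hs => by
  haveI := Suzuki.isSimple h
  haveI := hs
  have hcomm : ∀ a b : Cfsg.Sz F m, a * b = b * a := IsSimpleGroup.comm_iff_isSolvable.2 hs
  letI : CommGroup (Cfsg.Sz F m) := { (inferInstance : Group (Cfsg.Sz F m)) with mul_comm := hcomm }
  haveI : Finite (Cfsg.Sz F m) := inferInstance
  have hp : (Nat.card (Cfsg.Sz F m)).Prime := IsSimpleGroup.prime_card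
  rw [Suzuki.card_Sz h] at hp
  have h2 : ¬ (2 ^ (2 * m + 1)) ^ 2 * ((2 ^ (2 * m + 1)) ^ 2 + 1) = 1 := fun e => by
    have := Nat.eq_one_of_mul_eq_one_left e
    have := Nat.one_le_two_pow (n := 2 * m + 1)
    nlinarith
  have h8 : 8 ≤ 2 ^ (2 * m + 1) := by
    calc 8 = 2 ^ 3 := rfl
      _ ≤ _ := Nat.pow_le_pow_right (by norm_num) (by have := h.one_le; omega)
  rcases Nat.prime_mul_iff.1 hp with ⟨-, e⟩ | ⟨-, e⟩
  · omega
  · exact h2 e

/-- An automorphism of order dividing three with soluble fixed point group forces `q = 8`. -/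
theorem eq_one_of_solvable_fix (α : MulAut (Cfsg.Sz F m)) (hα : α ^ 3 = 1)
    (hsol : Group.IsSolvable (Cfsg.fixedSubgroup α)) : m = 1 := by
  classical
  haveI : Finite (MulAut (Cfsg.Sz F m)) := Finite.of_injective (fun e : MulAut (Cfsg.Sz F m) => e.toEquiv)
    MulEquiv.toEquiv_injective
  have hα1 : α ≠ 1 := fun e => not_isSolvable_sz h (by
    haveI := hsol
    have htop : ∀ x : Cfsg.Sz F m, x ∈ Cfsg.fixedSubgroup α := fun x => by
      show α x = x
      rw [e]; rfl
    exact Group.isSolvable_of_isSolvable_injective (f := (MonoidHom.id _).codRestrict _ htop)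
      fun a b hab => congrArg Subtype.val hab)
  obtain ⟨j, hj, u, rfl⟩ := Suzuki.exists_inner_mul_frob h α
  set n := 2 * m + 1 with hn
  set φ := Suzuki.frobAut h j with hφ
  set N := (MulAut.conj : Cfsg.Sz F m →* MulAut (Cfsg.Sz F m)).range with hN
  haveI hNn : N.Normal := ⟨by
    rintro _ ⟨v, rfl⟩ β
    exact ⟨β v, MulEquiv.ext fun x => by simp [MulAut.mul_apply, MulAut.conj_apply]⟩⟩
  have hpow : ∀ k : ℕ, φ ^ k = Suzuki.frobAut h (j * k) := by
    intro k
    induction k with
    | zero => rw [pow_zero, Nat.mul_zero, frobAut_zero]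
    | succ k ih => rw [pow_succ', ih, hφ, frobAut_add, Nat.mul_succ]
  -- the cube of the field part is inner, hence trivial
  have hd : n ∣ 3 * j := by
    have h3 : φ ^ 3 ∈ N := by
      have e1 : ((MulAut.conj u * φ : MulAut (Cfsg.Sz F m)) : MulAut (Cfsg.Sz F m) ⧸ N) =
          ((φ : MulAut (Cfsg.Sz F m)) : MulAut (Cfsg.Sz F m) ⧸ N) := by
        rw [QuotientGroup.mk_mul, (QuotientGroup.eq_one_iff (MulAut.conj u)).2 (MonoidHom.mem_range.2 ⟨u, rfl⟩), one_mul]
      rw [← QuotientGroup.eq_one_iff, QuotientGroup.mk_pow, ← e1, ← QuotientGroup.mk_pow, hα]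
      rfl
    obtain ⟨w, hw⟩ := h3
    rw [hpow] at hw
    have hr : (j * 3) % n < n := Nat.mod_lt _ (by omega)
    have e : Suzuki.frobAut h ((j * 3) % n) = MulAut.conj w * Suzuki.frobAut h 0 := by
      rw [frobAut_zero, mul_one, hw]
      conv_rhs => rw [← Nat.mod_add_div (j * 3) n, ← frobAut_add, frobAut_multiple, one_mul]
    have := Suzuki.frob_unique h (i := 0) (by omega) hr e
    exact Nat.dvd_of_mod_eq_zero (by rw [mul_comm] at this; omega)
  have hφ3 : φ ^ 3 = 1 := by
    obtain ⟨t, ht⟩ := hd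
    rw [hpow, mul_comm, ht, frobAut_multiple]
  have hNcard : ¬ 3 ∣ Nat.card N := fun h3 => Suzuki.three_not_dvd h (h3.trans (card_range_dvd _))
  have hj0 : j ≠ 0 := by
    rintro rfl
    refine hα1 ?_
    rw [hφ, frobAut_zero, mul_one] at hα ⊢
    have h1 : orderOf (MulAut.conj u) ∣ 3 := orderOf_dvd_of_pow_eq_one hα
    have h2 : orderOf (MulAut.conj u) ∣ Nat.card N := N.orderOf_dvd_natCard ⟨u, rfl⟩
    rcases (Nat.dvd_prime Nat.prime_three).1 h1 with e | e
    · exact orderOf_eq_one_iff.1 e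
    · exact absurd (e ▸ h2) hNcard
  -- so `n = 3 (2 k + 1)`
  have h3n : 3 ∣ n := by
    by_contra h3
    have := Nat.le_of_dvd (by omega)
      (Nat.Coprime.dvd_of_dvd_mul_left ((Nat.prime_three.coprime_iff_not_dvd.2 h3).symm) hd)
    omega
  obtain ⟨d, hd'⟩ := h3n
  have hdj : d ∣ j := by
    rw [hd'] at hd
    exact Nat.dvd_of_mul_dvd_mul_left (by norm_num) hd
  by_contra hm
  obtain ⟨k, hk⟩ : ∃ k, d = 2 * k + 1 := ⟨d / 2, by omega⟩
  have hk1 : 1 ≤ k := by have := h.one_le; omega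
  haveI : Fact (Nat.Prime 2) := ⟨Nat.prime_two⟩
  let K := GaloisField 2 d
  letI : Fintype K := Fintype.ofFinite K
  have hK : Suzuki.SzField K k := ⟨hk1, by rw [← Nat.card_eq_fintype_card, GaloisField.card 2 d (by omega), hk]⟩
  have hdn : 2 * k + 1 ∣ 2 * m + 1 := ⟨3, by omega⟩
  obtain ⟨f⟩ := Suzuki.exists_ringHom h hK hdn
  let ι := Suzuki.emb h hK hdn f
  have hfix : ∀ (i : ℕ) (g : Cfsg.Sz K k), (φ ^ i) (ι g) = ι g := by
    intro i g
    rw [hpow]
    refine Subtype.ext (Subtype.ext (Matrix.ext fun r s => ?_))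
    show ((Suzuki.frobAut h (j * i) (ι g) : Cfsg.Sz F m) : Matrix.SpecialLinearGroup (Fin 4) F).1 r s = _
    rw [frobAut_entries h, Matrix.map_apply]
    show (f (g.1.1 r s)) ^ 2 ^ (j * i) = f (g.1.1 r s)
    obtain ⟨t, ht⟩ := hdj.trans (dvd_mul_right j i)
    rw [← map_pow, ht, pow_mul, show 2 ^ d = Fintype.card K from (congrArg (fun e => 2 ^ e) hk).trans hK.card.symm,
      FiniteField.pow_card_pow]
  -- move the automorphism into the powers of the field automorphism
  obtain ⟨y, hy⟩ := conj_mem_zpowers N hNcard hα hφ3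
    (show MulAut.conj u * φ * φ⁻¹ ∈ N from by rw [mul_inv_cancel_right]; exact ⟨u, rfl⟩)
  obtain ⟨i, hi⟩ := mem_powers_iff_mem_zpowers.2 hy
  have hmem : ∀ g, (y⁻¹ : MulAut (Cfsg.Sz F m)) (ι g) ∈ Cfsg.fixedSubgroup (MulAut.conj u * φ) := fun g => by
    show (MulAut.conj u * φ) (y⁻¹ (ι g)) = y⁻¹ (ι g)
    have h1 : (y * (MulAut.conj u * φ) * y⁻¹) (ι g) = ι g := by rw [← hi]; exact hfix i g
    calc (MulAut.conj u * φ) (y⁻¹ (ι g)) = y⁻¹ ((y * (MulAut.conj u * φ) * y⁻¹) (ι g)) := by
          simp [MulAut.mul_apply]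
      _ = y⁻¹ (ι g) := by rw [h1]
  haveI := hsol
  refine not_isSolvable_sz hK ?_
  refine Group.isSolvable_of_isSolvable_injective
    (f := ((y⁻¹ : MulAut (Cfsg.Sz F m)).toMonoidHom.comp ι).codRestrict _ hmem) fun a b hab => ?_
  exact Suzuki.emb_injective h hK hdn f ((y⁻¹ : MulAut (Cfsg.Sz F m)).injective (congrArg Subtype.val hab))

end Sz

/-- A perfect central extension of a group whose Sylow `p`-subgroups are cyclic has centre of order prime to `p`. -/
theorem not_dvd_center {K : Type u} [Group K] [Finite K] [Group.IsPerfect K] {p : ℕ} [Fact p.Prime]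
    (P : Sylow p (K ⧸ center K)) [IsCyclic (P : Subgroup (K ⧸ center K))] : ¬ p ∣ Nat.card (center K) := by
  intro hd
  obtain ⟨⟨z, hz⟩, hzo⟩ := exists_prime_orderOf_dvd_card' (G := center K) p hd
  rw [orderOf_mk] at hzo
  set ξ := QuotientGroup.mk' (center K) with hξ
  have hzc : z ∈ commutator K := by
    rw [show commutator K = ⊤ from Group.IsPerfect.commutator_eq_top]
    exact mem_top z
  obtain ⟨hm, hcomm⟩ := Suzuki.transfer_step ξ (QuotientGroup.mk'_surjective _)
    (P : Subgroup (K ⧸ center K)) hz ((QuotientGroup.eq_one_iff z).2 hz) hzc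
  let : CommGroup ((P : Subgroup (K ⧸ center K)).comap ξ) :=
    commGroupOfCyclicCenterQuotient (ξ.subgroupComap _) fun x hx => mem_center_iff.mpr fun y =>
      Subtype.ext (mem_center_iff.mp ((QuotientGroup.eq_one_iff (x : K)).1 (congrArg Subtype.val hx)) _)
  have hbot : commutator ((P : Subgroup (K ⧸ center K)).comap ξ) = ⊥ := by
    rw [commutator_def, eq_bot_iff, commutator_le]
    intro a _ b _
    rw [mem_bot, commutatorElement_eq_one_iff_mul_comm]
    exact mul_comm a b
  rw [hbot, mem_bot] at hcomm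
  have h1 : z ^ (P : Subgroup (K ⧸ center K)).index = 1 := congrArg Subtype.val hcomm
  have h2 := orderOf_dvd_of_pow_eq_one h1
  rw [hzo] at h2
  exact P.not_dvd_index h2

end Cfsg.Agent.ThreePrime
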