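import Cfsg.Agent.Lib.ThreePrime.Setup
import Cfsg.Agent.Lib.ThreePrime.ConsumersSzAut
import Cfsg.Agent.Lib.Suzuki.Out
import Cfsg.Agent.Lib.Components.Basic
import Cfsg.Agent.Lib.Components.Balance
import Cfsg.Agent.Lib.Components.Fitting
import Cfsg.Agent.Lib.Components.PNormalizer

/-!
# Suzuki frames of components, and the facts on automorphisms of Suzuki groups used in the proof
-/

set_option autoImplicit false
set_option linter.style.haveILetI false
set_option linter.unusedSectionVars false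

namespace Cfsg.Agent.ThreePrime

open Subgroup
open scoped commutatorElement

universe u v

section Sz

variable {F : Type v} [Field F] [Fintype F] {m : ℕ} (h : Suzuki.SzField F m)

include h

theorem sz_center_bot : center (Cfsg.Sz F m) = ⊥ := by
  haveI := Suzuki.isSimple h
  refine ((inferInstance : (center (Cfsg.Sz F m)).Normal).eq_bot_or_eq_top).resolve_right fun e => ?_
  refine not_isSolvable_sz h (Group.isSolvable_of_comm fun a b => ?_)
  exact (mem_center_iff.1 (e ▸ mem_top b)) a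

theorem sz_conj_injective : Function.Injective (MulAut.conj : Cfsg.Sz F m →* MulAut (Cfsg.Sz F m)) := by
  rw [← MonoidHom.ker_eq_bot_iff, eq_bot_iff, ← sz_center_bot h]
  intro u hu
  rw [MonoidHom.mem_ker] at hu
  refine mem_center_iff.2 fun g => ?_
  have h1 : u * g * u⁻¹ = g := MulEquiv.ext_iff.1 hu g
  exact (mul_inv_eq_iff_eq_mul.1 h1).symm

theorem zGroup_central {z g : Cfsg.Sz F m} (hz : z ∈ Suzuki.zGroup h) (hg : g ∈ Suzuki.rootGroup h) :
    g * z = z * g := by
  obtain ⟨b, rfl⟩ := hz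
  obtain ⟨c, d, rfl⟩ := hg
  exact (Suzuki.T_zero_central h b c d).symm

/-- An automorphism fixing the centre of a root group pointwise is conjugation by a root element. -/
theorem exists_root_of_fix_zGroup (α : MulAut (Cfsg.Sz F m)) (hα : ∀ x ∈ Suzuki.zGroup h, α x = x) :
    ∃ u ∈ Suzuki.rootGroup h, α = MulAut.conj u := by
  obtain ⟨j, hj, u, rfl⟩ := Suzuki.exists_inner_mul_frob h α
  have hfix : ∀ b, u * Suzuki.T h 0 (b ^ 2 ^ j) * u⁻¹ = Suzuki.T h 0 b := fun b => by
    have := hα _ ⟨b, rfl⟩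
    rw [MulAut.mul_apply, Suzuki.frobAut_T, zero_pow (by positivity)] at this
    exact this
  have h1 := hfix 1
  rw [one_pow] at h1
  have hT1 : Suzuki.T h (0 : F) 1 ≠ 1 := fun e => one_ne_zero ((Suzuki.eq_one_iff_T h).mp e).2
  have hub : u ∈ Suzuki.borel F m :=
    Suzuki.fix_pinf_of_conj_mem h (t := Suzuki.T h 0 1) ⟨0, 1, rfl⟩ hT1 (h1.symm ▸ ⟨0, 1, rfl⟩)
  obtain ⟨a, b, k, rfl⟩ := Suzuki.borel_form h hub
  have hk : k = 1 := by
    rw [Suzuki.TH_conj_zero, mul_one] at h1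
    have h2 := (Suzuki.T_injective h h1).2
    refine Units.ext ?_
    refine h.θ_mul_self_injective k.ne_zero one_ne_zero ?_
    rw [Units.val_one, Suzuki.θ_one, mul_one]
    exact h2
  subst hk
  rw [Suzuki.H_one, mul_one] at hfix ⊢
  refine ⟨Suzuki.T h a b, ⟨a, b, rfl⟩, ?_⟩
  suffices hφ : Suzuki.frobAut h j = 1 by rw [hφ, mul_one]
  have hx : ∀ x : F, x ^ 2 ^ j = x := fun x => by
    have h3 := hfix x
    rw [← zGroup_central h (g := Suzuki.T h a b) ⟨_, rfl⟩ ⟨a, b, rfl⟩ |>.symm, mul_assoc, mul_inv_cancel,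
      mul_one] at h3
    exact (Suzuki.T_injective h h3).2
  refine MulEquiv.ext fun g => ?_
  refine Suzuki.eq_self_of_fix_borel h (α := Suzuki.frobAut h j) (fun c d => ?_) (fun l => ?_) g
  · rw [Suzuki.frobAut_T, hx, hx]
  · rw [Suzuki.frobAut_H]
    exact congrArg _ (Units.ext (by rw [Units.val_pow_eq_pow_val, hx]))

/-- An automorphism of odd order fixing the centre of a root group pointwise is trivial. -/
theorem eq_one_of_fix_zGroup (α : MulAut (Cfsg.Sz F m)) (hα : ∀ x ∈ Suzuki.zGroup h, α x = x) {k : ℕ}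
    (hk : Odd k) (hαk : α ^ k = 1) : α = 1 := by
  obtain ⟨u, hu, rfl⟩ := exists_root_of_fix_zGroup h α hα
  have h4 : u ^ 4 = 1 := by
    have h1 := Monoid.pow_exponent_eq_one (⟨u, hu⟩ : Suzuki.rootGroup h)
    rw [Suzuki.exponent_rootGroup h] at h1
    exact congrArg Subtype.val h1
  rw [← map_pow] at hαk
  have hk1 : u ^ k = 1 := sz_conj_injective h (hαk.trans (map_one _).symm)
  have : orderOf u = 1 := by
    refine Nat.eq_one_of_dvd_coprimes ?_ (orderOf_dvd_of_pow_eq_one h4) (orderOf_dvd_of_pow_eq_one hk1)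
    rw [show (4 : ℕ) = 2 ^ 2 from rfl]
    exact Nat.Coprime.pow_left 2 (Nat.coprime_two_left.2 hk)
  rw [orderOf_eq_one_iff.1 this, map_one]

theorem frobAut_conj (j : ℕ) (u : Cfsg.Sz F m) :
    Suzuki.frobAut h j * MulAut.conj u = MulAut.conj (Suzuki.frobAut h j u) * Suzuki.frobAut h j :=
  MulEquiv.ext fun x => by simp [MulAut.mul_apply, MulAut.conj_apply]

/-- An automorphism of order two is inner. -/
theorem exists_inner_of_sq (α : MulAut (Cfsg.Sz F m)) (hα : α * α = 1) :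
    ∃ u, u * u = 1 ∧ α = MulAut.conj u := by
  obtain ⟨j, hj, u, rfl⟩ := Suzuki.exists_inner_mul_frob h α
  set v := u * Suzuki.frobAut h j u with hv
  have e : MulAut.conj v * Suzuki.frobAut h (j + j) = 1 := by
    rw [← frobAut_add h j j, map_mul, ← hα]
    rw [mul_assoc, ← mul_assoc (MulAut.conj (Suzuki.frobAut h j u)), ← frobAut_conj]
    simp only [mul_assoc]
  have hj0 : j = 0 := by
    have hr : (j + j) % (2 * m + 1) < 2 * m + 1 := Nat.mod_lt _ (by omega)
    have h2 : Suzuki.frobAut h 0 = MulAut.conj v * Suzuki.frobAut h ((j + j) % (2 * m + 1)) := by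
      rw [frobAut_zero, ← e]
      conv_lhs => rw [← Nat.mod_add_div (j + j) (2 * m + 1), ← frobAut_add h, frobAut_multiple, one_mul]
    have h3 := Suzuki.frob_unique h hr (j := 0) (by omega) h2
    rcases lt_or_ge (j + j) (2 * m + 1) with hl | hl
    · rw [Nat.mod_eq_of_lt hl] at h3; omega
    · rw [Nat.mod_eq_sub_mod hl, Nat.mod_eq_of_lt (by omega)] at h3; omega
  subst hj0
  rw [frobAut_zero, mul_one] at hα ⊢
  refine ⟨u, sz_conj_injective h ?_, rfl⟩
  rw [map_mul, hα, map_one]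

theorem involution_borel {u : Cfsg.Sz F m} (hu : u * u = 1) (hb : u ∈ Suzuki.borel F m) :
    u ∈ Suzuki.zGroup h := by
  obtain ⟨a, b, k, rfl⟩ := Suzuki.borel_form h hb
  have e : Suzuki.T h a b * Suzuki.H h k * (Suzuki.T h a b * Suzuki.H h k) =
      Suzuki.T h a b * (Suzuki.H h k * Suzuki.T h a b * (Suzuki.H h k)⁻¹) * Suzuki.H h (k * k) := by
    rw [Suzuki.H_mul]; group
  rw [hu, Suzuki.H_conj_T, Suzuki.T_mul] at e
  have h1 : Suzuki.T h (0 : F) 0 * Suzuki.H h 1 = 1 := by rw [Suzuki.T_zero, Suzuki.H_one, one_mul]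
  have hk : k = 1 := Suzuki.units_sq_eq_one h (Suzuki.TH_unique h (e.symm.trans h1.symm)).2.2
  subst hk
  rw [Suzuki.H_one, mul_one] at hu ⊢
  exact Suzuki.involution_in_rootGroup h ⟨a, b, rfl⟩ hu

/-- An automorphism fixing a generator of the torus is conjugation by a torus element. -/
theorem exists_torus_of_fix {k₀ : Fˣ} (hgen : ∀ x : Fˣ, ∃ i : ℕ, k₀ ^ i = x)
    (hord : orderOf k₀ = 2 ^ (2 * m + 1) - 1) (α : MulAut (Cfsg.Sz F m))
    (hα : α (Suzuki.H h k₀) = Suzuki.H h k₀) : ∃ u ∈ Suzuki.torus h, α = MulAut.conj u := by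
  obtain ⟨j, hj, u, rfl⟩ := Suzuki.exists_inner_mul_frob h α
  rw [MulAut.mul_apply, Suzuki.frobAut_H, MulAut.conj_apply] at hα
  have hk1 : k₀ ≠ 1 := fun e => by
    rw [e, orderOf_one] at hord
    have := h.eight_le_card
    rw [h.card] at this
    omega
  have hpush : ∀ i : ℕ, u * Suzuki.H h ((k₀ ^ 2 ^ j) ^ i) * u⁻¹ = Suzuki.H h (k₀ ^ i) := fun i => by
    rw [show Suzuki.H h ((k₀ ^ 2 ^ j) ^ i) = Suzuki.H h (k₀ ^ 2 ^ j) ^ i from (Suzuki.HHom h).map_pow _ i,
      show Suzuki.H h (k₀ ^ i) = Suzuki.H h k₀ ^ i from (Suzuki.HHom h).map_pow _ i, ← hα]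
    exact (conj_pow (a := u) (b := Suzuki.H h (k₀ ^ 2 ^ j)) (i := i)).symm
  have hN : u ∈ normalizer (Suzuki.torus h : Set (Cfsg.Sz F m)) := by
    haveI : Finite (Cfsg.Sz F m) := inferInstance
    refine mem_normalizer_fintype fun y hy => ?_
    obtain ⟨l, rfl⟩ := (Suzuki.mem_torus h).mp hy
    obtain ⟨i, hi⟩ : ∃ i : ℕ, (k₀ ^ 2 ^ j) ^ i = l := by
      have hc : Nat.Coprime (2 ^ j) (orderOf k₀) := by
        refine Nat.Coprime.pow_left _ (Nat.coprime_two_left.2 ?_)
        rw [hord]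
        exact Nat.Even.sub_odd Nat.one_le_two_pow ((Nat.even_pow' (by omega)).2 even_two) odd_one
      obtain ⟨r, hr⟩ := exists_pow_eq_self_of_coprime hc
      obtain ⟨i, hi⟩ := hgen l
      exact ⟨r * i, by rw [pow_mul, hr, hi]⟩
    rw [← hi]
    exact (Suzuki.mem_torus h).mpr ⟨_, hpush i⟩
  have hsmall : ∀ j : ℕ, j < 2 * m + 1 → 1 ≤ 2 ^ j ∧ 2 ^ j + 1 < 2 ^ (2 * m + 1) - 1 := fun i hi => by
    have h1 : 2 ^ i ≤ 2 ^ (2 * m) := Nat.pow_le_pow_right (by norm_num) (by omega)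
    have h2 : 4 ≤ 2 ^ (2 * m) := le_trans (le_of_eq (by norm_num : 4 = 2 ^ 2))
      (Nat.pow_le_pow_right (by norm_num) (by have := h.one_le; omega))
    have h3 := Nat.one_le_two_pow (n := i)
    rw [pow_succ]
    omega
  rcases Suzuki.card_normalizer_torus_le h u hN with hu | hu
  · obtain ⟨l, rfl⟩ := (Suzuki.mem_torus h).mp hu
    have e : k₀ ^ 2 ^ j = k₀ := Suzuki.H_injective h (by
      rw [← hα, ← Suzuki.H_mul, mul_comm l, Suzuki.H_mul, mul_inv_cancel_right])
    have hj0 : j = 0 := by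
      by_contra hj0
      have h1 : k₀ ^ (2 ^ j - 1) = 1 := by
        refine mul_right_cancel (b := k₀) ?_
        rw [← pow_succ, Nat.sub_add_cancel Nat.one_le_two_pow, e, one_mul]
      have h2 := orderOf_dvd_of_pow_eq_one h1
      rw [hord] at h2
      have h4 : 2 ≤ 2 ^ j := Nat.le_self_pow hj0 2
      have h3 := Nat.le_of_dvd (by omega) h2
      have := hsmall j hj
      omega
    subst hj0
    rw [frobAut_zero, mul_one]
    exact ⟨_, (Suzuki.mem_torus h).mpr ⟨l, rfl⟩, rfl⟩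
  · exfalso
    obtain ⟨l, hl⟩ := (Suzuki.mem_torus h).mp hu
    have hu' : u = Suzuki.W h * Suzuki.H h l := by rw [← hl, ← mul_assoc, Suzuki.W_mul_self, one_mul]
    have e : (k₀ ^ 2 ^ j)⁻¹ = k₀ := Suzuki.H_injective h (by
      rw [← Suzuki.W_conj_H]
      conv_rhs => rw [← hα, hu', mul_inv_rev, Suzuki.W_inv]
      rw [show Suzuki.W h * Suzuki.H h l * Suzuki.H h (k₀ ^ 2 ^ j) * ((Suzuki.H h l)⁻¹ * Suzuki.W h) =
        Suzuki.W h * (Suzuki.H h l * Suzuki.H h (k₀ ^ 2 ^ j) * (Suzuki.H h l)⁻¹) * Suzuki.W h by group,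
        ← Suzuki.H_mul, mul_comm l, Suzuki.H_mul, mul_inv_cancel_right])
    have h1 : k₀ ^ (2 ^ j + 1) = 1 := by
      rw [pow_succ]
      calc k₀ ^ 2 ^ j * k₀ = k₀ ^ 2 ^ j * (k₀ ^ 2 ^ j)⁻¹ := by rw [e]
        _ = 1 := mul_inv_cancel _
    have h2 := orderOf_dvd_of_pow_eq_one h1
    rw [hord] at h2
    have h3 := Nat.le_of_dvd (Nat.succ_pos _) h2
    have := hsmall j hj
    omega

end Sz

/-- A Suzuki frame of a quasisimple subgroup with a `2`-group as centre. -/
structure Frame {H : Type u} [Group H] (L : Subgroup H) where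
  F : Type
  field : Field F
  fintype : Fintype F
  m : ℕ
  hS : Suzuki.SzField F m
  π : ↥L →* Cfsg.Sz F m
  surj : Function.Surjective π
  ker : π.ker = center ↥L
  two : IsPGroup 2 (center ↥L)
  perf : ⁅L, L⁆ = L

attribute [instance] Frame.field Frame.fintype

namespace Frame

variable {H : Type u} [Group H] {L : Subgroup H} (Φ : Frame L)

/-- The identification of the quotient by the centre. -/
noncomputable def quotEquiv : ↥L ⧸ center ↥L ≃* Cfsg.Sz Φ.F Φ.m :=
  (QuotientGroup.quotientMulEquivOfEq Φ.ker.symm).trans (QuotientGroup.quotientKerEquivOfSurjective Φ.π Φ.surj)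

theorem quotEquiv_mk (l : L) : Φ.quotEquiv (l : ↥L ⧸ center ↥L) = Φ.π l := rfl

/-- The action of the normaliser on the Suzuki group. -/
noncomputable def act : normalizer (L : Set H) →* MulAut (Cfsg.Sz Φ.F Φ.m) :=
  (MulAut.congr Φ.quotEquiv).toMonoidHom.comp <| MonoidHom.mk'
    (fun n => QuotientGroup.congr (center ↥L) (center ↥L) (L.normalizerMonoidHom n) (Components.center_map_equiv _))
    fun a b => MulEquiv.ext fun q => by
      induction q using QuotientGroup.induction_on with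
      | _ z =>
        show ((L.normalizerMonoidHom (a * b) z : L) : ↥L ⧸ center ↥L) =
          ((L.normalizerMonoidHom a (L.normalizerMonoidHom b z) : L) : ↥L ⧸ center ↥L)
        rw [map_mul]; rfl

theorem act_apply (n : normalizer (L : Set H)) (l : L) :
    Φ.act n (Φ.π l) = Φ.π (L.normalizerMonoidHom n l) := by
  show Φ.quotEquiv (QuotientGroup.congr (center ↥L) (center ↥L) (L.normalizerMonoidHom n) (Components.center_map_equiv _)
    (Φ.quotEquiv.symm (Φ.π l))) = _
  rw [← Φ.quotEquiv_mk l, MulEquiv.symm_apply_apply]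
  rfl

theorem act_apply' {n : H} (hn : n ∈ normalizer (L : Set H)) {l : H} (hl : l ∈ L) :
    Φ.act ⟨n, hn⟩ (Φ.π ⟨l, hl⟩) = Φ.π ⟨n * l * n⁻¹, (mem_normalizer_iff.1 hn l).1 hl⟩ :=
  Φ.act_apply ⟨n, hn⟩ ⟨l, hl⟩

theorem act_of_mem {x : H} (hx : x ∈ L) :
    Φ.act ⟨x, Subgroup.le_normalizer hx⟩ = MulAut.conj (Φ.π ⟨x, hx⟩) := by
  refine MulEquiv.ext fun s => ?_
  obtain ⟨l, rfl⟩ := Φ.surj s
  rw [Φ.act_apply, MulAut.conj_apply, ← map_inv, ← map_mul, ← map_mul]
  rfl

theorem center_le_comm {x : H} (hx : x ∈ L) (h : Φ.π ⟨x, hx⟩ = 1) {l : H} (hl : l ∈ L) : x * l = l * x := by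
  have h1 : (⟨x, hx⟩ : L) ∈ center ↥L := Φ.ker ▸ h
  exact (congrArg Subtype.val (mem_center_iff.1 h1 ⟨l, hl⟩)).symm

/-- The kernel of the action centralises the component. -/
theorem mem_centralizer_of_act {n : H} (hn : n ∈ normalizer (L : Set H)) (h : Φ.act ⟨n, hn⟩ = 1) :
    n ∈ centralizer (L : Set H) := by
  have hle : ⁅L, zpowers n⁆ ≤ centralizer (L : Set H) := by
    rw [commutator_le]
    intro l hl w hw
    obtain ⟨i, rfl⟩ := mem_zpowers_iff.1 hw
    have hw' : n ^ i ∈ normalizer (L : Set H) := zpow_mem hn i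
    have hact : Φ.act ⟨n ^ i, hw'⟩ = 1 := by
      rw [show (⟨n ^ i, hw'⟩ : normalizer (L : Set H)) = ⟨n, hn⟩ ^ i from rfl, map_zpow, h, one_zpow]
    have h1 := Φ.act_apply' hw' hl
    rw [hact, MulAut.one_apply] at h1
    have hc : n ^ i * l * (n ^ i)⁻¹ ∈ L := (mem_normalizer_iff.1 hw' l).1 hl
    have hmem : ⁅l, n ^ i⁆ ∈ L := by
      rw [commutatorElement_def, show l * n ^ i * l⁻¹ * (n ^ i)⁻¹ = l * (n ^ i * l * (n ^ i)⁻¹)⁻¹ by group]
      exact mul_mem hl (inv_mem hc)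
    have h2 : Φ.π ⟨⁅l, n ^ i⁆, hmem⟩ = 1 := by
      have e : (⟨⁅l, n ^ i⁆, hmem⟩ : L) = ⟨l, hl⟩ * (⟨_, hc⟩ : L)⁻¹ := Subtype.ext (by
        show ⁅l, n ^ i⁆ = l * (n ^ i * l * (n ^ i)⁻¹)⁻¹
        rw [commutatorElement_def]; group)
      rw [e, map_mul, map_inv, ← h1, mul_inv_cancel]
    exact mem_centralizer_iff.2 fun y hy => (Φ.center_le_comm hmem h2 hy).symm
  have := Components.commute_of_commutator_central Φ.perf hle
  rw [commutator_comm, commutator_eq_bot_iff_le_centralizer] at this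
  exact this (mem_zpowers n)

theorem act_eq_one {n : H} (hn : n ∈ centralizer (L : Set H)) :
    Φ.act ⟨n, Subgroup.centralizer_le_normalizer _ hn⟩ = 1 := by
  refine MulEquiv.ext fun s => ?_
  obtain ⟨⟨l, hl⟩, rfl⟩ := Φ.surj s
  rw [Φ.act_apply', MulAut.one_apply]
  congr 1
  refine Subtype.ext ?_
  show n * l * n⁻¹ = l
  exact mul_inv_eq_iff_eq_mul.2 (mem_centralizer_iff.1 hn l hl).symm

/-- The frame composed with an inner automorphism. -/
noncomputable def conj (g : Cfsg.Sz Φ.F Φ.m) : Frame L where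
  F := Φ.F
  field := Φ.field
  fintype := Φ.fintype
  m := Φ.m
  hS := Φ.hS
  π := (MulAut.conj g).toMonoidHom.comp Φ.π
  surj := (MulAut.conj g).surjective.comp Φ.surj
  ker := by
    rw [← Φ.ker]
    ext x
    simp [MonoidHom.mem_ker]
  two := Φ.two
  perf := Φ.perf

/-- A `2`-subgroup can be moved into the root group. -/
theorem exists_align (Φ : Frame L) {P : Subgroup H} (hP : IsPGroup 2 P) :
    ∃ Ψ : Frame L, ∀ (x : H) (hx : x ∈ L), x ∈ P → Ψ.π ⟨x, hx⟩ ∈ Suzuki.rootGroup Ψ.hS := by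
  obtain ⟨g, hg⟩ := Suzuki.exists_conj_isPGroup_le Φ.hS
    ((hP.comap_of_injective L.subtype L.subtype_injective).map Φ.π)
  exact ⟨Φ.conj g, fun x hx hxP => hg _ ⟨⟨x, hx⟩, hxP, rfl⟩⟩

end Frame

variable {H : Type u} [Group H] [Finite H]

/-- A component of a group with trivial odd core has a frame when its simple quotient is a Suzuki group. -/
theorem exists_frame (hO : Cfsg.pPrimeCore 2 H = ⊥) {L : Subgroup H} (hL : Cfsg.IsComponent L)
    (hSz : Cfsg.Lie.IsoSuzuki (↥L ⧸ center ↥L)) : Nonempty (Frame L) := by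
  haveI : Fact (Nat.Prime 2) := ⟨Nat.prime_two⟩
  obtain ⟨F, i1, i2, m, hm, hF, ⟨e⟩⟩ := hSz
  have hS : Suzuki.SzField F m := ⟨hm, hF⟩
  let f : ↥L ⧸ center ↥L ≃* Cfsg.Sz F m := e.trans (Suzuki.minorEquiv hS).symm
  refine ⟨⟨F, i1, i2, m, hS, f.toMonoidHom.comp (QuotientGroup.mk' _),
    f.surjective.comp (QuotientGroup.mk'_surjective _), ?_, ?_, Components.component_commutator_eq hL⟩⟩
  · rw [← MonoidHom.comap_ker]
    show Subgroup.comap (QuotientGroup.mk' (center ↥L)) f.toMonoidHom.ker = _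
    rw [(MonoidHom.ker_eq_bot_iff _).2 f.injective]
    exact QuotientGroup.ker_mk' _
  · haveI := Components.fittingSubgroup_normal (G := H)
    haveI := Components.fittingSubgroup_nilpotent (G := H)
    have hF2 : IsPGroup 2 (Cfsg.fittingSubgroup H) := Components.isPGroup_of_normal_nilpotent hO _
    haveI : Group.IsNilpotent ↥(center ↥L) := by
      letI : CommGroup ↥(center ↥L) :=
        { mul_comm := fun a b => Subtype.ext (mem_center_iff.1 b.2 a) }
      exact CommGroup.isNilpotent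
    haveI : Group.IsNilpotent ↥((center ↥L).map L.subtype) := Components.isNilpotent_map _ _
    have hsn : ((center ↥L).map L.subtype).IsSubnormal :=
      Subgroup.IsSubnormal.trans' (Subgroup.Normal.isSubnormal inferInstance) hL.1
    have hle := Components.subnormal_nilpotent_le_fitting hsn inferInstance
    exact (hF2.to_le hle).of_equiv ((center ↥L).equivMapOfInjective L.subtype L.subtype_injective).symm

end Cfsg.Agent.ThreePrime
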