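import Cfsg.Agent.Lib.SEMain.Bender
import Cfsg.Agent.Lib.SEMain.Proof
import Cfsg.Agent.Lib.EPPO.Simple
import Cfsg.Agent.Lib.PNilCrit.Outcomes

/-!
# Simple groups of order prime to three: the interface for the consumers
-/

set_option autoImplicit false
set_option linter.style.haveILetI false
set_option linter.unusedSectionVars false

namespace Cfsg.Agent.ThreePrime

open Matrix hiding zpow_neg zpow_add inv_zpow mul_inv_rev one_zpow
open scoped MatrixGroups

universe u

/-- The classification of the simple groups of order prime to three. -/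
def SimpleSz : Prop :=
  ∀ (G : Type u) [Group G] [Finite G] [IsSimpleGroup G], (∃ a b : G, a * b ≠ b * a) → ¬ 3 ∣ Nat.card G →
    Cfsg.Lie.IsoSuzuki G

/-- `3` divides the order of the unitary groups of degree three in characteristic two. -/
theorem three_dvd_psu {F : Type*} [Field F] [Finite F] [CharP F 2] {q : ℕ} : 3 ∣ Nat.card (Cfsg.PSU 3 F q) := by
  have hmem : ∀ σ : Equiv.Perm (Fin 3), PNilCrit.permEl F σ ∈ Cfsg.SU 3 F q := fun σ u v => by
    show Cfsg.hermForm 3 F q ((σ.permMatrix F) *ᵥ u) ((σ.permMatrix F) *ᵥ v) = _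
    rw [Matrix.permMatrix_mulVec, Matrix.permMatrix_mulVec]
    exact Equiv.sum_comp σ (fun i => u i * v i ^ q)
  let f : Equiv.Perm (Fin 3) →* Cfsg.SU 3 F q := MonoidHom.mk' (fun σ => ⟨PNilCrit.permEl F σ⁻¹, hmem _⟩) fun σ τ =>
    Subtype.ext ((congrArg (PNilCrit.permEl F) (mul_inv_rev σ τ)).trans
      (Subtype.ext (Matrix.permMatrix_mul τ⁻¹ σ⁻¹)))
  let c : Equiv.Perm (Fin 3) := Equiv.swap 0 1 * Equiv.swap 1 2
  let d : Equiv.Perm (Fin 3) := Equiv.swap 0 1
  have hc : c ^ 3 = 1 ∧ d * c ≠ c * d := by decide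
  have hinj : Function.Injective f := fun σ τ h => by
    refine inv_injective (Equiv.ext fun i => ?_)
    have h2 : σ⁻¹.permMatrix F i (σ⁻¹ i) = τ⁻¹.permMatrix F i (σ⁻¹ i) :=
      congrFun (congrFun (congrArg (fun m : Cfsg.SU 3 F q => ((m : SL(3, F)) : Matrix (Fin 3) (Fin 3) F)) h) i) (σ⁻¹ i)
    simp [Equiv.Perm.permMatrix, PEquiv.toMatrix_apply, Equiv.toPEquiv_apply] at h2
    simpa using h2.symm
  have hne : (f c : Cfsg.PSU 3 F q) ≠ 1 := fun h => by
    rw [QuotientGroup.eq_one_iff, Subgroup.mem_center_iff] at h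
    exact hc.2 (hinj ((map_mul f d c).trans ((h (f d)).trans (map_mul f c d).symm)))
  haveI : Fact (Nat.Prime 3) := ⟨Nat.prime_three⟩
  have h3 : orderOf (f c : Cfsg.PSU 3 F q) = 3 := orderOf_eq_prime (by
    rw [← QuotientGroup.mk_pow, ← map_pow, hc.1, map_one]; rfl) hne
  have h4 := orderOf_dvd_natCard (G := Cfsg.PSU 3 F q) (f c : Cfsg.PSU 3 F q)
  rwa [h3] at h4

/-- A simple group of order prime to three with a strongly embedded subgroup is a Suzuki group. -/
theorem isoSuzuki_of_se {G : Type u} [Group G] [Finite G] [IsSimpleGroup G] (h3 : ¬ 3 ∣ Nat.card G)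
    {H : Subgroup G} (hH : Cfsg.IsStronglyEmbedded H) : Cfsg.Lie.IsoSuzuki G := by
  rcases SEMain.bender_of_simple SEMain.stmt hH with ⟨F, i1, i2, -, ⟨e⟩⟩ | h | ⟨F, i1, i2, n, -, hF, ⟨e⟩⟩
  · exact absurd (Nat.card_congr e.toEquiv ▸ EPPO.three_dvd_psl F) h3
  · exact h
  · haveI : Fact (Nat.Prime 2) := ⟨Nat.prime_two⟩
    haveI : CharP F 2 := charP_of_card_eq_prime_pow (R := F) (p := 2) (f := n * 2) (by rw [hF, pow_mul])
    exact absurd (Nat.card_congr e.toEquiv ▸ three_dvd_psu) h3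

theorem simpleSz_of_exists_se
    (h : ∀ (G : Type u) [Group G] [Finite G] [IsSimpleGroup G], (∃ a b : G, a * b ≠ b * a) → ¬ 3 ∣ Nat.card G →
      ∃ H : Subgroup G, Cfsg.IsStronglyEmbedded H) : SimpleSz.{u} := fun G _ _ _ hna h3 => by
  obtain ⟨H, hH⟩ := h G hna h3
  exact isoSuzuki_of_se h3 hH

end Cfsg.Agent.ThreePrime
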