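import Cfsg.Agent.Lib.ThreePrime.Theta

/-!
# Cutting the subgroup over the centralisers down to `O(M) N(A)`
-/

set_option autoImplicit false
set_option linter.style.haveILetI false
set_option linter.unusedSectionVars false

namespace Cfsg.Agent.ThreePrime

open Subgroup

universe u

variable {G : Type u} [Group G] [Finite G] {A : Subgroup G} {S : Sylow 2 G}

/-- A proper subgroup over `N(A)` and the centralisers can be taken of the form `O(M) N(A)`. -/
theorem exists_good (hG : Min3 G) (hA : Closed A S) {M : Subgroup G} (hM : M ≠ ⊤)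
    (hN : normalizer (A : Set G) ≤ M) (hC : ∀ a ∈ A, a ≠ 1 → centralizer ({a} : Set G) ≤ M) :
    ∃ M' : Subgroup G, M' ≠ ⊤ ∧ normalizer (A : Set G) ≤ M' ∧
      (∀ a ∈ A, a ≠ 1 → centralizer ({a} : Set G) ≤ M') ∧
      ∀ x ∈ M', ∃ c ∈ oddIn M', ∃ n ∈ normalizer (A : Set G), x = c * n := by
  classical
  haveI : Fact (Nat.Prime 2) := ⟨Nat.prime_two⟩
  have hAN : A ≤ normalizer (A : Set G) := Subgroup.le_normalizer
  have hB : ScIn M A := hA.scIn (hAN.trans hN)
  obtain ⟨T, hBe, hsc⟩ := hB.exists_closed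
  have hH := hG.framed hM
  set Ab := (A.subgroupOf M).map (bar M) with hAb
  -- the moved components
  let mv : G → Set (Subgroup (↥M ⧸ Cfsg.pPrimeCore 2 ↥M)) := fun a =>
    {L | Cfsg.IsComponent L ∧ a ∉ kerIn M A L}
  have hconjmap : ∀ (n : G), ∀ hn : n ∈ normalizer (A : Set G), ∀ (L : Subgroup (↥M ⧸ Cfsg.pPrimeCore 2 ↥M)),
      ∀ a : G, n * a * n⁻¹ ∈ kerIn M A (L.map (MulAut.conj (bar M ⟨n, hN hn⟩)).toMonoidHom) ↔ a ∈ kerIn M A L := by
    intro n hn L a
    rw [mem_kerIn hB.le, mem_kerIn hB.le]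
    constructor
    · rintro ⟨ha, hc⟩
      have haA : a ∈ A := (mem_normalizer_iff.1 hn a).2 ha
      refine ⟨haA, mem_centralizer_iff.2 fun l hl => ?_⟩
      have h := mem_centralizer_iff.1 hc _ ⟨l, hl, rfl⟩
      have e : bar M ⟨n * a * n⁻¹, hB.le ha⟩ = bar M ⟨n, hN hn⟩ * bar M ⟨a, hB.le haA⟩ * (bar M ⟨n, hN hn⟩)⁻¹ := by
        rw [← map_inv, ← map_mul, ← map_mul]; rfl
      rw [e] at h
      simp only [MulEquiv.coe_toMonoidHom, MulAut.conj_apply] at h
      refine mul_left_cancel (a := bar M ⟨n, hN hn⟩) (mul_right_cancel (b := (bar M ⟨n, hN hn⟩)⁻¹) ?_)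
      convert h using 1 <;> group
    · rintro ⟨ha, hc⟩
      have hna := (mem_normalizer_iff.1 hn a).1 ha
      refine ⟨hna, mem_centralizer_iff.2 ?_⟩
      rintro _ ⟨l, hl, rfl⟩
      have e : bar M ⟨n * a * n⁻¹, hB.le hna⟩ = bar M ⟨n, hN hn⟩ * bar M ⟨a, hB.le ha⟩ * (bar M ⟨n, hN hn⟩)⁻¹ := by
        rw [← map_inv, ← map_mul, ← map_mul]; rfl
      rw [e]
      simp only [MulEquiv.coe_toMonoidHom, MulAut.conj_apply]
      calc _ = bar M ⟨n, hN hn⟩ * (l * bar M ⟨a, hB.le ha⟩) * (bar M ⟨n, hN hn⟩)⁻¹ := by group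
        _ = bar M ⟨n, hN hn⟩ * (bar M ⟨a, hB.le ha⟩ * l) * (bar M ⟨n, hN hn⟩)⁻¹ := by
            rw [mem_centralizer_iff.1 hc l hl]
        _ = _ := by group
  have hwinv : ∀ n ∈ normalizer (A : Set G), ∀ a, (mv (n * a * n⁻¹)).ncard = (mv a).ncard := by
    intro n hn a
    have e : mv (n * a * n⁻¹) =
        (fun L : Subgroup (↥M ⧸ Cfsg.pPrimeCore 2 ↥M) => L.map (MulAut.conj (bar M ⟨n, hN hn⟩)).toMonoidHom) '' mv a := by
      ext L
      constructor
      · rintro ⟨hL, hLa⟩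
        refine ⟨L.map (MulAut.conj (bar M ⟨n, hN hn⟩)⁻¹).toMonoidHom, ⟨Components.component_conj hL _, fun h => hLa ?_⟩, ?_⟩
        · have := (hconjmap n hn (L.map (MulAut.conj (bar M ⟨n, hN hn⟩)⁻¹).toMonoidHom) a).2 h
          rwa [LEBasic.map_conj_map_conj, mul_inv_cancel, show MulAut.conj (1 : ↥M ⧸ Cfsg.pPrimeCore 2 ↥M) =
            MulEquiv.refl _ from map_one MulAut.conj, MulEquiv.toMonoidHom_eq_coe, MulEquiv.coe_monoidHom_refl, Subgroup.map_id] at this
        · show Subgroup.map _ (Subgroup.map _ L) = L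
          rw [LEBasic.map_conj_map_conj, mul_inv_cancel, show MulAut.conj (1 : ↥M ⧸ Cfsg.pPrimeCore 2 ↥M) =
            MulEquiv.refl _ from map_one MulAut.conj, MulEquiv.toMonoidHom_eq_coe, MulEquiv.coe_monoidHom_refl, Subgroup.map_id]
      · rintro ⟨L', ⟨hL', hL'a⟩, rfl⟩
        exact ⟨Components.component_conj hL' _, fun h => hL'a ((hconjmap n hn L' a).1 h)⟩
    rw [e, Set.ncard_image_of_injective _ (Subgroup.map_injective (MulAut.conj _).injective)]
  -- at most one moved component, and then with trivial kernel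
  have hone : ∀ L L', Cfsg.IsComponent L → Cfsg.IsComponent L' → kerIn M A L ≠ A → kerIn M A L' ≠ A → L = L' := by
    intro L L' hL hL' hmL hmL'
    by_contra hne
    obtain ⟨P, hPK, hPZ, -⟩ := (hB.kerIn_or_piece hG hM hL).resolve_left hmL
    obtain ⟨P', hPK', hPZ', -⟩ := (hB.kerIn_or_piece hG hM hL').resolve_left hmL'
    have hsingle : ∀ (L L' : Subgroup (↥M ⧸ Cfsg.pPrimeCore 2 ↥M)), Cfsg.IsComponent L → Cfsg.IsComponent L' →
        L ≠ L' → ∀ z ∈ A, z ∈ compIn M L → z ∈ kerIn M A L' := by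
      intro L L' hL hL' hne z hzA hz
      obtain ⟨⟨y, hyM⟩, hy, rfl⟩ := hz
      exact (mem_kerIn hB.le).2 ⟨hzA, (commutator_eq_bot_iff_le_centralizer.1
        (Components.components_commute hL hL' hne)) hy⟩
    obtain ⟨z, hz, hz1⟩ := P.exists_ne_one
    obtain ⟨z', hz', hz'1⟩ := P'.exists_ne_one
    have hmv : ∀ (Q : Piece A) (K : Subgroup (↥M ⧸ Cfsg.pPrimeCore 2 ↥M)), Cfsg.IsComponent K →
        Q.K = kerIn M A K → Q.Z ≤ compIn M K → ∀ w ∈ Q.Z, w ≠ 1 → mv w = {K} := by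
      intro Q K hK hQK hQZ w hw hw1
      ext R
      refine ⟨fun ⟨hR, hRw⟩ => ?_, fun h => ?_⟩
      · by_contra h
        exact hRw (hsingle K R hK hR (fun e => h e.symm) w (Q.hZ hw) (hQZ hw))
      · rw [Set.mem_singleton_iff] at h
        subst h
        exact ⟨hK, fun h => hw1 (Q.disj w hw (hQK ▸ h))⟩
    have hz2 : mv (z * z') = {L, L'} := by
      ext R
      refine ⟨fun ⟨hR, hRw⟩ => ?_, fun h => ?_⟩
      · by_contra h
        simp only [Set.mem_insert_iff, Set.mem_singleton_iff, not_or] at h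
        exact hRw (mul_mem (hsingle L R hL hR (Ne.symm h.1) z (P.hZ hz) (hPZ hz))
          (hsingle L' R hL' hR (Ne.symm h.2) z' (P'.hZ hz') (hPZ' hz')))
      · rcases h with rfl | rfl
        · refine ⟨hL, fun h => hz1 (P.disj z hz (hPK ▸ ?_))⟩
          have := mul_mem h (inv_mem (hsingle L' R hL' hL (Ne.symm hne) z' (P'.hZ hz') (hPZ' hz')))
          rwa [mul_inv_cancel_right] at this
        · refine ⟨hL', fun h => hz'1 (P'.disj z' hz' (hPK' ▸ ?_))⟩
          have := mul_mem (inv_mem (hsingle L R hL hL' hne z (P.hZ hz) (hPZ hz))) h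
          rwa [inv_mul_cancel_left] at this
    have hzz : z * z' ≠ 1 := fun e => by
      have h : L ∈ mv (z * z') := hz2.symm ▸ Set.mem_insert _ _
      exact h.2 (e ▸ one_mem _)
    obtain ⟨n, hn, hne'⟩ := hA.one_orbit hM hN hC (P.hZ hz) hz1 (mul_mem (P.hZ hz) (P'.hZ hz')) hzz
    have h := hwinv n hn z
    rw [hne', hz2, hmv P L hL hPK hPZ z hz hz1, Set.ncard_pair hne, Set.ncard_singleton] at h
    omega
  have hfaith : ∀ L, Cfsg.IsComponent L → kerIn M A L ≠ A → kerIn M A L = ⊥ := by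
    intro L hL hmL
    by_contra hne
    refine hmL (hA.eq_of_invariant inf_le_right hne fun n hn a ha => ?_)
    have hL' := Components.component_conj hL (bar M ⟨n, hN hn⟩)
    have h := (hconjmap n hn L a).2 ha
    by_cases hm : kerIn M A (L.map (MulAut.conj (bar M ⟨n, hN hn⟩)).toMonoidHom) = A
    · exfalso
      refine hmL (le_antisymm inf_le_right fun b hb => ?_)
      exact (hconjmap n hn L b).1 (hm.symm ▸ (mem_normalizer_iff.1 hn b).1 hb)
    · rwa [hone _ L hL' hL hm hmL] at h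
  -- the centralisers lie in `O(M) N(A)`
  refine ⟨oddIn M ⊔ normalizer (A : Set G), ?_, le_sup_right, ?_, ?_⟩
  · exact fun h => hM (eq_top_iff.2 (h ▸ sup_le (map_subtype_le _) hN))
  · intro a ha ha1 x hx
    have hxM := hC a ha ha1 hx
    obtain ⟨e, he, m, hm, hxe⟩ := exists_layer_mul hH hBe hsc (bar M ⟨x, hxM⟩)
    have hmem : bar M ⟨x, hxM⟩ ∈ normalizer (Ab : Set (↥M ⧸ Cfsg.pPrimeCore 2 ↥M)) := by
      rw [hxe]
      refine mul_mem ?_ hm
      have hmemAb : ∀ {b : G} (hb : b ∈ A), bar M ⟨b, hB.le hb⟩ ∈ Ab := fun {b} hb => ⟨⟨b, hB.le hb⟩, hb, rfl⟩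
      have hcent : ∀ K, Cfsg.IsComponent K → kerIn M A K = A →
          K ≤ centralizer (Ab : Set (↥M ⧸ Cfsg.pPrimeCore 2 ↥M)) := by
        intro K hK hKA k hk
        refine mem_centralizer_iff.2 ?_
        rintro _ ⟨⟨b, hbM⟩, hb, rfl⟩
        exact (mem_centralizer_iff.1 ((mem_kerIn hB.le).1 (hKA.symm ▸ hb)).2 k hk).symm
      by_cases hex : ∃ L, Cfsg.IsComponent L ∧ kerIn M A L ≠ A
      · obtain ⟨L, hL, hmL⟩ := hex
        obtain ⟨Φ₀⟩ := hH.frame L hL
        obtain ⟨Φ, hΦ⟩ := exists_aligned (T := T) hL.1 Φ₀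
        set D := Cfsg.layer (↥M ⧸ Cfsg.pPrimeCore 2 ↥M) ⊓ centralizer (Ab : Set (↥M ⧸ Cfsg.pPrimeCore 2 ↥M)) with hD
        have hle : Cfsg.layer (↥M ⧸ Cfsg.pPrimeCore 2 ↥M) ≤ D ⊔ L := Components.layer_le_iff.2 fun K hK => by
          by_cases hKA : kerIn M A K = A
          · exact (le_inf (Components.component_le_layer hK) (hcent K hK hKA)).trans le_sup_left
          · rw [hone K L hK hL hKA hmL]; exact le_sup_right
        have he' : e ∈ ((D ⊔ L : Subgroup _) : Set (↥M ⧸ Cfsg.pPrimeCore 2 ↥M)) := hle he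
        rw [Subgroup.coe_mul_of_left_le_normalizer_right D L
          (inf_le_left.trans (Components.layer_le_normalizer_component hL))] at he'
        obtain ⟨d, hd, l, hl, rfl⟩ := he'
        refine mul_mem (Subgroup.centralizer_le_normalizer _ hd.2) ?_
        -- `l` conjugates a nontrivial element of the root centre into the root group
        refine mem_normalizer_of_borel hH hBe hsc hL hΦ hl ?_
        set ab := bar M ⟨a, hB.le ha⟩ with hab
        have hba : ab ∈ Ab := hmemAb ha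
        have hbb : m * ab * m⁻¹ ∈ Ab := (mem_normalizer_iff.1 hm _).1 hba
        have hfix : l * (m * ab * m⁻¹) * l⁻¹ = ab := by
          have h1 : bar M ⟨x, hxM⟩ * ab = ab * bar M ⟨x, hxM⟩ := by
            rw [hab, ← map_mul, ← map_mul]
            exact congrArg _ (Subtype.ext (mem_centralizer_singleton_iff.1 hx))
          rw [hxe] at h1
          have h2 := mem_centralizer_iff.1 hd.2 _ hba
          calc l * (m * ab * m⁻¹) * l⁻¹ = d⁻¹ * (d * l * m * ab) * (m⁻¹ * l⁻¹) := by group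
            _ = d⁻¹ * (ab * (d * l * m)) * (m⁻¹ * l⁻¹) := by rw [h1]
            _ = d⁻¹ * (ab * d) := by group
            _ = ab := by rw [h2]; group
        obtain ⟨za, hza, hea⟩ := exists_act_zGroup hH hBe hsc hL hΦ hba
        obtain ⟨zb, hzb, heb⟩ := exists_act_zGroup hH hBe hsc hL hΦ hbb
        have hza1 : za ≠ 1 := by
          intro e0
          rw [e0, map_one] at hea
          have hc := Φ.mem_centralizer_of_act _ hea
          refine ha1 ?_
          have : a ∈ kerIn M A L := (mem_kerIn hB.le).2 ⟨ha, hc⟩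
          rwa [hfaith L hL hmL, mem_bot] at this
        have hzeq : Φ.π ⟨l, hl⟩ * zb * (Φ.π ⟨l, hl⟩)⁻¹ = za := sz_conj_injective Φ.hS (by
          rw [map_mul, map_mul, map_inv, ← Φ.act_of_mem hl, ← heb, ← hea, ← map_inv, ← map_mul, ← map_mul]
          exact congrArg _ (Subtype.ext hfix))
        refine Suzuki.fix_pinf_of_conj_mem Φ.hS (Suzuki.zGroup_le Φ.hS hzb) (fun e0 => hza1 ?_)
          (hzeq.symm ▸ Suzuki.zGroup_le Φ.hS hza)
        rw [← hzeq, e0]; group
      · push Not at hex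
        have hle : Cfsg.layer (↥M ⧸ Cfsg.pPrimeCore 2 ↥M) ≤ centralizer (Ab : Set (↥M ⧸ Cfsg.pPrimeCore 2 ↥M)) :=
          Components.layer_le_iff.2 fun K hK => hcent K hK (hex K hK)
        exact Subgroup.centralizer_le_normalizer _ (hle he)
    rw [hAb, ← Components.map_normalizer_eq (P := A.subgroupOf M) (Cfsg.Agent.PBasic.pPrimeCore_coprime 2 ↥M)
      (hA.isPGroup.comap_of_injective M.subtype M.subtype_injective)] at hmem
    obtain ⟨n, hn, hne⟩ := hmem
    have hnA : (n : G) ∈ normalizer (A : Set G) := mem_normalizer_fintype fun b hb =>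
      ((mem_normalizer_iff.1 hn ⟨b, hB.le hb⟩).1 hb :)
    have hc : x * (n : G)⁻¹ ∈ oddIn M := by
      refine ⟨⟨x, hxM⟩ * n⁻¹, ?_, rfl⟩
      rw [SetLike.mem_coe, ← QuotientGroup.eq_one_iff]
      show bar M (⟨x, hxM⟩ * n⁻¹) = 1
      rw [map_mul, map_inv, hne, mul_inv_cancel]
    have := mul_mem (mem_sup_left (T := normalizer (A : Set G)) hc) (mem_sup_right (S := oddIn M) hnA)
    rwa [inv_mul_cancel_right] at this
  · intro x hx
    haveI := Cfsg.Agent.PBasic.pPrimeCore_characteristic 2 ↥M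
    have hnorm : normalizer (A : Set G) ≤ normalizer ((oddIn M : Subgroup G) : Set G) :=
      hN.trans (AxB.le_normalizer_map_subtype inferInstance)
    have hx' : x ∈ ((oddIn M ⊔ normalizer (A : Set G) : Subgroup G) : Set G) := hx
    rw [Subgroup.coe_mul_of_right_le_normalizer_left (oddIn M) (normalizer (A : Set G)) hnorm] at hx'
    obtain ⟨c, hc, n, hn, rfl⟩ := hx'
    refine ⟨c, ?_, n, hn, rfl⟩
    set M' := oddIn M ⊔ normalizer (A : Set G) with hM'
    haveI hno : ((oddIn M).subgroupOf M').Normal :=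
      (normal_subgroupOf_iff_le_normalizer le_sup_left).2 (sup_le Subgroup.le_normalizer hnorm)
    refine ⟨⟨c, mem_sup_left hc⟩, Cfsg.Agent.PBasic.le_pPrimeCore (N := (oddIn M).subgroupOf M') hno ?_ hc, rfl⟩
    rw [Nat.card_congr (subgroupOfEquivOfLe le_sup_left).toEquiv, oddIn, card_map_of_injective M.subtype_injective]
    exact Cfsg.Agent.PBasic.pPrimeCore_coprime 2 ↥M

end Cfsg.Agent.ThreePrime
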