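import Cfsg.Agent.Lib.ThreePrime.ThetaOne
import Cfsg.Agent.Lib.ThreePrime.Refine
import Cfsg.Agent.Lib.ThreePrime.ConsumersBasic

/-!
# The classification of the simple groups of order prime to three, from the final step
-/

set_option autoImplicit false
set_option linter.style.haveILetI false
set_option linter.unusedSectionVars false

namespace Cfsg.Agent.ThreePrime

open Subgroup

universe u

/-- A proper subgroup over `N(A)` and all the centralisers of the elements of `A#`. -/
theorem exists_over {G : Type u} [Group G] [Finite G] {A : Subgroup G} {S : Sylow 2 G} (hG : Min3 G)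
    (hA : Closed A S) :
    ∃ M : Subgroup G, M ≠ ⊤ ∧ normalizer (A : Set G) ≤ M ∧ ∀ a ∈ A, a ≠ 1 → centralizer ({a} : Set G) ≤ M := by
  by_cases h : ∃ a ∈ A, a ≠ 1 ∧ Cfsg.centralizerPPrimeCore 2 a ≠ ⊥
  · obtain ⟨a, ha, ha1, hne⟩ := h
    exact exists_over_of_core hG hA ha ha1 hne
  · push Not at h
    exact exists_over_of_trivial hG hA fun a ha ha1 =>
      (Subgroup.map_eq_bot_iff_of_injective _ (Subgroup.subtype_injective _)).1 (h a ha ha1)

/-- A minimal group has a strongly embedded subgroup. -/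
theorem Min3.exists_se (hE : EndStmt.{u}) {G : Type u} [Group G] [Finite G] (hG : Min3 G) :
    ∃ H : Subgroup G, Cfsg.IsStronglyEmbedded H := by
  obtain ⟨S, A, hA⟩ := hG.exists_closed
  obtain ⟨M, hM, hN, hC⟩ := exists_over hG hA
  obtain ⟨M', hM', hN', hC', hdec⟩ := exists_good hG hA hM hN hC
  exact hE G S A hG hA M' hM' hN' hC' hdec

theorem simpleSz_of_end (hE : EndStmt.{u}) : SimpleSz.{u} := by
  suffices H : ∀ n, ∀ (G : Type u) [Group G] [Finite G] [IsSimpleGroup G], Nat.card G = n →
      (∃ a b : G, a * b ≠ b * a) → ¬ 3 ∣ Nat.card G → Cfsg.Lie.IsoSuzuki G from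
    fun G _ _ _ hna h3 => H _ G rfl hna h3
  intro n
  induction n using Nat.strong_induction_on with
  | _ n ih =>
    intro G _ _ hs hn hna h3
    obtain ⟨H, hH⟩ := Min3.exists_se hE (G := G)
      ⟨hs, hna, h3, fun K _ _ _ hK hK3 hlt => ih _ (hn ▸ hlt) K rfl hK hK3⟩
    exact isoSuzuki_of_se h3 hH

end Cfsg.Agent.ThreePrime
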