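import Cfsg.Agent.Lib.ThreePrime.Frame
import Cfsg.Agent.Lib.Components.LocalBalance

/-!
# Balance for commuting involutions
-/

set_option autoImplicit false
set_option linter.style.haveILetI false
set_option linter.unusedSectionVars false

namespace Cfsg.Agent.ThreePrime

open Subgroup

universe u v

theorem signalizerDelta_eq {X : Type*} [Group X] {A : Subgroup X} {x : X} (hx : x ∈ A) (hx1 : x ≠ 1)
    (h : ∀ y ∈ A, y = 1 ∨ y = x) : Cfsg.signalizerDelta 2 A = Cfsg.centralizerPPrimeCore 2 x := by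
  refine le_antisymm (iInf_le_of_le ⟨x, hx, hx1⟩ le_rfl) (le_iInf ?_)
  rintro ⟨y, hy, hy1⟩
  obtain rfl := (h y hy).resolve_left hy1
  exact le_rfl

theorem eq_one_or_eq_of_card_two {X : Type*} [Group X] [Finite X] {A : Subgroup X} (hA : Nat.card A = 2) {x : X}
    (hx : x ∈ A) (hx1 : x ≠ 1) : ∀ y ∈ A, y = 1 ∨ y = x := by
  intro y hy
  by_contra h
  push Not at h
  have h3 : ({1, x, y} : Set X) ⊆ A := by
    rintro z (rfl | rfl | rfl)
    exacts [one_mem _, hx, hy]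
  have h4 := Set.ncard_le_ncard h3 A.carrier.toFinite
  have h5 : ({1, x, y} : Set X).ncard = 3 := by
    rw [Set.ncard_eq_three]
    exact ⟨1, x, y, fun e => hx1 e.symm, fun e => h.1 e.symm, fun e => h.2 e.symm, rfl⟩
  rw [h5, ← Nat.card_coe_set_eq] at h4
  change 3 ≤ Nat.card A at h4
  omega

/-- A Suzuki group is locally balanced. -/
theorem isLocallyBalanced_sz {F : Type v} [Field F] [Fintype F] {m : ℕ} (h : Suzuki.SzField F m) :
    Cfsg.IsLocallyKBalanced 2 1 (Cfsg.Sz F m) := by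
  haveI : Fact (Nat.Prime 2) := ⟨Nat.prime_two⟩
  haveI : Finite (MulAut (Cfsg.Sz F m)) := Finite.of_injective (fun e : MulAut (Cfsg.Sz F m) => e.toEquiv)
    MulEquiv.toEquiv_injective
  intro S hS A hA hcard
  obtain ⟨x, hx, hx1⟩ : ∃ x ∈ A, x ≠ 1 := by
    by_contra hne
    push Not at hne
    rw [(eq_bot_iff_forall A).2 hne, Subgroup.card_bot] at hcard
    norm_num at hcard
  rw [signalizerDelta_eq hx hx1 (eq_one_or_eq_of_card_two (by rw [hcard, pow_one]) hx hx1), eq_bot_iff]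
  intro d hd
  obtain ⟨u, hu, hxu⟩ := exists_inner_of_sq h (x : MulAut (Cfsg.Sz F m)) (by
    rw [← pow_two]; exact congrArg Subtype.val (hA.2 x hx))
  have hu1 : u ≠ 1 := fun e => hx1 (Subtype.ext (by rw [hxu, e, map_one]; rfl))
  obtain ⟨g, hg⟩ := Suzuki.exists_conj_mem_rootGroup h (x := u) (n := 1) (by rw [pow_one, pow_two, hu])
  have hg2 : g * u * g⁻¹ * (g * u * g⁻¹) = 1 := by
    rw [show g * u * g⁻¹ * (g * u * g⁻¹) = g * (u * u) * g⁻¹ by group, hu]; group
  have hz : g * u * g⁻¹ ∈ Suzuki.zGroup h := Suzuki.involution_in_rootGroup h hg hg2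
  have hz1 : g * u * g⁻¹ ≠ 1 := by rwa [Ne, conj_eq_one_iff]
  obtain ⟨⟨d', hd'⟩, hdO, rfl⟩ := hd
  -- `d` fixes the centraliser of `u`
  have hfix : ∀ c : Cfsg.Sz F m, c * u = u * c → (d' : MulAut (Cfsg.Sz F m)) c = c := by
    intro c hc
    have hdu : (d' : MulAut (Cfsg.Sz F m)) u = u := by
      have h1 := congrArg (fun e : S => (e : MulAut (Cfsg.Sz F m)))
        (mem_centralizer_singleton_iff.1 hd')
      simp only [Subgroup.coe_mul, hxu] at h1
      refine sz_conj_injective h (MulEquiv.ext fun z => ?_)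
      have h2 := MulEquiv.ext_iff.1 h1 ((d' : MulAut (Cfsg.Sz F m)).symm z)
      simp only [MulAut.mul_apply, MulAut.conj_apply, map_mul, map_inv, MulEquiv.apply_symm_apply] at h2 ⊢
      exact h2
    let γ : S := ⟨MulAut.conj c, hS ⟨c, rfl⟩⟩
    have hγ : γ ∈ centralizer ({x} : Set S) := mem_centralizer_singleton_iff.2 (Subtype.ext (by
      show MulAut.conj c * (x : MulAut (Cfsg.Sz F m)) = x * MulAut.conj c
      rw [hxu, ← map_mul, ← map_mul, hc]))
    haveI : (Cfsg.pPrimeCore 2 ↥(centralizer ({x} : Set S))).Normal := FittingCores.pPrimeCore_normal 2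
    have hw : (⟨d', hd'⟩ : centralizer ({x} : Set S)) * ⟨γ, hγ⟩ * (⟨d', hd'⟩)⁻¹ * (⟨γ, hγ⟩)⁻¹ ∈
        Cfsg.pPrimeCore 2 ↥(centralizer ({x} : Set S)) := by
      rw [mul_assoc _ _ (⟨γ, hγ⟩ : centralizer ({x} : Set S))⁻¹, mul_assoc _ (⟨γ, hγ⟩ : centralizer ({x} : Set S))]
      exact mul_mem hdO (by simpa [mul_assoc] using (inferInstance : (Cfsg.pPrimeCore 2
        ↥(centralizer ({x} : Set S))).Normal).conj_mem _ (inv_mem hdO) ⟨γ, hγ⟩)
    have hodd := Cfsg.Agent.PBasic.coprime_orderOf_of_mem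
      (Cfsg.Agent.PBasic.pPrimeCore_coprime 2 ↥(centralizer ({x} : Set S))) hw
    set w := (d' : MulAut (Cfsg.Sz F m)) c * c⁻¹ with hwdef
    have hwe : (((⟨d', hd'⟩ : centralizer ({x} : Set S)) * ⟨γ, hγ⟩ * (⟨d', hd'⟩)⁻¹ * (⟨γ, hγ⟩)⁻¹ :
        centralizer ({x} : Set S)) : S).1 = MulAut.conj w := by
      refine MulEquiv.ext fun z => ?_
      show (d' : MulAut (Cfsg.Sz F m)) (c * ((d' : MulAut (Cfsg.Sz F m))⁻¹ ((MulAut.conj c)⁻¹ z)) * c⁻¹) = _
      simp [MulAut.conj_apply, hwdef, map_mul, mul_assoc]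
    rw [← orderOf_coe, ← orderOf_coe, hwe, orderOf_injective _ (sz_conj_injective h)] at hodd
    have hwu : w * u = u * w := by
      have h1 : (d' : MulAut (Cfsg.Sz F m)) c * u = u * (d' : MulAut (Cfsg.Sz F m)) c := by
        conv_lhs => rw [← hdu, ← map_mul, hc, map_mul, hdu]
      exact ((show Commute ((d' : MulAut (Cfsg.Sz F m)) c) u from h1).mul_left
        (show Commute c u from hc).inv_left).eq
    have hw2 : g * w * g⁻¹ ∈ Suzuki.rootGroup h := by
      refine Suzuki.centralizer_le h hg hz1 (mem_centralizer_singleton_iff.2 ?_)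
      rw [show g * w * g⁻¹ * (g * u * g⁻¹) = g * (w * u) * g⁻¹ by group, hwu]; group
    obtain ⟨n, hn⟩ := (Suzuki.isPGroup_rootGroup h) ⟨_, hw2⟩
    have hn' : (g * w * g⁻¹) ^ 2 ^ n = 1 := congrArg Subtype.val hn
    rw [conj_pow, conj_eq_one_iff] at hn'
    have h1 : orderOf w = 1 := Nat.eq_one_of_dvd_coprimes (hodd.pow_right n) dvd_rfl (orderOf_dvd_of_pow_eq_one hn')
    exact mul_inv_eq_one.1 (orderOf_eq_one_iff.1 h1)
  rw [mem_bot]
  have hβ : (MulAut.conj g * (d' : MulAut (Cfsg.Sz F m)) * (MulAut.conj g)⁻¹ : MulAut (Cfsg.Sz F m)) = 1 := by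
    have hoddd := Cfsg.Agent.PBasic.coprime_orderOf_of_mem
      (Cfsg.Agent.PBasic.pPrimeCore_coprime 2 ↥(centralizer ({x} : Set S))) hdO
    rw [← orderOf_coe, ← orderOf_coe] at hoddd
    refine eq_one_of_fix_zGroup h _ (fun z hzm => ?_) (k := orderOf (d' : MulAut (Cfsg.Sz F m)))
      (Nat.coprime_two_right.1 hoddd) (by rw [conj_pow, pow_orderOf_eq_one, mul_one, mul_inv_cancel])
    show g * (d' : MulAut (Cfsg.Sz F m)) ((MulAut.conj g)⁻¹ z) * g⁻¹ = z
    rw [hfix]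
    · simp [MulAut.conj_apply, mul_assoc]
    · have h1 := zGroup_central h hzm hg
      rw [MulAut.inv_apply, MulAut.conj_symm_apply]
      calc g⁻¹ * z * g * u = g⁻¹ * (z * (g * u * g⁻¹)) * g := by group
        _ = g⁻¹ * ((g * u * g⁻¹) * z) * g := by rw [h1]
        _ = u * (g⁻¹ * z * g) := by group
  rw [mul_inv_eq_one, mul_eq_left] at hβ
  exact Subtype.ext hβ

theorem isLocallyBalanced_congr {K : Type u} {K' : Type v} [Group K] [Group K'] [Finite K] [Finite K'] (e : K ≃* K')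
    (h : Cfsg.IsLocallyKBalanced 2 1 K') : Cfsg.IsLocallyKBalanced 2 1 K := by
  haveI : Fact (Nat.Prime 2) := ⟨Nat.prime_two⟩
  haveI : Finite (MulAut K) := Finite.of_injective (fun e : MulAut K => e.toEquiv) MulEquiv.toEquiv_injective
  haveI : Finite (MulAut K') := Finite.of_injective (fun e : MulAut K' => e.toEquiv) MulEquiv.toEquiv_injective
  intro S hS A hA hcard
  let f : MulAut K ≃* MulAut K' := MulAut.congr e
  let ψ : S ≃* S.map f.toMonoidHom := S.equivMapOfInjective f.toMonoidHom f.injective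
  refine Components.signalizerDelta_eq_bot_of_equiv ψ (h (S.map f.toMonoidHom) ?_ _ ⟨?_, ?_⟩ ?_)
  · rintro _ ⟨k, rfl⟩
    refine ⟨MulAut.conj (e.symm k), hS ⟨_, rfl⟩, MulEquiv.ext fun z => ?_⟩
    show e (e.symm k * e.symm z * (e.symm k)⁻¹) = k * z * k⁻¹
    simp
  · haveI := hA.1
    exact inferInstance
  · rintro _ ⟨a, ha, rfl⟩
    rw [← map_pow, hA.2 a ha, map_one]
  · rw [card_map_of_injective ψ.injective, hcard]

variable {G : Type u} [Group G] [Finite G]

/-- A component of a local quotient has a Suzuki quotient. -/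
theorem Min3.isoSuzuki_component (hG : Min3 G) {Y : Subgroup G} (hY : Y ≠ ⊤) {N : Subgroup Y} [N.Normal]
    {L : Subgroup (↥Y ⧸ N)} (hL : Cfsg.IsComponent L) : Cfsg.Lie.IsoSuzuki (↥L ⧸ center ↥L) := by
  haveI := hL.2.2
  haveI : Finite (↥Y ⧸ N) := Quotient.finite _
  have hd : Nat.card (↥L ⧸ center ↥L) ∣ Nat.card Y :=
    ((center ↥L).card_quotient_dvd_card.trans (card_subgroup_dvd_card L)).trans N.card_quotient_dvd_card
  refine hG.ih _ ?_ (fun h => hG.h3 ((h.trans hd).trans (card_subgroup_dvd_card Y))) ?_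
  · by_contra hne
    push Not at hne
    haveI : Group.IsSolvable (↥L ⧸ center ↥L) := Group.isSolvable_of_comm hne
    haveI : Group.IsSolvable ↥(center ↥L) := Group.isSolvable_of_comm fun a b => Subtype.ext (mem_center_iff.1 b.2 a)
    exact Components.quasisimple_not_solvable hL.2
      ((Group.isSolvable_iff_subgroup_quotient (center ↥L)).2 ⟨‹_›, ‹_›⟩)
  · refine lt_of_le_of_lt (Nat.le_of_dvd Nat.card_pos hd) ?_
    refine lt_of_le_of_ne Y.card_le_card_group fun h => hY (eq_top_of_card_eq Y h)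

theorem Min3.frame (hG : Min3 G) {Y : Subgroup G} (hY : Y ≠ ⊤) {L : Subgroup (↥Y ⧸ Cfsg.pPrimeCore 2 ↥Y)}
    (hL : Cfsg.IsComponent L) : Nonempty (Frame L) :=
  haveI : Finite (↥Y ⧸ Cfsg.pPrimeCore 2 ↥Y) := Quotient.finite _
  haveI : Fact (Nat.Prime 2) := ⟨Nat.prime_two⟩
  exists_frame (Components.pPrimeCore_quotient _) hL (hG.isoSuzuki_component hY hL)

/-- Balance: `O(C(a)) ∩ C(b) ≤ O(C(b))` for commuting involutions. -/
theorem Min3.balance (hG : Min3 G) {a b : G} (ha : a * a = 1) (ha1 : a ≠ 1) (hb1 : b ≠ 1) (hab : a * b = b * a) :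
    Cfsg.centralizerPPrimeCore 2 a ⊓ centralizer {b} ≤ Cfsg.centralizerPPrimeCore 2 b := by
  haveI : Fact (Nat.Prime 2) := ⟨Nat.prime_two⟩
  have hzp : ∀ y ∈ zpowers a, y = 1 ∨ y = a := by
    rintro _ ⟨i, rfl⟩
    rcases Int.even_or_odd i with ⟨j, rfl⟩ | ⟨j, rfl⟩
    · exact Or.inl (by show a ^ _ = 1; rw [← mul_two, mul_comm, zpow_mul, zpow_two, ha, one_zpow])
    · exact Or.inr (by show a ^ _ = a; rw [zpow_add, zpow_mul, zpow_two, ha, one_zpow, one_mul, zpow_one])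
  rw [← signalizerDelta_eq (mem_zpowers a) ha1 hzp]
  have hY : centralizer ({b} : Set G) ≠ ⊤ := hG.centralizer_ne_top hb1
  refine Components.delta_inf_centralizer_le le_rfl ⟨?_, ?_⟩ ?_ ?_ fun K hK => ?_
  · exact inferInstance
  · intro y hy
    rcases hzp y hy with rfl | rfl
    · exact one_pow 2
    · rw [pow_two, ha]
  · rw [Nat.card_zpowers, pow_one, orderOf_eq_prime (by rw [pow_two, ha]) ha1]
  · intro y hy
    rcases hzp y hy with rfl | rfl
    · simp
    · exact hab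
  · obtain ⟨F, i1, i2, m, hm, hF, ⟨e⟩⟩ := hG.isoSuzuki_component hY hK
    exact isLocallyBalanced_congr (e.trans (Suzuki.minorEquiv ⟨hm, hF⟩).symm) (isLocallyBalanced_sz ⟨hm, hF⟩)

end Cfsg.Agent.ThreePrime
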