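import Cfsg.Agent.Lib.ThreePrime.ConsumersBasic
import Cfsg.Agent.Lib.ThreePrime.ConsumersSzAut
import Cfsg.Agent.Lib.Components.Basic
import Cfsg.Agent.Lib.Components.Fitting
import Cfsg.Agent.Lib.LocalEven.FStarAction

/-!
# Components of order prime to three and elements of order three with soluble centraliser
-/

set_option autoImplicit false
set_option linter.style.haveILetI false
set_option linter.unusedSectionVars false

namespace Cfsg.Agent.ThreePrime

open Subgroup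

universe u

variable {G : Type u} [Group G] [Finite G]

/-- The component is normalised. -/
theorem mem_normalizer_component {K : Subgroup G} (hK : Cfsg.IsComponent K) {y : G} (hy : y ^ 3 = 1)
    (hsol : Group.IsSolvable ↥(centralizer ({y} : Set G))) : y ∈ normalizer (K : Set G) := by
  by_contra hyN
  let c : ℕ → Subgroup G := fun i => K.map (MulAut.conj (y ^ i)).toMonoidHom
  have hcomm : ∀ L M : Subgroup G, Cfsg.IsComponent L → Cfsg.IsComponent M → L ≠ M →
      ∀ a ∈ L, ∀ b ∈ M, a * b = b * a := fun L M hL hM hne a ha b hb =>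
    (mem_centralizer_iff.1 ((commutator_eq_bot_iff_le_centralizer.1 (Components.components_commute hL hM hne)) ha) b hb).symm
  have hfix : ∀ i : ℕ, c i = K → y ^ i ∈ normalizer (K : Set G) := fun i hi =>
    mem_normalizer_fintype fun a ha => by
      show y ^ i * a * (y ^ i)⁻¹ ∈ K
      exact hi.le ⟨a, ha, rfl⟩
  have h1 : c 1 ≠ K := fun e => hyN (by simpa using hfix 1 e)
  have h2 : c 2 ≠ K := fun e => hyN (by
    have := mul_mem (hfix 2 e) (hfix 2 e)
    rwa [← pow_add, show 2 + 2 = 3 + 1 from rfl, pow_succ, hy, one_mul] at this)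
  have h12 : c 1 ≠ c 2 := fun e => h1 (by
    refine le_antisymm ?_ ?_
    · rintro _ ⟨a, ha, rfl⟩
      obtain ⟨b, hb, e'⟩ := e.ge ⟨a, ha, rfl⟩
      have e'' : y ^ 1 * b * (y ^ 1)⁻¹ = y ^ 2 * a * (y ^ 2)⁻¹ := e'
      show y ^ 1 * a * (y ^ 1)⁻¹ ∈ K
      have : b = y * a * y⁻¹ := by
        rw [pow_one] at e''
        calc b = y⁻¹ * (y * b * y⁻¹) * y := by group
          _ = y * a * y⁻¹ := by rw [e'']; group
      rw [pow_one, ← this]
      exact hb
    · intro a ha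
      obtain ⟨b, hb, e'⟩ := e.le ⟨a, ha, rfl⟩
      have e'' : y ^ 2 * b * (y ^ 2)⁻¹ = y ^ 1 * a * (y ^ 1)⁻¹ := e'
      refine ⟨b, hb, ?_⟩
      show y ^ 1 * b * (y ^ 1)⁻¹ = a
      rw [pow_one, pow_two] at *
      calc y * b * y⁻¹ = y⁻¹ * (y * y * b * (y * y)⁻¹) * y := by group
        _ = a := by rw [e'']; group)
  have hc : ∀ i, Cfsg.IsComponent (c i) := fun i => Components.component_conj hK _
  have hm : ∀ (i : ℕ) (a : K), y ^ i * a * (y ^ i)⁻¹ ∈ c i := fun i a => ⟨a, a.2, rfl⟩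
  -- the diagonal map
  have hA : ∀ (a b : K), (a : G) * (y ^ 1 * b * (y ^ 1)⁻¹) = y ^ 1 * b * (y ^ 1)⁻¹ * a := fun a b =>
    hcomm K (c 1) hK (hc 1) h1.symm a a.2 _ (hm 1 b)
  have hB : ∀ (a b : K), (a : G) * (y ^ 2 * b * (y ^ 2)⁻¹) = y ^ 2 * b * (y ^ 2)⁻¹ * a := fun a b =>
    hcomm K (c 2) hK (hc 2) h2.symm a a.2 _ (hm 2 b)
  have hC : ∀ (a b : K), y ^ 1 * a * (y ^ 1)⁻¹ * (y ^ 2 * b * (y ^ 2)⁻¹) =
      y ^ 2 * b * (y ^ 2)⁻¹ * (y ^ 1 * a * (y ^ 1)⁻¹) := fun a b =>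
    hcomm (c 1) (c 2) (hc 1) (hc 2) h12 _ (hm 1 a) _ (hm 2 b)
  let δ : K →* G := MonoidHom.mk' (fun a => (a : G) * (y ^ 1 * a * (y ^ 1)⁻¹) * (y ^ 2 * a * (y ^ 2)⁻¹)) fun a b => by
    show ((a * b : K) : G) * _ * _ = _
    rw [coe_mul]
    calc (a : G) * b * (y ^ 1 * (a * b) * (y ^ 1)⁻¹) * (y ^ 2 * (a * b) * (y ^ 2)⁻¹)
        = (a : G) * ((b : G) * (y ^ 1 * a * (y ^ 1)⁻¹)) * ((y ^ 1 * b * (y ^ 1)⁻¹) * (y ^ 2 * a * (y ^ 2)⁻¹)) *
            (y ^ 2 * b * (y ^ 2)⁻¹) := by group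
      _ = (a : G) * (y ^ 1 * a * (y ^ 1)⁻¹) * ((b : G) * (y ^ 2 * a * (y ^ 2)⁻¹)) * (y ^ 1 * b * (y ^ 1)⁻¹) *
            (y ^ 2 * b * (y ^ 2)⁻¹) := by rw [hA b a, hC b a]; group
      _ = _ := by rw [hB b a]; group
  have hδy : ∀ a, δ a ∈ centralizer ({y} : Set G) := fun a => by
    refine mem_centralizer_singleton_iff.2 ?_
    show (a : G) * (y ^ 1 * a * (y ^ 1)⁻¹) * (y ^ 2 * a * (y ^ 2)⁻¹) * y =
      y * ((a : G) * (y ^ 1 * a * (y ^ 1)⁻¹) * (y ^ 2 * a * (y ^ 2)⁻¹))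
    refine (mul_inv_eq_iff_eq_mul.1 ?_).symm
    calc y * ((a : G) * (y ^ 1 * a * (y ^ 1)⁻¹) * (y ^ 2 * a * (y ^ 2)⁻¹)) * y⁻¹
        = (y ^ 1 * a * (y ^ 1)⁻¹) * (y ^ 2 * a * (y ^ 2)⁻¹) * (y ^ 3 * a * (y ^ 3)⁻¹) := by group
      _ = (y ^ 1 * a * (y ^ 1)⁻¹) * (y ^ 2 * a * (y ^ 2)⁻¹) * a := by rw [hy]; group
      _ = _ := by rw [mul_assoc (y ^ 1 * (a : G) * (y ^ 1)⁻¹), ← hB a a, ← mul_assoc, ← hA a a]
  haveI := hsol
  haveI : Group.IsSolvable ↥(δ.codRestrict _ hδy).range := inferInstance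
  refine Components.quasisimple_not_solvable hK.2 ?_
  haveI : Group.IsSolvable ↥(center ↥K) := Group.isSolvable_of_comm fun a b => Subtype.ext (mem_center_iff.1 b.2 a)
  refine Group.isSolvable_of_ker_le_range (center ↥K).subtype (δ.codRestrict _ hδy) fun a ha => ?_
  rw [range_subtype, mem_center_iff]
  intro b
  have ha' : (a : G) * (y ^ 1 * a * (y ^ 1)⁻¹) * (y ^ 2 * a * (y ^ 2)⁻¹) = 1 := congrArg Subtype.val ha
  have e : (a : G) = (y ^ 2 * a * (y ^ 2)⁻¹)⁻¹ * (y ^ 1 * a * (y ^ 1)⁻¹)⁻¹ := by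
    rw [← mul_inv_rev]
    exact eq_inv_of_mul_eq_one_left (by rw [← mul_assoc]; exact ha')
  refine Subtype.ext ?_
  show (b : G) * a = a * b
  have c1 : Commute (b : G) (y ^ 1 * a * (y ^ 1)⁻¹) := hA b a
  have c2 : Commute (b : G) (y ^ 2 * a * (y ^ 2)⁻¹) := hB b a
  rw [e]
  exact (c2.inv_right.mul_right c1.inv_right).eq

/-- The statement, given the classification of simple groups of order prime to three. -/
theorem S2976_of (hSz : SimpleSz.{u}) {G : Type u} [Group G] [Finite G] (K : Subgroup G) (hK : Cfsg.IsComponent K)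
    (h3 : ¬ 3 ∣ Nat.card ↥K) (y : G) (hy : orderOf y = 3)
    (hsol : Group.IsSolvable ↥(Subgroup.centralizer ({y} : Set G))) :
    (∃ (F : Type) (_ : Field F) (_ : Fintype F), Fintype.card F = 8 ∧
        Nonempty (↥K ⧸ Subgroup.center ↥K ≃* ↥(Cfsg.Lie.Sz F 4))) ∧
      y ∈ Subgroup.normalizer (K : Set G) ∧ (Cfsg.pCore 2 G = ⊥ → IsSimpleGroup ↥K) := by
  classical
  have hy3 : y ^ 3 = 1 := hy ▸ pow_orderOf_eq_one y
  have hyN := mem_normalizer_component hK hy3 hsol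
  haveI := hK.2.1
  haveI hs : IsSimpleGroup (↥K ⧸ center ↥K) := hK.2.2
  have hna : ∃ a b : ↥K ⧸ center ↥K, a * b ≠ b * a := by
    by_contra hne
    push Not at hne
    haveI : Group.IsSolvable (↥K ⧸ center ↥K) := Group.isSolvable_of_comm hne
    haveI : Group.IsSolvable ↥(center ↥K) := Group.isSolvable_of_comm fun a b => Subtype.ext (mem_center_iff.1 b.2 a)
    exact Components.quasisimple_not_solvable hK.2 ((Group.isSolvable_iff_subgroup_quotient (center ↥K)).2 ⟨‹_›, ‹_›⟩)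
  obtain ⟨F, i1, i2, m, hm, hF, ⟨e0⟩⟩ := hSz (↥K ⧸ center ↥K) hna
    (fun h => h3 (h.trans (center ↥K).card_quotient_dvd_card))
  have hS : Suzuki.SzField F m := ⟨hm, hF⟩
  let f : ↥K ⧸ center ↥K ≃* Cfsg.Sz F m := e0.trans (Suzuki.minorEquiv hS).symm
  -- the induced automorphism
  let α₀ : MulAut ↥K := K.normalizerMonoidHom ⟨y, hyN⟩
  have hα₀v : ∀ k : ↥K, (α₀ k : G) = y * k * y⁻¹ := fun k => rfl
  let α : MulAut (↥K ⧸ center ↥K) := QuotientGroup.congr (center ↥K) (center ↥K) α₀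
    (Components.center_map_equiv α₀)
  have hαk : ∀ k : ↥K, α k = (α₀ k : ↥K ⧸ center ↥K) := fun k => rfl
  have hα3 : α ^ 3 = 1 := by
    refine MulEquiv.ext fun q => ?_
    induction q using QuotientGroup.induction_on with | _ k => ?_
    have h0 : α₀ ^ 3 = 1 := by
      rw [show α₀ ^ 3 = K.normalizerMonoidHom (⟨y, hyN⟩ ^ 3) from (map_pow _ _ _).symm,
        show (⟨y, hyN⟩ : normalizer (K : Set G)) ^ 3 = 1 from Subtype.ext hy3, map_one]
    rw [pow_succ, pow_two, MulAut.mul_apply, MulAut.mul_apply, hαk, hαk, hαk, ← MulAut.mul_apply, ← MulAut.mul_apply,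
      mul_assoc, show α₀ * (α₀ * α₀) = α₀ ^ 3 by rw [pow_succ, pow_two, mul_assoc], h0]
    rfl
  -- its fixed points form a soluble group
  set W := (Cfsg.fixedSubgroup α).comap (QuotientGroup.mk' (center ↥K)) with hW
  let ψ : W →* center ↥K := MonoidHom.mk'
    (fun k => ⟨(k : ↥K)⁻¹ * α₀ k, (QuotientGroup.eq (s := center ↥K)).1 ((hαk k).symm.trans k.2).symm⟩)
    fun a b => Subtype.ext (by
      show ((a * b : W) : ↥K)⁻¹ * α₀ ((a * b : W) : ↥K) = ((a : ↥K)⁻¹ * α₀ a) * ((b : ↥K)⁻¹ * α₀ b)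
      have hz : (a : ↥K)⁻¹ * α₀ a ∈ center ↥K := (QuotientGroup.eq (s := center ↥K)).1 ((hαk a).symm.trans a.2).symm
      rw [coe_mul, map_mul, ← mul_assoc _ (b : ↥K)⁻¹, ← mem_center_iff.1 hz (b : ↥K)⁻¹]
      group)
  haveI := hsol
  haveI : Group.IsSolvable ↥ψ.ker := Group.isSolvable_of_isSolvable_injective
    (f := MonoidHom.mk' (fun k : ψ.ker => (⟨((k : W) : ↥K), mem_centralizer_singleton_iff.2 (by
      have e : ((k : W) : ↥K)⁻¹ * α₀ (k : W) = 1 := congrArg Subtype.val (MonoidHom.mem_ker.1 k.2)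
      have e' : y * (((k : W) : ↥K) : G) * y⁻¹ = ((k : W) : ↥K) := by
        rw [← hα₀v]; exact congrArg Subtype.val (inv_mul_eq_one.1 e).symm
      exact (mul_inv_eq_iff_eq_mul.1 e').symm)⟩ : centralizer ({y} : Set G))) fun _ _ => rfl)
    fun a b hab => Subtype.ext (Subtype.ext (Subtype.ext (congrArg Subtype.val hab :)))
  haveI : Group.IsSolvable ↥(center ↥K) := Group.isSolvable_of_comm fun a b => Subtype.ext (mem_center_iff.1 b.2 a)
  haveI : Group.IsSolvable W := Group.isSolvable_of_ker_le_range ψ.ker.subtype ψ (by rw [range_subtype])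
  haveI : Group.IsSolvable ↥(Cfsg.fixedSubgroup α) :=
    Group.isSolvable_of_surjective (f := (QuotientGroup.mk' (center ↥K)).subgroupComap (Cfsg.fixedSubgroup α))
      fun q => by
        obtain ⟨k, hk⟩ := QuotientGroup.mk'_surjective (center ↥K) q.1
        exact ⟨⟨k, show QuotientGroup.mk' (center ↥K) k ∈ Cfsg.fixedSubgroup α from hk.symm ▸ q.2⟩, Subtype.ext hk⟩
  have hm1 : m = 1 := by
    refine eq_one_of_solvable_fix hS (MulAut.congr f α) (by rw [← map_pow, hα3, map_one]) ?_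
    refine Group.isSolvable_of_isSolvable_injective
      (f := (f.symm.toMonoidHom.comp (Cfsg.fixedSubgroup (MulAut.congr f α)).subtype).codRestrict
        (Cfsg.fixedSubgroup α) fun x => ?_) fun a b hab => ?_
    · show α (f.symm x) = f.symm x
      have hx : f (α (f.symm x)) = x := x.2
      exact (f.symm_apply_apply _).symm.trans (congrArg f.symm hx)
    · exact Subtype.ext (f.symm.injective (congrArg Subtype.val hab))
  subst hm1
  refine ⟨⟨F, i1, i2, by rw [hF]; rfl, ⟨e0⟩⟩, hyN, fun hO => ?_⟩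
  -- the centre is trivial
  suffices hZ : center ↥K = ⊥ by
    exact ((QuotientGroup.quotientMulEquivOfEq hZ).trans QuotientGroup.quotientBot).isSimpleGroup_congr.1 hs
  refine Subgroup.eq_bot_of_card_eq _ ?_
  by_contra hne
  obtain ⟨p, hp, hpd⟩ := Nat.exists_prime_and_dvd hne
  haveI : Fact p.Prime := ⟨hp⟩
  have hp2 : p ≠ 2 := by
    rintro rfl
    refine LEFStar.not_dvd_fitting_subnormal hO hK.1 (hpd.trans (card_dvd_of_le ?_))
    haveI : Group.IsNilpotent ↥(center ↥K) :=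
      @CommGroup.isNilpotent _ { (inferInstance : Group ↥(center ↥K)) with
        mul_comm := fun a b => Subtype.ext (mem_center_iff.1 b.2 a) }
    exact Components.subnormal_nilpotent_le_fitting (Subgroup.Normal.isSubnormal inferInstance) ‹_›
  obtain ⟨P⟩ : Nonempty (Sylow p (↥K ⧸ center ↥K)) := inferInstance
  haveI : IsCyclic (P : Subgroup (↥K ⧸ center ↥K)) := by
    obtain ⟨j, hj⟩ := IsPGroup.iff_card.1 P.2
    have hd : p ^ j ∣ 2 ^ 6 * 455 := by
      rw [← hj]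
      refine (card_subgroup_dvd_card _).trans ?_
      rw [Nat.card_congr f.toEquiv, Suzuki.card_Sz hS]
      norm_num
    have hj1 : j ≤ 1 := by
      by_contra hj1
      have hd' : p ^ 2 ∣ 455 := by
        refine Nat.Coprime.dvd_of_dvd_mul_left ?_ ((pow_dvd_pow p (by omega)).trans hd)
        exact Nat.Coprime.pow 2 6 ((Nat.coprime_primes hp Nat.prime_two).2 hp2)
      have hle : p ^ 2 ≤ 455 := Nat.le_of_dvd (by norm_num) hd'
      have hp21 : p ≤ 21 := by nlinarith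
      interval_cases p <;> first | (norm_num at hp; done) | norm_num at hd'
    interval_cases j
    · haveI : Subsingleton (P : Subgroup (↥K ⧸ center ↥K)) := (Nat.card_eq_one_iff_unique.1 (by rw [hj, pow_zero])).1
      exact isCyclic_of_subsingleton
    · exact isCyclic_of_prime_card (p := p) (by rw [hj, pow_one])
  exact not_dvd_center P hpd

end Cfsg.Agent.ThreePrime
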