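import Cfsg.Agent.Lib.ThreePrime.ConsumersBasic
import Cfsg.Agent.Lib.Suzuki.TorType
import Cfsg.Agent.Lib.LocalEven.SylowAux
import Cfsg.Agent.S4051

/-!
# `π`-homogeneous groups of order prime to three, `π` odd
-/

set_option autoImplicit false
set_option linter.style.haveILetI false
set_option linter.unusedSectionVars false

namespace Cfsg.Agent.ThreePrime

open Subgroup

universe u

/-- In a Suzuki group an element of every odd prime order is inverted. -/
theorem exists_inverted {F : Type*} [Field F] [Fintype F] {m : ℕ} (h : Suzuki.SzField F m) {p : ℕ} (hp : p.Prime)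
    (hp2 : p ≠ 2) (hd : p ∣ Nat.card (Cfsg.Sz F m)) :
    ∃ x g : Cfsg.Sz F m, orderOf x = p ∧ g * x * g⁻¹ = x⁻¹ := by
  haveI : Fact p.Prime := ⟨hp⟩
  haveI : Fact (Nat.Prime 2) := ⟨Nat.prime_two⟩
  obtain ⟨C, e, hC, hpC⟩ : ∃ (C : Subgroup (Cfsg.Sz F m)) (e : ℕ), Suzuki.TorType C e ∧ p ∣ Nat.card C := by
    rcases Suzuki.prime_dvd_card_cases h hp hd with e | e | e
    · exact absurd e hp2
    · exact ⟨_, 2, Suzuki.torType_torus h, by rw [Suzuki.card_torus]; exact e⟩
    · obtain ⟨C, hC, hpC⟩ := Suzuki.exists_member h hp e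
      exact ⟨C, 4, Suzuki.torType_member h hC, hpC⟩
  obtain ⟨x, hx⟩ := exists_prime_orderOf_dvd_card' (G := C) p hpC
  obtain ⟨g, hg⟩ := exists_prime_orderOf_dvd_card' (G := normalizer (C : Set (Cfsg.Sz F m))) 2 (by
    rw [hC.card_normalizer]
    rcases hC.he with rfl | rfl
    · exact dvd_mul_right _ _
    · exact dvd_mul_of_dvd_left (by norm_num) _)
  refine ⟨x, g, by rw [orderOf_coe, hx], hC.invert h g.2 (by rw [orderOf_coe, hg]) x.2⟩

variable {G : Type u} [Group G] [Finite G]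

/-- `π`-homogeneity. -/
def Hom (π : Set ℕ) (G : Type u) [Group G] : Prop :=
  ∀ H : Subgroup G, H ≠ ⊥ → (∀ p : ℕ, p.Prime → p ∣ Nat.card ↥H → p ∈ π) →
    ∀ p : ℕ, p.Prime → p ∣ (centralizer (H : Set G)).relIndex (normalizer (H : Set G)) → p ∈ π

theorem cent_normal (A : Subgroup G) :
    ((centralizer (A : Set G)).subgroupOf (normalizer (A : Set G))).Normal := by
  refine ⟨fun c hc m => ?_⟩
  rw [mem_subgroupOf, mem_centralizer_iff] at hc ⊢
  intro w hw
  have h1 := hc _ ((mem_normalizer_iff.mp (inv_mem m.2) w).mp hw)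
  simp only [inv_inv] at h1
  push_cast
  calc w * ((m : G) * c * (m : G)⁻¹) = (m : G) * (((m : G)⁻¹ * w * m) * c) * (m : G)⁻¹ := by group
    _ = (m : G) * c * (m : G)⁻¹ * w := by rw [h1]; group

/-- No element of `π`-order of a quotient is inverted. -/
theorem inverted_quotient_false {π : Set ℕ} (hodd : ∀ p ∈ π, p.Prime ∧ p ≠ 2) (hhom : Hom π G) (M : Subgroup G)
    [M.Normal] {p : ℕ} (hp : p.Prime) (hpπ : p ∈ π) {x g : G ⧸ M} (hx : orderOf x = p) (hg : g * x * g⁻¹ = x⁻¹) :
    False := by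
  haveI : Fact p.Prime := ⟨hp⟩
  set q := QuotientGroup.mk' M with hq
  set U := (zpowers x).comap q with hU
  have hsur : Function.Surjective q := QuotientGroup.mk'_surjective M
  obtain ⟨g₀, rfl⟩ := hsur g
  obtain ⟨P⟩ : Nonempty (Sylow p U) := inferInstance
  set A := (P : Subgroup U).map U.subtype with hA
  have hAU : A ≤ U := map_subtype_le _
  have hgU : A.map (MulAut.conj g₀).toMonoidHom ≤ U := by
    rintro _ ⟨a, ha, rfl⟩
    have ha' : q a ∈ zpowers x := hAU ha
    obtain ⟨i, hi⟩ := mem_zpowers_iff.1 ha'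
    show q (g₀ * a * g₀⁻¹) ∈ zpowers x
    rw [map_mul, map_mul, map_inv, ← hi, ← conj_zpow, hg]
    exact zpow_mem (inv_mem (mem_zpowers x)) i
  obtain ⟨u, hu, hule⟩ := LESylow.exists_conj_le_of_le hgU ((P.2.map _).map _) P
  set n := u * g₀ with hn
  have hnN : n ∈ normalizer (A : Set G) := mem_normalizer_fintype fun a ha => by
    have := hule ⟨g₀ * a * g₀⁻¹, ⟨a, ha, rfl⟩, rfl⟩
    show n * a * n⁻¹ ∈ A
    rwa [hn, show u * g₀ * a * (u * g₀)⁻¹ = u * (g₀ * a * g₀⁻¹) * u⁻¹ by group]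
  -- the image of `A` is not trivial
  obtain ⟨a, haA, ha1⟩ : ∃ a ∈ A, q a ≠ 1 := by
    by_contra hne
    have hle : (P : Subgroup U) ≤ (q.comp U.subtype).ker := fun b hb => by
      rw [MonoidHom.mem_ker]
      by_contra h1
      exact hne ⟨b, ⟨b, hb, rfl⟩, h1⟩
    have hidx : (q.comp U.subtype).ker.index = p := by
      rw [index_ker, MonoidHom.range_comp, range_subtype, hU, map_comap_eq_self_of_surjective hsur, Nat.card_zpowers,
        hx]
    have hd := index_dvd_of_le hle
    rw [hidx] at hd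
    exact P.not_dvd_index hd
  obtain ⟨i, hi⟩ := mem_zpowers_iff.1 (show q a ∈ zpowers x from hAU haA)
  -- `n` inverts the image
  have hun : ∀ i : ℤ, q n * x ^ i * (q n)⁻¹ = (x ^ i)⁻¹ := fun i => by
    obtain ⟨j, hj⟩ := mem_zpowers_iff.1 (show q u ∈ zpowers x from hu)
    rw [← conj_zpow, ← inv_zpow, hn, map_mul, show q u * q g₀ * x * (q u * q g₀)⁻¹ = q u * (q g₀ * x * (q g₀)⁻¹) * (q u)⁻¹ by
      group, hg, ← hj]
    congr 1
    group
  set k := (centralizer (A : Set G)).relIndex (normalizer (A : Set G)) with hk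
  have hA1 : A ≠ ⊥ := fun e => ha1 (by rw [e, mem_bot] at haA; rw [haA, map_one])
  have hkodd : Odd k := by
    rw [← Nat.not_even_iff_odd, even_iff_two_dvd]
    refine fun h2 => (hodd 2 (hhom A hA1 (fun r hr hd => ?_) 2 Nat.prime_two h2)).2 rfl
    obtain ⟨j, hj⟩ := IsPGroup.iff_card.1 (P.2.map U.subtype)
    rw [← hA] at hj
    rw [hj] at hd
    exact (Nat.prime_dvd_prime_iff_eq hr hp).1 (hr.dvd_of_dvd_pow hd) ▸ hpπ
  have hnk : n ^ k ∈ centralizer (A : Set G) := by
    haveI := cent_normal A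
    have h2 := pow_index_mem ((centralizer (A : Set G)).subgroupOf (normalizer (A : Set G))) ⟨n, hnN⟩
    rw [mem_subgroupOf] at h2
    exact h2
  have hfix : q n ^ k * q a * (q n ^ k)⁻¹ = q a := by
    rw [← map_pow, ← map_inv, ← map_mul, ← map_mul, ← (mem_centralizer_iff.1 hnk a haA), mul_inv_cancel_right]
  have hsq : ∀ j : ℕ, q n ^ (2 * j) * x ^ i * (q n ^ (2 * j))⁻¹ = x ^ i := by
    intro j
    induction j with
    | zero => simp
    | succ j ih =>
      rw [show q n ^ (2 * (j + 1)) * x ^ i * (q n ^ (2 * (j + 1)))⁻¹ =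
        q n * (q n * (q n ^ (2 * j) * x ^ i * (q n ^ (2 * j))⁻¹) * (q n)⁻¹) * (q n)⁻¹ by
        rw [show 2 * (j + 1) = 2 * j + 1 + 1 from rfl, pow_succ', pow_succ']; group, ih, hun, ← zpow_neg, hun,
        zpow_neg, inv_inv]
  obtain ⟨j, hj⟩ := hkodd
  rw [hj, pow_succ', ← hi, show q n * q n ^ (2 * j) * x ^ i * (q n * q n ^ (2 * j))⁻¹ =
    q n * (q n ^ (2 * j) * x ^ i * (q n ^ (2 * j))⁻¹) * (q n)⁻¹ by group, hsq, hun, hi] at hfix
  have h2 : (q a) ^ 2 = 1 := by rw [pow_two]; nth_rw 1 [← hfix]; exact inv_mul_cancel _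
  have h3 : orderOf (q a) ∣ p := by
    rw [← hi, ← hx]
    exact orderOf_dvd_of_mem_zpowers (zpow_mem (mem_zpowers x) i)
  exact ha1 (orderOf_eq_one_iff.1 (Nat.eq_one_of_dvd_coprimes
    ((Nat.coprime_primes hp Nat.prime_two).2 (hodd p hpπ).2) h3 (orderOf_dvd_of_pow_eq_one h2)))

/-- The statement for all orders. -/
theorem pi_closed (hSz : SimpleSz.{u}) {π : Set ℕ} (hodd : ∀ p ∈ π, p.Prime ∧ p ≠ 2) :
    ∀ (n : ℕ) (G : Type u) [Group G] [Finite G], Nat.card G = n → ¬ 3 ∣ Nat.card G → Hom π G →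
      ∃ K : Subgroup G, ∀ x : G, x ∈ K ↔ ∀ p : ℕ, p.Prime → p ∣ orderOf x → p ∉ π := by
  intro n
  induction n using Nat.strong_induction_on with
  | _ n ih =>
    intro G _ _ hn h3 hhom
    classical
    rcases subsingleton_or_nontrivial G with hs | hnt
    · refine ⟨⊤, fun x => ⟨fun _ p hp hd => ?_, fun _ => mem_top x⟩⟩
      rw [Subsingleton.elim x 1, orderOf_one] at hd
      exact absurd (Nat.dvd_one.1 hd) hp.ne_one
    -- a maximal normal subgroup
    obtain ⟨M, -, hM⟩ := exists_maximal_ge_of_wellFoundedGT (fun N : Subgroup G => N.Normal ∧ N ≠ ⊤) (⊥ : Subgroup G)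
      ⟨inferInstance, bot_ne_top⟩
    obtain ⟨⟨hMn, hMtop⟩, hMmax⟩ := hM
    haveI := hMn
    haveI : Nontrivial (G ⧸ M) := QuotientGroup.nontrivial_iff.2 hMtop
    haveI : IsSimpleGroup (G ⧸ M) := ⟨fun N hN => by
      have hN' : (N.comap (QuotientGroup.mk' M)).Normal := hN.comap _
      have hle : M ≤ N.comap (QuotientGroup.mk' M) := fun m hm => by
        rw [mem_comap, QuotientGroup.mk'_apply, (QuotientGroup.eq_one_iff m).2 hm]; exact one_mem N
      by_cases ht : N.comap (QuotientGroup.mk' M) = ⊤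
      · exact Or.inr (by rw [← map_comap_eq_self_of_surjective (QuotientGroup.mk'_surjective M) N, ht,
          map_top_of_surjective _ (QuotientGroup.mk'_surjective M)])
      · left
        have := hMmax ⟨hN', ht⟩ hle
        rw [← map_comap_eq_self_of_surjective (QuotientGroup.mk'_surjective M) N,
          le_antisymm this hle, eq_bot_iff]
        rintro _ ⟨m, hm, rfl⟩
        exact mem_bot.2 ((QuotientGroup.eq_one_iff m).2 hm)⟩
    -- the proper normal subgroup is closed
    obtain ⟨L, hL⟩ := ih (Nat.card M) (hn ▸ lt_of_le_of_ne (card_le_card_group M) (fun e => hMtop (eq_top_of_card_eq M e)))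
      M rfl (fun h => h3 (h.trans (card_subgroup_dvd_card M))) (fun H hH hπH r hr hd => by
        refine hhom (H.map M.subtype) (fun e => hH ((map_eq_bot_iff_of_injective H M.subtype_injective).1 e))
          (fun s hs hsd => hπH s hs (by rwa [card_map_of_injective M.subtype_injective] at hsd)) r hr (hd.trans ?_)
        -- the automiser embeds
        have e1 : (centralizer (H : Set M)) = (centralizer ((H.map M.subtype : Subgroup G) : Set G)).comap M.subtype := by
          ext a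
          simp only [mem_comap, mem_centralizer_iff, coe_map, Set.forall_mem_image]
          exact ⟨fun h b hb => congrArg Subtype.val (h b hb), fun h b hb => Subtype.ext (h hb)⟩
        rw [e1, relIndex_comap]
        have hle : (normalizer (H : Set M)).map M.subtype ≤ normalizer ((H.map M.subtype : Subgroup G) : Set G) := by
          rintro _ ⟨a, ha, rfl⟩
          refine mem_normalizer_fintype fun b hb => ?_
          obtain ⟨c, hc, rfl⟩ := hb
          exact ⟨a * c * a⁻¹, (mem_normalizer_iff.1 ha c).1 hc, rfl⟩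
        haveI := cent_normal (H.map M.subtype)
        rw [← relIndex_subgroupOf hle]
        exact relIndex_dvd_index_of_normal _ _)
    -- the simple quotient is closed
    have hQ : ∃ K : Subgroup (G ⧸ M), ∀ x : G ⧸ M, x ∈ K ↔ ∀ p : ℕ, p.Prime → p ∣ orderOf x → p ∉ π := by
      by_cases hno : ∀ p : ℕ, p.Prime → p ∣ Nat.card (G ⧸ M) → p ∉ π
      · exact ⟨⊤, fun x => ⟨fun _ p hp hd => hno p hp (hd.trans (orderOf_dvd_natCard x)), fun _ => mem_top x⟩⟩
      push Not at hno
      obtain ⟨p, hp, hpd, hpπ⟩ := hno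
      haveI : Fact p.Prime := ⟨hp⟩
      have hab : ∀ a b : G ⧸ M, a * b = b * a := by
        by_contra hne
        push Not at hne
        obtain ⟨F, i1, i2, m, hm, hF, ⟨e⟩⟩ := hSz (G ⧸ M) hne (fun h => h3 (h.trans (M.card_quotient_dvd_card)))
        have hS : Suzuki.SzField F m := ⟨hm, hF⟩
        let f : Cfsg.Sz F m ≃* G ⧸ M := (Suzuki.minorEquiv hS).trans e.symm
        obtain ⟨x, g, hx, hg⟩ := exists_inverted hS hp (hodd p hpπ).2 (by rwa [Nat.card_congr f.toEquiv])
        exact inverted_quotient_false hodd hhom M hp hpπ (x := f x) (g := f g)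
          (by rw [MulEquiv.orderOf_eq, hx]) (by rw [← map_inv, ← map_mul, ← map_mul, hg, map_inv])
      -- an abelian simple group has order `p`
      letI : CommGroup (G ⧸ M) := { (inferInstance : Group (G ⧸ M)) with mul_comm := hab }
      have hprime : (Nat.card (G ⧸ M)).Prime := IsSimpleGroup.prime_card
      have hcard : Nat.card (G ⧸ M) = p := ((Nat.prime_dvd_prime_iff_eq hp hprime).1 hpd).symm
      refine ⟨⊥, fun x => ⟨fun hx r hr hd => ?_, fun hx => mem_bot.2 ?_⟩⟩
      · rw [mem_bot.1 hx, orderOf_one] at hd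
        exact absurd (Nat.dvd_one.1 hd) hr.ne_one
      · by_contra h1
        have ho : orderOf x = p := by
          refine ((Nat.dvd_prime hp).1 (hcard ▸ orderOf_dvd_natCard x)).resolve_left fun e => h1 ?_
          exact orderOf_eq_one_iff.1 e
        exact hx p hp (ho ▸ dvd_rfl) hpπ
    -- extension
    obtain ⟨K, hK⟩ := Cfsg.Agent.S4051.result {r : ℕ | r.Prime ∧ r ∉ π} (fun r hr => hr.1)
      (fun H hH hπH r hr hd hr' => hr'.2 (hhom H hH (fun s hs hsd => by
        by_contra hsπ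
        exact hπH s hs hsd ⟨hs, hsπ⟩) r hr hd))
      M ⟨L, fun x => (hL x).trans ⟨fun h r hr hd => ⟨hr, h r hr hd⟩, fun h r hr hd => (h r hr hd).2⟩⟩
      (by
        obtain ⟨K, hK⟩ := hQ
        exact ⟨K, fun x => (hK x).trans ⟨fun h r hr hd => ⟨hr, h r hr hd⟩, fun h r hr hd => (h r hr hd).2⟩⟩)
    exact ⟨K, fun x => (hK x).trans ⟨fun h r hr hd => (h r hr hd).2, fun h r hr hd => ⟨hr, h r hr hd⟩⟩⟩

/-- The theorem, given the classification of simple groups of order prime to three. -/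
theorem S4045_of (hSz : SimpleSz.{u}) {G : Type u} [Group G] [Finite G] (π : Set ℕ)
    (hodd : ∀ p ∈ π, p.Prime ∧ p ≠ 2) (h3 : ¬ 3 ∣ Nat.card G)
    (hhom : (∀ H : Subgroup G, H ≠ ⊥ → (∀ p : ℕ, p.Prime → p ∣ Nat.card ↥H → p ∈ π) →
        ∀ p : ℕ, p.Prime → p ∣ (Subgroup.centralizer (H : Set G)).relIndex (Subgroup.normalizer (H : Set G)) → p ∈ π)) :
    (∃ K : Subgroup G, ∀ x : G, x ∈ K ↔ ∀ p : ℕ, p.Prime → p ∣ orderOf x → p ∉ π) :=
  pi_closed hSz hodd _ G rfl h3 hhom

end Cfsg.Agent.ThreePrime
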