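import Cfsg.Agent.Lib.ThreePrime.Frame
import Cfsg.Agent.Lib.Components.FStar
import Cfsg.Agent.Lib.Components.PTerminalPerfect
import Cfsg.Agent.Lib.Fusion.Sylow

/-!
# A strongly closed elementary abelian subgroup in a group whose components are Suzuki groups
-/

set_option autoImplicit false
set_option linter.style.haveILetI false
set_option linter.unusedSectionVars false

namespace Cfsg.Agent.ThreePrime

open Subgroup
open scoped commutatorElement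

universe u

variable {H : Type u} [Group H]

/-- Trivial odd core and all components with Suzuki frames. -/
structure Framed (H : Type u) [Group H] : Prop where
  core : Cfsg.pPrimeCore 2 H = ⊥
  frame : ∀ L : Subgroup H, Cfsg.IsComponent L → Nonempty (Frame L)

/-- The frame sends `T ∩ L` onto the root group. -/
def Frame.Aligned {L : Subgroup H} (Φ : Frame L) (T : Subgroup H) : Prop :=
  ∀ (x : H) (hx : x ∈ L), x ∈ T ↔ Φ.π ⟨x, hx⟩ ∈ Suzuki.rootGroup Φ.hS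

variable [Finite H]

theorem exists_aligned {T : Sylow 2 H} {L : Subgroup H} (hL : L.IsSubnormal) (Φ₀ : Frame L) :
    ∃ Φ : Frame L, Φ.Aligned (T : Subgroup H) := by
  haveI : Fact (Nat.Prime 2) := ⟨Nat.prime_two⟩
  obtain ⟨Φ, hΦ⟩ := Φ₀.exists_align (P := (T : Subgroup H)) T.2
  refine ⟨Φ, fun x hx => ⟨hΦ x hx, fun hroot => ?_⟩⟩
  set P := (Suzuki.rootGroup Φ.hS).comap Φ.π with hP
  have hPp : IsPGroup 2 P := by
    refine (Suzuki.isPGroup_rootGroup Φ.hS).comap_of_ker_isPGroup Φ.π ?_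
    rw [Φ.ker]; exact Φ.two
  have hsyl : ¬ 2 ∣ ((T : Subgroup H).subgroupOf L).index :=
    PTerm.sylow_inf_subnormal T.not_dvd_index hL
  let Q : Sylow 2 L := (T.2.comap_of_injective L.subtype L.subtype_injective).toSylow hsyl
  have hQ : (Q : Subgroup L) = (T : Subgroup H).subgroupOf L := IsPGroup.toSylow_coe _ _
  have hle : (Q : Subgroup L) ≤ P := by
    rw [hQ]
    exact fun q hq => hΦ q q.2 hq
  have hx' : (⟨x, hx⟩ : L) ∈ (Q : Subgroup L) := by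
    rw [← Q.is_maximal' hPp hle]
    exact hroot
  rw [hQ] at hx'
  exact hx'

section closed

variable {T : Sylow 2 H} {B : Subgroup H} (hH : Framed H) (hBe : Cfsg.IsElementaryAbelian 2 B)
  (hsc : Cfsg.IsStronglyClosed B (T : Subgroup H))

include hsc in
theorem sylow_le_normalizer : (T : Subgroup H) ≤ normalizer (B : Set H) := fun s hs =>
  mem_normalizer_fintype fun b hb => hsc.2 b hb s (mul_mem (mul_mem hs (hsc.1 hb)) (inv_mem hs))

include hH hBe hsc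

/-- `B` normalises every component. -/
theorem le_normalizer_component {L : Subgroup H} (hL : Cfsg.IsComponent L) : B ≤ normalizer (L : Set H) := by
  obtain ⟨Φ₀⟩ := hH.frame L hL
  obtain ⟨Φ, hΦ⟩ := exists_aligned (T := T) hL.1 Φ₀
  intro b hb
  by_contra hbL
  obtain ⟨⟨x, hx⟩, hπ⟩ := Φ.surj (Suzuki.T Φ.hS 1 0)
  have hxT : x ∈ (T : Subgroup H) := (hΦ x hx).2 (hπ ▸ ⟨1, 0, rfl⟩)
  set L' := L.map (MulAut.conj b).toMonoidHom with hL'
  have hne : L' ≠ L := fun e => hbL (mem_normalizer_iff_map_conj_eq.2 e)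
  have hx' : b * x * b⁻¹ ∈ L' := ⟨x, hx, rfl⟩
  have hc : ∀ y ∈ L, ∀ y' ∈ L', y * y' = y' * y := fun y hy y' hy' =>
    mem_centralizer_iff.1 (commutator_eq_bot_iff_le_centralizer.1
      (Components.components_commute (Components.component_conj hL b) hL hne) hy') y hy
  have hw : b * x * b⁻¹ * x⁻¹ ∈ B := by
    have h1 : x * b⁻¹ * x⁻¹ ∈ B := hsc.2 _ (inv_mem hb) x
      (mul_mem (mul_mem hxT (inv_mem (hsc.1 hb))) (inv_mem hxT))
    convert mul_mem hb h1 using 1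
    group
  have hw2 : (b * x * b⁻¹ * x⁻¹) * (b * x * b⁻¹ * x⁻¹) = 1 := by
    rw [← pow_two]; exact hBe.2 _ hw
  have hsq : b * x * b⁻¹ * (b * x * b⁻¹) = x * x := by
    have e : (b * x * b⁻¹) * x⁻¹ = x⁻¹ * (b * x * b⁻¹) := (hc x⁻¹ (inv_mem hx) _ hx').symm
    rw [mul_assoc (b * x * b⁻¹) x⁻¹, ← mul_assoc x⁻¹, ← e, ← mul_assoc, ← mul_assoc, mul_assoc _ x⁻¹ x⁻¹,
      ← mul_inv_rev, mul_inv_eq_one] at hw2
    exact hw2
  have hcen : (⟨x * x, mul_mem hx hx⟩ : L) ∈ center ↥L := mem_center_iff.2 fun y => Subtype.ext (by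
    show (y : H) * (x * x) = x * x * y
    rw [← hsq]
    exact hc y y.2 _ (mul_mem hx' hx'))
  rw [← Φ.ker, MonoidHom.mem_ker] at hcen
  refine Suzuki.T_one_zero_sq_ne Φ.hS ?_
  rw [← hπ, ← map_mul]
  exact hcen

variable {L : Subgroup H} (hL : Cfsg.IsComponent L) {Φ : Frame L} (hΦ : Φ.Aligned (T : Subgroup H))

include hL hΦ

/-- An element of `B` acts on an aligned component by an element of the centre of the root group. -/
theorem exists_act_zGroup {b : H} (hb : b ∈ B) : ∃ z ∈ Suzuki.zGroup Φ.hS,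
    Φ.act ⟨b, le_normalizer_component hH hBe hsc hL hb⟩ = MulAut.conj z := by
  have hbn := le_normalizer_component hH hBe hsc hL hb
  have hbb : (⟨b, hbn⟩ : normalizer (L : Set H)) * ⟨b, hbn⟩ = 1 :=
    Subtype.ext (show b * b = 1 by rw [← pow_two]; exact hBe.2 b hb)
  obtain ⟨z, hz, he⟩ := exists_inner_of_sq Φ.hS (Φ.act ⟨b, hbn⟩) (by rw [← map_mul, hbb, map_one])
  refine ⟨z, involution_borel Φ.hS hz ?_, he⟩
  obtain ⟨⟨x, hx⟩, hπ⟩ := Φ.surj (Suzuki.T Φ.hS 0 1)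
  have hxT : x ∈ (T : Subgroup H) := (hΦ x hx).2 (hπ ▸ ⟨0, 1, rfl⟩)
  have h1 : z * Suzuki.T Φ.hS 0 1 * z⁻¹ ∈ Suzuki.rootGroup Φ.hS := by
    rw [← MulAut.conj_apply, ← he, ← hπ, Φ.act_apply' hbn hx]
    exact (hΦ _ _).1 (mul_mem (mul_mem (hsc.1 hb) hxT) (inv_mem (hsc.1 hb)))
  exact Suzuki.fix_pinf_of_conj_mem Φ.hS ⟨0, 1, rfl⟩ (fun e => one_ne_zero ((Suzuki.eq_one_iff_T Φ.hS).mp e).2) h1

/-- The preimage of the Borel subgroup normalises `B`. -/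
theorem mem_normalizer_of_borel {x : H} (hx : x ∈ L) (hb : Φ.π ⟨x, hx⟩ ∈ Suzuki.borel Φ.F Φ.m) :
    x ∈ normalizer (B : Set H) := by
  refine mem_normalizer_fintype fun b hbB => ?_
  have hbn := le_normalizer_component hH hBe hsc hL hbB
  obtain ⟨z, hz, he⟩ := exists_act_zGroup hH hBe hsc hL hΦ hbB
  have hwL : x * (b * x⁻¹ * b⁻¹) ∈ L := mul_mem hx ((mem_normalizer_iff.1 hbn _).1 (inv_mem hx))
  have hw : Φ.π ⟨_, hwL⟩ ∈ Suzuki.rootGroup Φ.hS := by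
    have e : (⟨_, hwL⟩ : L) = ⟨x, hx⟩ * ⟨b * x⁻¹ * b⁻¹, (mem_normalizer_iff.1 hbn _).1 (inv_mem hx)⟩ := rfl
    rw [e, map_mul, ← Φ.act_apply' hbn (inv_mem hx), he, MulAut.conj_apply,
      show (⟨x⁻¹, inv_mem hx⟩ : L) = (⟨x, hx⟩ : L)⁻¹ from rfl, map_inv]
    have hzr := Suzuki.zGroup_le Φ.hS hz
    have h1 : Φ.π ⟨x, hx⟩ * z * (Φ.π ⟨x, hx⟩)⁻¹ ∈ Suzuki.rootGroup Φ.hS :=
      (mem_normalizer_iff.1 (Suzuki.borel_le_normalizer Φ.hS hb) z).1 hzr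
    convert mul_mem h1 (inv_mem hzr) using 1
    group
  have hmem : x * b * x⁻¹ ∈ (T : Subgroup H) := by
    have h2 : x * b * x⁻¹ = (x * (b * x⁻¹ * b⁻¹)) * b := by group
    rw [h2]
    exact mul_mem ((hΦ _ hwL).2 hw) (hsc.1 hbB)
  exact hsc.2 b hbB x hmem

/-- A moved component: every element of the centre of the root group is induced. -/
theorem exists_act_eq (hmove : ¬ B ≤ centralizer (L : Set H)) {z : Cfsg.Sz Φ.F Φ.m}
    (hz : z ∈ Suzuki.zGroup Φ.hS) :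
    ∃ b, ∃ hb : b ∈ B, Φ.act ⟨b, le_normalizer_component hH hBe hsc hL hb⟩ = MulAut.conj z := by
  rcases eq_or_ne z 1 with rfl | hz1
  · refine ⟨1, one_mem _, ?_⟩
    rw [map_one, ← map_one Φ.act]
    rfl
  obtain ⟨b, hb, hbc⟩ := SetLike.not_le_iff_exists.1 hmove
  have hbn := le_normalizer_component hH hBe hsc hL hb
  obtain ⟨z₀, hz₀, he⟩ := exists_act_zGroup hH hBe hsc hL hΦ hb
  obtain ⟨b₀, rfl⟩ := hz₀
  obtain ⟨b₁, rfl⟩ := hz
  have hb₀ : b₀ ≠ 0 := by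
    rintro rfl
    rw [Suzuki.T_zero, map_one] at he
    exact hbc (Φ.mem_centralizer_of_act hbn he)
  have hb₁ : b₁ ≠ 0 := by rintro rfl; exact hz1 (Suzuki.T_zero Φ.hS)
  obtain ⟨k, hk⟩ := Suzuki.exists_H_conj Φ.hS hb₀ hb₁
  obtain ⟨⟨x, hx⟩, hπ⟩ := Φ.surj (Suzuki.H Φ.hS k)
  have hxN := mem_normalizer_of_borel hH hBe hsc hL hΦ hx (hπ ▸ Suzuki.H_mem_borel Φ.hS k)
  have hxbn : x * b * x⁻¹ ∈ B := (mem_normalizer_iff.1 hxN b).1 hb
  refine ⟨x * b * x⁻¹, hxbn, ?_⟩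
  rw [show (⟨x * b * x⁻¹, le_normalizer_component hH hBe hsc hL hxbn⟩ : normalizer (L : Set H)) =
      ⟨x, Subgroup.le_normalizer hx⟩ * ⟨b, hbn⟩ * (⟨x, Subgroup.le_normalizer hx⟩)⁻¹ from rfl,
    map_mul, map_mul, map_inv, Φ.act_of_mem hx, he, hπ, ← hk, map_mul, map_mul, map_inv]

/-- The torus of a moved component acting on `B`. -/
theorem exists_torus (hmove : ¬ B ≤ centralizer (L : Set H)) :
    ∃ (t : H) (Z : Subgroup H) (k₀ : Φ.Fˣ) (ht : t ∈ L), Φ.π ⟨t, ht⟩ = Suzuki.H Φ.hS k₀ ∧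
      (∀ x : Φ.Fˣ, ∃ i : ℕ, k₀ ^ i = x) ∧ orderOf k₀ = 2 ^ (2 * Φ.m + 1) - 1 ∧ Odd (orderOf t) ∧
      t ∈ normalizer (B : Set H) ∧ Z ≤ B ∧ Z ≤ L ∧ Nat.card Z = 2 ^ (2 * Φ.m + 1) ∧
      t ∈ normalizer (Z : Set H) ∧ (∀ b ∈ B, b ∈ centralizer (L : Set H) → t * b = b * t) ∧
      (∀ z ∈ Z, z ∈ centralizer (L : Set H) → z = 1) ∧
      (∀ b ∈ B, ∃ k ∈ B, k ∈ centralizer (L : Set H) ∧ ∃ z ∈ Z, b = k * z) ∧
      ∀ c ∈ Z, c ≠ 1 → ∀ d ∈ Z, d ≠ 1 → ∃ i : ℕ, t ^ i * c * (t ^ i)⁻¹ = d := by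
  haveI : Fact (Nat.Prime 2) := ⟨Nat.prime_two⟩
  obtain ⟨g, hgen, hg1, hgord⟩ := Suzuki.exists_gen Φ.hS
  obtain ⟨⟨x, hx⟩, hπ⟩ := Φ.surj (Suzuki.H Φ.hS g)
  obtain ⟨s, r, hr, hxs⟩ : ∃ s r, Odd r ∧ orderOf x = 2 ^ s * r := by
    obtain ⟨s, r, hr, e⟩ := Nat.exists_eq_pow_mul_and_not_dvd (orderOf_pos x).ne' 2 (by norm_num)
    exact ⟨s, r, Nat.not_even_iff_odd.1 fun h => hr (even_iff_two_dvd.1 h), e⟩
  set t := x ^ 2 ^ s with htdef
  set k₀ := g ^ 2 ^ s with hkdef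
  have htL : t ∈ L := pow_mem hx _
  have htπ : Φ.π ⟨t, htL⟩ = Suzuki.H Φ.hS k₀ := by
    rw [show (⟨t, htL⟩ : L) = ⟨x, hx⟩ ^ 2 ^ s from rfl, map_pow, hπ]
    exact ((Suzuki.HHom Φ.hS).map_pow g _).symm
  have hcop : Nat.Coprime (2 ^ s) (orderOf g) := by
    refine Nat.Coprime.pow_left _ (Nat.coprime_two_left.2 ?_)
    rw [hgord]
    exact Nat.Even.sub_odd Nat.one_le_two_pow ((Nat.even_pow' (by omega)).2 even_two) odd_one
  have hk₀ord : orderOf k₀ = 2 ^ (2 * Φ.m + 1) - 1 := by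
    rw [hkdef, orderOf_pow, ← hgord, Nat.Coprime.gcd_eq_one hcop.symm, Nat.div_one]
  have hk₀gen : ∀ y : Φ.Fˣ, ∃ i : ℕ, k₀ ^ i = y := fun y => by
    obtain ⟨e, he⟩ := exists_pow_eq_self_of_coprime hcop
    obtain ⟨i, hi⟩ := hgen y
    exact ⟨e * i, by rw [hkdef, pow_mul, he, hi]⟩
  have htodd : Odd (orderOf t) := by
    rw [htdef, orderOf_pow, hxs, Nat.gcd_eq_right (dvd_mul_right _ _), Nat.mul_div_cancel_left _ (by positivity)]
    exact hr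
  have htN : t ∈ normalizer (B : Set H) :=
    mem_normalizer_of_borel hH hBe hsc hL hΦ htL (htπ ▸ Suzuki.H_mem_borel Φ.hS k₀)
  have hcomm : ∀ a ∈ B, ∀ b ∈ B, a * b = b * a := fun a ha b hb =>
    congrArg Subtype.val (hBe.1.is_comm.comm ⟨a, ha⟩ ⟨b, hb⟩)
  have htB : ∀ b ∈ B, t * b * t⁻¹ ∈ B := fun b hb => (mem_normalizer_iff.1 htN b).1 hb
  have hfix : ∀ b ∈ B, b ∈ centralizer (L : Set H) → t * b = b * t := fun b _ hbc =>
    mem_centralizer_iff.1 hbc t htL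
  choose ζ hζ hζe using fun b : B => exists_act_zGroup hH hBe hsc hL hΦ b.2
  have hζmul : ∀ a b : B, ζ (a * b) = ζ a * ζ b := fun a b => sz_conj_injective Φ.hS (by
    rw [map_mul, ← hζe, ← hζe a, ← hζe b, ← map_mul]
    rfl)
  let ζ' : B →* Cfsg.Sz Φ.F Φ.m := MonoidHom.mk' ζ hζmul
  have hker : ∀ b : B, ζ b = 1 → (b : H) ∈ centralizer (L : Set H) := fun b hb =>
    Φ.mem_centralizer_of_act (le_normalizer_component hH hBe hsc hL b.2) (by rw [hζe b, hb, map_one])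
  have hζt : ∀ (b : B) (hb : t * (b : H) * t⁻¹ ∈ B),
      ζ ⟨_, hb⟩ = Suzuki.H Φ.hS k₀ * ζ b * (Suzuki.H Φ.hS k₀)⁻¹ := fun b hb => sz_conj_injective Φ.hS (by
    rw [← hζe, map_mul, map_mul, map_inv, ← hζe b, ← htπ, ← Φ.act_of_mem htL, ← map_mul, ← map_inv, ← map_mul]
    rfl)
  have hmove1 : ∀ k : Φ.Fˣ, ∀ z ∈ Suzuki.zGroup Φ.hS, z ≠ 1 →
      Suzuki.H Φ.hS k * z * (Suzuki.H Φ.hS k)⁻¹ = z → k = 1 := by
    rintro k _ ⟨c, rfl⟩ hc he
    rw [Suzuki.H_conj_zero] at he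
    have hc0 : c ≠ 0 := by rintro rfl; exact hc (Suzuki.T_zero Φ.hS)
    refine Units.ext (Φ.hS.θ_mul_self_injective k.ne_zero one_ne_zero ?_)
    rw [Units.val_one, Suzuki.θ_one, mul_one]
    exact mul_right_cancel₀ hc0 ((Suzuki.T_injective Φ.hS he).2.trans (one_mul c).symm)
  have hk1 : k₀ ≠ 1 := fun e => by
    rw [e, orderOf_one] at hk₀ord
    have := Φ.hS.eight_le_card
    rw [Φ.hS.card] at this
    omega
  let δ : B →* B := MonoidHom.mk' (fun b => b⁻¹ * ⟨t * b * t⁻¹, htB b b.2⟩) fun a b => Subtype.ext (by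
    show ((a : H) * b)⁻¹ * (t * (a * b) * t⁻¹) = (a : H)⁻¹ * (t * a * t⁻¹) * ((b : H)⁻¹ * (t * b * t⁻¹))
    have e1 := hcomm _ (mul_mem (inv_mem a.2) (htB a a.2)) _ (inv_mem b.2)
    rw [← mul_assoc ((a : H)⁻¹ * (t * a * t⁻¹)) (b : H)⁻¹, e1]
    group)
  have hδζ : ∀ b : B, ζ (δ b) = (ζ b)⁻¹ * (Suzuki.H Φ.hS k₀ * ζ b * (Suzuki.H Φ.hS k₀)⁻¹) := fun b => by
    show ζ' (b⁻¹ * ⟨t * b * t⁻¹, htB b b.2⟩) = _
    rw [map_mul, map_inv]
    exact congrArg _ (hζt b _)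
  set Z := δ.range.map B.subtype with hZdef
  have hZmem : ∀ z ∈ Z, ∃ b : B, (δ b : H) = z := by rintro _ ⟨_, ⟨b, rfl⟩, rfl⟩; exact ⟨b, rfl⟩
  have hZB : Z ≤ B := map_subtype_le _
  -- a nontrivial element of the range acts nontrivially
  have hZK : ∀ z ∈ Z, z ∈ centralizer (L : Set H) → z = 1 := by
    intro z hz hzc
    obtain ⟨b, rfl⟩ := hZmem z hz
    have h1 : ζ (δ b) = 1 := sz_conj_injective Φ.hS (by
      rw [← hζe, map_one]; exact Φ.act_eq_one hzc)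
    rw [hδζ, inv_mul_eq_one] at h1
    have h2 : ζ b = 1 := by
      by_contra h2
      exact hk1 (hmove1 k₀ _ (hζ b) h2 h1.symm)
    have h3 := hfix b b.2 (hker b h2)
    show (b : H)⁻¹ * (t * b * t⁻¹) = 1
    rw [h3]; group
  -- the restriction of the action to the range is a bijection onto the centre of the root group
  have hsplit : ∀ b ∈ B, ∃ k ∈ B, k ∈ centralizer (L : Set H) ∧ ∃ z ∈ Z, b = k * z := by
    intro b hb
    obtain ⟨c₀, hc₀, hkc⟩ : ∃ c₀, ∃ hc : c₀ ∈ Suzuki.zGroup Φ.hS,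
        c₀⁻¹ * (Suzuki.H Φ.hS k₀ * c₀ * (Suzuki.H Φ.hS k₀)⁻¹) = ζ ⟨b, hb⟩ := by
      let γ : Suzuki.zGroup Φ.hS → Suzuki.zGroup Φ.hS := fun c => ⟨(c : Cfsg.Sz Φ.F Φ.m)⁻¹ *
        (Suzuki.H Φ.hS k₀ * c * (Suzuki.H Φ.hS k₀)⁻¹), by
          obtain ⟨e, he⟩ := c.2
          rw [he, Suzuki.H_conj_zero]
          exact mul_mem (inv_mem ⟨e, rfl⟩) ⟨_, rfl⟩⟩
      have hγ : Function.Injective γ := fun c d hcd => by
        have e : (c : Cfsg.Sz Φ.F Φ.m)⁻¹ * (Suzuki.H Φ.hS k₀ * c * (Suzuki.H Φ.hS k₀)⁻¹) =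
            (d : Cfsg.Sz Φ.F Φ.m)⁻¹ * (Suzuki.H Φ.hS k₀ * d * (Suzuki.H Φ.hS k₀)⁻¹) := congrArg Subtype.val hcd
        by_contra hne
        have hne' : (d : Cfsg.Sz Φ.F Φ.m) * (c : Cfsg.Sz Φ.F Φ.m)⁻¹ ≠ 1 := fun h =>
          hne (Subtype.ext (mul_inv_eq_one.1 h).symm)
        refine hk1 (hmove1 k₀ _ (mul_mem d.2 (inv_mem c.2)) hne' ?_)
        rw [eq_inv_mul_iff_mul_eq] at e
        calc Suzuki.H Φ.hS k₀ * ((d : Cfsg.Sz Φ.F Φ.m) * (c : Cfsg.Sz Φ.F Φ.m)⁻¹) * (Suzuki.H Φ.hS k₀)⁻¹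
            = (Suzuki.H Φ.hS k₀ * d * (Suzuki.H Φ.hS k₀)⁻¹) *
              (Suzuki.H Φ.hS k₀ * c * (Suzuki.H Φ.hS k₀)⁻¹)⁻¹ := by group
          _ = (d : Cfsg.Sz Φ.F Φ.m) * ((c : Cfsg.Sz Φ.F Φ.m)⁻¹ *
              (Suzuki.H Φ.hS k₀ * c * (Suzuki.H Φ.hS k₀)⁻¹)) *
              (Suzuki.H Φ.hS k₀ * c * (Suzuki.H Φ.hS k₀)⁻¹)⁻¹ := by rw [e]
          _ = _ := by group
      obtain ⟨c, hc⟩ := (Finite.surjective_of_injective hγ) ⟨ζ ⟨b, hb⟩, hζ _⟩
      exact ⟨c, c.2, congrArg Subtype.val hc⟩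
    obtain ⟨d, hd, hde⟩ := exists_act_eq hH hBe hsc hL hΦ hmove hc₀
    have hdζ : ζ ⟨d, hd⟩ = c₀ := sz_conj_injective Φ.hS ((hζe _).symm.trans hde)
    refine ⟨b * (δ ⟨d, hd⟩ : H)⁻¹, mul_mem hb (inv_mem (δ ⟨d, hd⟩).2), ?_, δ ⟨d, hd⟩,
      ⟨_, ⟨_, rfl⟩, rfl⟩, (inv_mul_cancel_right b _).symm⟩
    refine hker (⟨b, hb⟩ * (δ ⟨d, hd⟩)⁻¹) ?_
    show ζ' _ = 1
    rw [map_mul, map_inv, mul_inv_eq_one]
    show ζ ⟨b, hb⟩ = ζ (δ ⟨d, hd⟩)
    rw [hδζ, hdζ, hkc]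
  let f : Z → Suzuki.zGroup Φ.hS := fun z => ⟨ζ ⟨z, hZB z.2⟩, hζ _⟩
  have hfinj : Function.Injective f := fun a b hab => by
    have h1 : ζ' (⟨a, hZB a.2⟩ * (⟨b, hZB b.2⟩ : B)⁻¹) = 1 := by
      rw [map_mul, map_inv, mul_inv_eq_one]; exact congrArg Subtype.val hab
    exact Subtype.ext (mul_inv_eq_one.1 (hZK _ (mul_mem a.2 (inv_mem b.2)) (hker _ h1)))
  have hfsurj : Function.Surjective f := fun c => by
    obtain ⟨b, hb, hbe⟩ := exists_act_eq hH hBe hsc hL hΦ hmove c.2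
    have hbζ : ζ ⟨b, hb⟩ = c := sz_conj_injective Φ.hS ((hζe _).symm.trans hbe)
    obtain ⟨k, hk, hkc, z, hz, rfl⟩ := hsplit b hb
    have hk1' : ζ ⟨k, hk⟩ = 1 := sz_conj_injective Φ.hS (by
      rw [← hζe, map_one]; exact Φ.act_eq_one hkc)
    refine ⟨⟨z, hz⟩, Subtype.ext ?_⟩
    show ζ ⟨z, hZB hz⟩ = c
    rw [← hbζ, show (⟨k * z, hb⟩ : B) = ⟨k, hk⟩ * ⟨z, hZB hz⟩ from rfl, hζmul, hk1', one_mul]
  have htZ : t ∈ normalizer (Z : Set H) := mem_normalizer_fintype fun z hz => by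
    obtain ⟨b, rfl⟩ := hZmem z hz
    refine ⟨δ ⟨t * b * t⁻¹, htB b b.2⟩, ⟨_, rfl⟩, ?_⟩
    show (t * (b : H) * t⁻¹)⁻¹ * (t * (t * b * t⁻¹) * t⁻¹) = t * ((b : H)⁻¹ * (t * b * t⁻¹)) * t⁻¹
    group
  have hZL : Z ≤ L := fun z hz => by
    obtain ⟨b, rfl⟩ := hZmem z hz
    show (b : H)⁻¹ * (t * b * t⁻¹) ∈ L
    have hbn := le_normalizer_component hH hBe hsc hL b.2
    have h1 : (b : H)⁻¹ * t * b ∈ L := (mem_normalizer_iff''.1 hbn t).1 htL
    convert mul_mem h1 (inv_mem htL) using 1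
    group
  refine ⟨t, Z, k₀, htL, htπ, hk₀gen, hk₀ord, htodd, htN, hZB, hZL, ?_, htZ, hfix, hZK, hsplit, ?_⟩
  · rw [Nat.card_eq_of_bijective f ⟨hfinj, hfsurj⟩, Suzuki.card_zGroup]
  · intro c hc hc1 d hd hd1
    have hne : ∀ w, ∀ hw : w ∈ Z, w ≠ 1 → ζ ⟨w, hZB hw⟩ ≠ 1 := fun w hw hw1 he =>
      hw1 (hZK w hw (hker _ he))
    obtain ⟨γ, hγ⟩ := hζ ⟨c, hZB hc⟩
    obtain ⟨γ', hγ'⟩ := hζ ⟨d, hZB hd⟩
    have hγ0 : γ ≠ 0 := fun e => hne c hc hc1 (by rw [hγ, e, Suzuki.T_zero])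
    have hγ'0 : γ' ≠ 0 := fun e => hne d hd hd1 (by rw [hγ', e, Suzuki.T_zero])
    obtain ⟨k, hk⟩ := Suzuki.exists_H_conj Φ.hS hγ0 hγ'0
    obtain ⟨i, rfl⟩ := hk₀gen k
    have hci : t ^ i * c * (t ^ i)⁻¹ ∈ Z := (mem_normalizer_iff.1 (pow_mem htZ i) c).1 hc
    have hζi : ζ ⟨t ^ i * c * (t ^ i)⁻¹, hZB hci⟩ = ζ ⟨d, hZB hd⟩ := sz_conj_injective Φ.hS (by
      rw [hγ', ← hk, map_mul, map_mul, map_inv, ← hγ, ← hζe, ← hζe,
        show Suzuki.H Φ.hS (k₀ ^ i) = Suzuki.H Φ.hS k₀ ^ i from (Suzuki.HHom Φ.hS).map_pow _ _, map_pow, ← htπ,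
        ← Φ.act_of_mem htL, ← map_pow, ← map_inv, ← map_mul, ← map_mul]
      rfl)
    exact ⟨i, congrArg Subtype.val (hfinj (a₁ := ⟨_, hci⟩) (a₂ := ⟨d, hd⟩) (Subtype.ext hζi))⟩

omit hL hΦ

/-- `H = E(H) N(B)`. -/
theorem exists_layer_mul (y : H) :
    ∃ e ∈ Cfsg.layer H, ∃ n ∈ normalizer (B : Set H), y = e * n := by
  haveI : Fact (Nat.Prime 2) := ⟨Nat.prime_two⟩
  haveI := hBe.1
  haveI := Components.generalizedFitting_normal (G := H)
  haveI := Components.fittingSubgroup_normal (G := H)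
  haveI := Components.fittingSubgroup_nilpotent (G := H)
  haveI := Components.layer_normal (G := H)
  set Fs := Cfsg.generalizedFittingSubgroup H with hFs
  set R := (T : Subgroup H) ⊓ Fs with hR
  have hFT : Cfsg.fittingSubgroup H ≤ (T : Subgroup H) :=
    (Components.isPGroup_of_normal_nilpotent hH.core _).le_sylow_of_normal T
  -- the centraliser of `R` lies in `T`
  have hCodd : ∀ c : H, c ∈ centralizer (R : Set H) → Odd (orderOf c) → c = 1 := by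
    intro c hc hodd
    have hLc : ∀ L : Subgroup H, Cfsg.IsComponent L → c ∈ centralizer (L : Set H) := by
      intro L hL
      obtain ⟨Φ₀⟩ := hH.frame L hL
      obtain ⟨Φ, hΦ⟩ := exists_aligned (T := T) hL.1 Φ₀
      have hfixz : ∀ (l : H) (hl : l ∈ L), Φ.π ⟨l, hl⟩ ∈ Suzuki.rootGroup Φ.hS → c * l * c⁻¹ = l := by
        intro l hl hlr
        refine mul_inv_eq_iff_eq_mul.2 (mem_centralizer_iff.1 hc l ⟨(hΦ l hl).2 hlr, ?_⟩).symm
        exact Components.layer_le_generalizedFitting (Components.component_le_layer hL hl)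
      have hcn : c ∈ normalizer (L : Set H) := by
        by_contra hcn
        obtain ⟨⟨l, hl⟩, hπ⟩ := Φ.surj (Suzuki.T Φ.hS 0 1)
        have he := hfixz l hl (hπ ▸ ⟨0, 1, rfl⟩)
        have hne : L.map (MulAut.conj c).toMonoidHom ≠ L := fun e => hcn (mem_normalizer_iff_map_conj_eq.2 e)
        have hlc : l ∈ L.map (MulAut.conj c).toMonoidHom := ⟨l, hl, he⟩
        have hcen : (⟨l, hl⟩ : L) ∈ center ↥L := mem_center_iff.2 fun y => Subtype.ext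
          (mem_centralizer_iff.1 (commutator_eq_bot_iff_le_centralizer.1
            (Components.components_commute (Components.component_conj hL c) hL hne) hlc) y y.2)
        rw [← Φ.ker, MonoidHom.mem_ker, hπ] at hcen
        exact one_ne_zero ((Suzuki.eq_one_iff_T Φ.hS).mp hcen).2
      refine Φ.mem_centralizer_of_act hcn (eq_one_of_fix_zGroup Φ.hS _ (fun z hz => ?_) hodd ?_)
      · obtain ⟨⟨l, hl⟩, rfl⟩ := Φ.surj z
        rw [Φ.act_apply' hcn hl]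
        congr 1
        exact Subtype.ext (hfixz l hl (Suzuki.zGroup_le Φ.hS hz))
      · rw [← map_pow, show (⟨c, hcn⟩ : normalizer (L : Set H)) ^ orderOf c = 1 from
          Subtype.ext (pow_orderOf_eq_one c), map_one]
    have hcF : c ∈ centralizer (Fs : Set H) := by
      have h1 : Cfsg.layer H ≤ centralizer ({c} : Set H) := (Components.layer_le_iff).2 fun L hL l hl =>
        mem_centralizer_singleton_iff.2 (mem_centralizer_iff.1 (hLc L hL) l hl)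
      have h2 : Cfsg.fittingSubgroup H ≤ centralizer ({c} : Set H) := fun f hf =>
        mem_centralizer_singleton_iff.2 (mem_centralizer_iff.1 hc f
          ⟨hFT hf, Components.fitting_le_generalizedFitting hf⟩)
      exact mem_centralizer_iff.2 fun f hf => mem_centralizer_singleton_iff.1 ((sup_le h1 h2) hf)
    let Z := centralizer (Fs : Set H)
    haveI : Z.Normal := Subgroup.normal_centralizer
    haveI : Group.IsNilpotent Z := by
      letI : CommGroup Z :=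
        { mul_comm := fun a b => Subtype.ext
            (mem_centralizer_iff.1 b.2 a (Components.centralizer_generalizedFitting_le a.2)) }
      exact CommGroup.isNilpotent
    exact Cfsg.Agent.PBasic.eq_one_of_isPGroup_of_coprime (Components.isPGroup_of_normal_nilpotent hH.core Z)
      hcF (Nat.coprime_two_right.2 hodd)
  have hTn : (T : Subgroup H) ≤ normalizer (R : Set H) :=
    (le_inf Subgroup.le_normalizer le_normalizer_of_normal).trans inf_normalizer_le_normalizer_inf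
  have hC2 : IsPGroup 2 (centralizer (R : Set H)) := by
    rintro ⟨c, hc⟩
    obtain ⟨s, r, hr, e⟩ := Nat.exists_eq_pow_mul_and_not_dvd (orderOf_pos c).ne' 2 (by norm_num)
    refine ⟨s, Subtype.ext (hCodd (c ^ 2 ^ s) (pow_mem hc _) ?_)⟩
    rw [orderOf_pow, e, Nat.gcd_eq_right (dvd_mul_right _ _), Nat.mul_div_cancel_left _ (by positivity)]
    exact Nat.not_even_iff_odd.1 fun h => hr (even_iff_two_dvd.1 h)
  have hCT : centralizer (R : Set H) ≤ (T : Subgroup H) := by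
    have h1 : IsPGroup 2 ((T : Subgroup H) ⊔ centralizer (R : Set H) : Subgroup H) :=
      T.2.to_sup_of_normal_right' hC2 (hTn.trans (LELarge.normalizer_le_normalizer_centralizer R))
    exact le_sup_right.trans (T.is_maximal' h1 le_sup_left).le
  -- Frattini
  have hsylR : ¬ 2 ∣ R.relIndex Fs := by
    rw [hR, inf_relIndex_right]
    exact PTerm.sylow_inf_subnormal T.not_dvd_index (Subgroup.Normal.isSubnormal inferInstance)
  let Rs : Sylow 2 Fs := ((T.2.to_le (inf_le_left : R ≤ _)).comap_of_injective Fs.subtype Fs.subtype_injective).toSylow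
    hsylR
  have hRs : (Rs : Subgroup Fs).map Fs.subtype = R := by
    rw [show (Rs : Subgroup Fs) = R.subgroupOf Fs from rfl, map_subgroupOf_eq_of_le inf_le_right]
  have hfr := Sylow.normalizer_sup_eq_top Rs
  rw [hRs, sup_comm] at hfr
  have hy : y ∈ ((Fs ⊔ normalizer (R : Set H) : Subgroup H) : Set H) := by rw [hfr]; trivial
  rw [Subgroup.normal_mul] at hy
  obtain ⟨f, hf, n, hn, rfl⟩ := hy
  have hnB : n ∈ normalizer (B : Set H) := by
    obtain ⟨n', hn', he⟩ := LEAbelianClosed.controls T hsc (R : Set H) (fun r hr => hr.1) n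
      (fun r hr => ((mem_normalizer_iff.1 hn r).1 hr).1)
    have hc : n'⁻¹ * n ∈ centralizer (R : Set H) := mem_centralizer_iff.2 fun r hr => by
      calc r * (n'⁻¹ * n) = n'⁻¹ * (n' * r * n'⁻¹) * n := by group
        _ = n'⁻¹ * (n * r * n⁻¹) * n := by rw [he r hr]
        _ = _ := by group
    have := mul_mem hn' (sylow_le_normalizer hsc (hCT hc))
    rwa [mul_inv_cancel_left] at this
  have hfs : f ∈ ((Cfsg.layer H ⊔ Cfsg.fittingSubgroup H : Subgroup H) : Set H) := hf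
  rw [Subgroup.normal_mul] at hfs
  obtain ⟨e, he, f', hf', rfl⟩ := hfs
  exact ⟨e, he, f' * n, mul_mem (sylow_le_normalizer hsc (hFT hf')) hnB, mul_assoc _ _ _⟩

end closed

end Cfsg.Agent.ThreePrime
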