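import Cfsg.Agent.Lib.ThreePrime.Setup
import Mathlib.Data.ZMod.Basic
import Mathlib.Algebra.BigOperators.Group.Finset.Basic
import Mathlib.GroupTheory.GroupAction.Quotient

/-!
# The action of `N(A)` on a minimal strongly closed subgroup `A`: pieces `A = K × Z`

A piece is a splitting `A = K × Z` together with an element of `N(A)` of odd order centralising `K` and transitive on
`Z#`, as given by a component moved by `A`.  All statements here only use that `N(A)` acts irreducibly on `A` and that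
the order of `G` is prime to three.
-/

set_option autoImplicit false
set_option linter.style.haveILetI false
set_option linter.unusedSectionVars false

namespace Cfsg.Agent.ThreePrime

open Subgroup

universe u

variable {G : Type u} [Group G] {A : Subgroup G}

/-- `A = K × Z` with an element of odd order fixing `K` and transitive on `Z#`. -/
structure Piece (A : Subgroup G) where
  K : Subgroup G
  Z : Subgroup G
  t : G
  n : ℕ
  odd_n : Odd n
  three_le : 3 ≤ n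
  hK : K ≤ A
  hZ : Z ≤ A
  cardZ : Nat.card Z = 2 ^ n
  odd_t : Odd (orderOf t)
  tN : t ∈ normalizer (A : Set G)
  fix : ∀ k ∈ K, t * k = k * t
  tZ : ∀ z ∈ Z, t * z * t⁻¹ ∈ Z
  disj : ∀ z ∈ Z, z ∈ K → z = 1
  split : ∀ a ∈ A, ∃ k ∈ K, ∃ z ∈ Z, a = k * z
  trans : ∀ c ∈ Z, c ≠ 1 → ∀ d ∈ Z, d ≠ 1 → ∃ i : ℕ, t ^ i * c * (t ^ i)⁻¹ = d

/-- The elements of the orbit of `a` under `N(A)`. -/
def orb (A : Subgroup G) (a : G) : Set G := {x | ∃ n ∈ normalizer (A : Set G), n * a * n⁻¹ = x}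

theorem orb_self (a : G) : a ∈ orb A a := ⟨1, one_mem _, by simp⟩

theorem orb_conj {a x n : G} (hn : n ∈ normalizer (A : Set G)) (hx : x ∈ orb A a) : n * x * n⁻¹ ∈ orb A a := by
  obtain ⟨m, hm, rfl⟩ := hx
  exact ⟨n * m, mul_mem hn hm, by group⟩

theorem orb_subset {a : G} (ha : a ∈ A) : orb A a ⊆ (A : Set G) := by
  rintro x ⟨n, hn, rfl⟩
  exact (mem_normalizer_iff.1 hn a).1 ha

theorem orb_ne_one {a x : G} (ha : a ≠ 1) (hx : x ∈ orb A a) : x ≠ 1 := by
  obtain ⟨n, -, rfl⟩ := hx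
  rwa [Ne, conj_eq_one_iff]

theorem ncard_orb_dvd [Finite G] (a : G) : (orb A a).ncard ∣ Nat.card G := by
  letI : MulAction (normalizer (A : Set G)) G :=
    MulAction.compHom G ((MulAut.conj : G →* MulAut G).comp (normalizer (A : Set G)).subtype)
  have h : orb A a = MulAction.orbit (normalizer (A : Set G)) a := by
    ext x
    exact ⟨fun ⟨n, hn, he⟩ => ⟨⟨n, hn⟩, he⟩, fun ⟨⟨n, hn⟩, he⟩ => ⟨n, hn, he⟩⟩
  rw [h, ← MulAction.index_stabilizer]
  exact (Subgroup.index_dvd_card _).trans (card_subgroup_dvd_card _)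

variable {S : Sylow 2 G}

theorem Closed.eq_of_invariant [Finite G] (hA : Closed A S) {B : Subgroup G} (hB : B ≤ A) (h1 : B ≠ ⊥)
    (h : ∀ n ∈ normalizer (A : Set G), ∀ b ∈ B, n * b * n⁻¹ ∈ B) : B = A :=
  hA.irred B hB h1 fun n hn => mem_normalizer_fintype (h n hn)

theorem three_dvd_two_pow_sub_one {e : ℕ} (he : Even e) : 3 ∣ 2 ^ e - 1 := by
  obtain ⟨j, rfl⟩ := he
  have h := Nat.sub_dvd_pow_sub_pow (x := 4) (y := 1) j
  rw [one_pow, show (4 : ℕ) = 2 ^ 2 from rfl, ← pow_mul, two_mul] at h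
  exact h

namespace Piece

variable (P : Piece A)

theorem pow_fix {k : G} (hk : k ∈ P.K) (i : ℕ) : P.t ^ i * k * (P.t ^ i)⁻¹ = k := by
  rw [((show Commute P.t k from P.fix k hk).pow_left i).eq, mul_inv_cancel_right]

theorem pow_mem (i : ℕ) : P.t ^ i ∈ normalizer (A : Set G) := Subgroup.pow_mem _ P.tN i

theorem pow_Z {z : G} (hz : z ∈ P.Z) (i : ℕ) : P.t ^ i * z * (P.t ^ i)⁻¹ ∈ P.Z := by
  induction i with
  | zero => simpa using hz
  | succ i ih =>
    convert P.tZ _ ih using 1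
    rw [pow_succ']; group

theorem Z_ne_bot : P.Z ≠ ⊥ := fun h => by
  have := P.cardZ
  rw [h, Subgroup.card_bot] at this
  have h8 : 2 ^ 3 ≤ 2 ^ P.n := Nat.pow_le_pow_right (by norm_num) P.three_le
  omega

theorem eight_le : 8 ≤ Nat.card P.Z := by
  rw [P.cardZ]
  exact Nat.pow_le_pow_right (by norm_num : 0 < 2) P.three_le

theorem exists_ne_one : ∃ z ∈ P.Z, z ≠ 1 := by
  by_contra h
  push Not at h
  exact P.Z_ne_bot ((eq_bot_iff_forall _).2 h)

theorem exists_ne_pair [Finite G] (a : G) : ∃ z ∈ P.Z, z ≠ 1 ∧ z ≠ a := by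
  by_contra h
  push Not at h
  have h8 := P.eight_le
  have hs : (P.Z : Set G) ⊆ {1, a} := fun z hz => by
    rcases eq_or_ne z 1 with e | e
    · exact Or.inl e
    · exact Or.inr (h z hz e)
  have h2 := Set.ncard_le_ncard hs (Set.toFinite _)
  have h3 := Set.ncard_insert_le (1 : G) {a}
  rw [Set.ncard_singleton] at h3
  rw [← Nat.card_coe_set_eq] at h2
  change Nat.card P.Z ≤ _ at h2
  omega

variable (hA : Closed A S)
include hA

theorem split_unique {k k' z z' : G} (hk : k ∈ P.K) (hk' : k' ∈ P.K) (hz : z ∈ P.Z) (hz' : z' ∈ P.Z)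
    (h : k * z = k' * z') : k = k' ∧ z = z' := by
  have e : k'⁻¹ * k = z' * z⁻¹ := by
    rw [eq_mul_inv_iff_mul_eq, mul_assoc, h, inv_mul_cancel_left]
  have h1 := P.disj _ (mul_mem hz' (inv_mem hz)) (e ▸ mul_mem (inv_mem hk') hk)
  obtain rfl := (mul_inv_eq_one.1 h1)
  exact ⟨mul_right_cancel h, rfl⟩

theorem K_ne_top_of : P.K ≠ A := fun h => by
  obtain ⟨z, hz, hz1⟩ := P.exists_ne_one
  exact hz1 (P.disj z hz (h.ge (P.hZ hz)))

/-- An element of `A` fixed by `t` lies in `K`. -/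
theorem mem_K_of_fix [Finite G] {a : G} (ha : a ∈ A) (h : P.t * a = a * P.t) : a ∈ P.K := by
  obtain ⟨k, hk, z, hz, rfl⟩ := P.split a ha
  rcases eq_or_ne z 1 with rfl | hz1
  · simpa using hk
  exfalso
  have hz' : Commute P.t z := by
    have h1 : Commute P.t (k * z) := h
    have := ((show Commute P.t k from P.fix k hk).inv_right).mul_right h1
    rwa [inv_mul_cancel_left] at this
  obtain ⟨w, hw, hw1, hwz⟩ := P.exists_ne_pair z
  obtain ⟨i, hi⟩ := P.trans z hz hz1 w hw hw1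
  rw [(hz'.pow_left i).eq, mul_inv_cancel_right] at hi
  exact hwz hi.symm

/-- A commutator with `t` lies in `Z`. -/
theorem comm_mem {a : G} (ha : a ∈ A) : a⁻¹ * (P.t * a * P.t⁻¹) ∈ P.Z := by
  obtain ⟨k, hk, z, hz, rfl⟩ := P.split a ha
  convert mul_mem (inv_mem hz) (P.tZ z hz) using 1
  rw [show P.t * (k * z) * P.t⁻¹ = (P.t * k) * z * P.t⁻¹ by group, P.fix k hk]
  group

theorem card_mul [Finite G] : Nat.card P.K * Nat.card P.Z = Nat.card A := by
  rw [← Nat.card_prod]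
  refine Nat.card_eq_of_bijective (fun x => (⟨(x.1 : G) * x.2, mul_mem (P.hK x.1.2) (P.hZ x.2.2)⟩ : A)) ⟨?_, ?_⟩
  · rintro ⟨k, z⟩ ⟨k', z'⟩ h
    obtain ⟨h1, h2⟩ := P.split_unique hA k.2 k'.2 z.2 z'.2 (congrArg Subtype.val h)
    exact Prod.ext (Subtype.ext h1) (Subtype.ext h2)
  · rintro ⟨a, ha⟩
    obtain ⟨k, hk, z, hz, rfl⟩ := P.split a ha
    exact ⟨(⟨k, hk⟩, ⟨z, hz⟩), rfl⟩

variable [Finite G]

/-- The whole of `A#` is not one orbit when `|A|` is an even power of two. -/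
theorem _root_.Cfsg.Agent.ThreePrime.Closed.false_of_orbit (h3 : ¬ 3 ∣ Nat.card G) {a : G}
    (ha : a ∈ A) (ha1 : a ≠ 1) {e : ℕ} (he : Even e) (hcard : Nat.card A = 2 ^ e)
    (hall : ∀ x ∈ A, x ≠ 1 → x ∈ orb A a) : False := by
  have h : orb A a = (A : Set G) \ {1} := by
    ext x
    exact ⟨fun hx => ⟨orb_subset ha hx, orb_ne_one ha1 hx⟩, fun hx => hall x hx.1 hx.2⟩
  have h2 := ncard_orb_dvd (A := A) a
  rw [h, Set.ncard_sdiff_singleton_of_mem (one_mem A), ← Nat.card_coe_set_eq] at h2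
  change Nat.card A - 1 ∣ _ at h2
  rw [hcard] at h2
  exact h3 ((three_dvd_two_pow_sub_one he).trans h2)

/-- No kernel has order two. -/
theorem false_of_kernel_two (h3 : ¬ 3 ∣ Nat.card G) {a : G} (ha : a ∈ P.K) (ha1 : a ≠ 1)
    (hK : ∀ k ∈ P.K, k = 1 ∨ k = a) : False := by
  have haA := P.hK ha
  have hclass : ∀ x ∈ A, x ≠ 1 → x = a ∨ (x ∈ P.Z ∧ x ≠ 1) ∨ ∃ z ∈ P.Z, z ≠ 1 ∧ x = a * z := by
    intro x hx hx1
    obtain ⟨k, hk, z, hz, rfl⟩ := P.split x hx
    rcases hK k hk with rfl | rfl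
    · exact Or.inr (Or.inl ⟨by simpa using hz, hx1⟩)
    · rcases eq_or_ne z 1 with rfl | hz1
      · exact Or.inl (mul_one _)
      · exact Or.inr (Or.inr ⟨z, hz, hz1, rfl⟩)
  have hazZ : ∀ z ∈ P.Z, a * z ∉ P.Z := fun z hz h => ha1 (P.disj a (by simpa using mul_mem h (inv_mem hz)) ha)
  have hZinv : (∀ n ∈ normalizer (A : Set G), ∀ z ∈ P.Z, n * z * n⁻¹ ∈ P.Z) → False := fun h =>
    hazZ 1 (one_mem _) (by rw [mul_one, hA.eq_of_invariant P.hZ P.Z_ne_bot h]; exact haA)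
  by_cases hZO : ∃ z ∈ P.Z, z ∈ orb A a
  · obtain ⟨z₀, hz₀, hz₀O⟩ := hZO
    have hZall : ∀ z ∈ P.Z, z ≠ 1 → z ∈ orb A a := fun z hz hz1 => by
      obtain ⟨i, hi⟩ := P.trans z₀ hz₀ (orb_ne_one ha1 hz₀O) z hz hz1
      exact hi ▸ orb_conj (P.pow_mem i) hz₀O
    by_cases hW : ∃ z ∈ P.Z, z ≠ 1 ∧ a * z ∈ orb A a
    · obtain ⟨z₁, hz₁, hz₁1, hz₁O⟩ := hW
      refine hA.false_of_orbit h3 haA ha1 (e := P.n + 1) P.odd_n.add_one ?_ ?_
      · rw [← P.card_mul hA, P.cardZ, pow_succ, mul_comm]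
        congr 1
        rw [Nat.card_eq_two_iff]
        refine ⟨1, ⟨a, ha⟩, fun e => ha1 (congrArg Subtype.val e).symm, Set.eq_univ_of_forall fun k => ?_⟩
        rcases hK k k.2 with e | e
        · exact Or.inl (Subtype.ext e)
        · exact Or.inr (Subtype.ext e)
      · intro x hx hx1
        rcases hclass x hx hx1 with rfl | ⟨hxZ, -⟩ | ⟨z, hz, hz1, rfl⟩
        · exact orb_self x
        · exact hZall x hxZ hx1
        · obtain ⟨i, hi⟩ := P.trans z₁ hz₁ hz₁1 z hz hz1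
          rw [show a * z = P.t ^ i * (a * z₁) * (P.t ^ i)⁻¹ by
            rw [← hi]; nth_rewrite 1 [← P.pow_fix ha i]; group]
          exact orb_conj (P.pow_mem i) hz₁O
    · push Not at hW
      refine hZinv fun n hn z hz => ?_
      rcases eq_or_ne z 1 with rfl | hz1
      · simp
      have hO := orb_conj hn (hZall z hz hz1)
      rcases hclass _ (orb_subset haA hO) (orb_ne_one ha1 hO) with hea | ⟨h, -⟩ | ⟨w, hw, hw1, he⟩
      · obtain ⟨w, hw, hw1, hwz⟩ := P.exists_ne_pair z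
        have hzw : z * w ≠ 1 := fun e => hwz (by
          rw [← hA.inv (P.hZ hz)]; exact (inv_eq_of_mul_eq_one_right e).symm)
        have hO2 := orb_conj hn (hZall (z * w) (mul_mem hz hw) hzw)
        have hw' := orb_conj hn (hZall w hw hw1)
        rcases hclass _ (orb_subset haA hw') (orb_ne_one ha1 hw') with hwa | ⟨hwZ, hw'1⟩ | ⟨v, hv, hv1, hv2⟩
        · exact absurd (mul_left_cancel (mul_right_cancel (hwa.trans hea.symm))) hwz
        · exfalso
          refine hW _ hwZ hw'1 ?_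
          have e : n * (z * w) * n⁻¹ = (n * z * n⁻¹) * (n * w * n⁻¹) := by group
          have hO3 : n * z * n⁻¹ * (n * w * n⁻¹) ∈ orb A a := e ▸ hO2
          rwa [hea] at hO3
        · exact absurd (hv2 ▸ hw') (hW v hv hv1)
      · exact h
      · exact absurd (he ▸ hO) (hW w hw hw1)
  · push Not at hZO
    by_cases hW : ∃ z ∈ P.Z, z ≠ 1 ∧ a * z ∈ orb A a
    · obtain ⟨z₁, hz₁, hz₁1, hz₁O⟩ := hW
      refine hZinv fun n hn z hz => ?_
      rcases eq_or_ne z 1 with rfl | hz1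
      · simp
      have hzA := (mem_normalizer_iff.1 hn z).1 (P.hZ hz)
      by_contra hnot
      refine hZO z hz ?_
      have hne : n * z * n⁻¹ ≠ 1 := by rwa [Ne, conj_eq_one_iff]
      have hin : n * z * n⁻¹ ∈ orb A a := by
        rcases hclass _ hzA hne with e | ⟨h, -⟩ | ⟨w, hw, hw1, e⟩
        · rw [e]; exact orb_self a
        · exact absurd h hnot
        · obtain ⟨i, hi⟩ := P.trans z₁ hz₁ hz₁1 w hw hw1
          rw [e, show a * w = P.t ^ i * (a * z₁) * (P.t ^ i)⁻¹ by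
            rw [← hi]; nth_rewrite 1 [← P.pow_fix ha i]; group]
          exact orb_conj (P.pow_mem i) hz₁O
      have := orb_conj (inv_mem hn) hin
      rwa [show n⁻¹ * (n * z * n⁻¹) * n⁻¹⁻¹ = z by group] at this
    · push Not at hW
      refine hazZ 1 (one_mem _) ?_
      have hfix : ∀ n ∈ normalizer (A : Set G), n * a * n⁻¹ = a := fun n hn => by
        have hO := orb_conj hn (orb_self (A := A) a)
        rcases hclass _ (orb_subset haA hO) (orb_ne_one ha1 hO) with e | ⟨h, -⟩ | ⟨w, hw, hw1, e⟩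
        · exact e
        · exact absurd hO (hZO _ h)
        · exact absurd (e ▸ hO) (hW w hw hw1)
      refine absurd (hA.eq_of_invariant P.hK (fun e => ha1 ((eq_bot_iff_forall _).1 e a ha)) ?_) (P.K_ne_top_of hA)
      intro n hn k hk
      rcases hK k hk with rfl | rfl
      · simp
      · rw [hfix n hn]; exact hk

/-- The members of an `N(A)`-family of kernels meeting trivially coincide as soon as they share an element. -/
theorem same_member (hdis : ∀ x ∈ normalizer (A : Set G),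
      (∀ k ∈ P.K, x * k * x⁻¹ ∈ P.K) ∨ ∀ k ∈ P.K, x * k * x⁻¹ ∈ P.K → k = 1)
    {x y w : G} (hx : x ∈ normalizer (A : Set G)) (hy : y ∈ normalizer (A : Set G)) (hw : w ≠ 1)
    (hwx : x⁻¹ * w * x ∈ P.K) (hwy : y⁻¹ * w * y ∈ P.K) (v : G) :
    x⁻¹ * v * x ∈ P.K ↔ y⁻¹ * v * y ∈ P.K := by
  have hN : y⁻¹ * x ∈ normalizer (P.K : Set G) := by
    rcases hdis _ (mul_mem (inv_mem hy) hx) with h | h
    · exact mem_normalizer_fintype h
    · refine absurd (h _ hwx ?_) ?_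
      · convert hwy using 1
        group
      · exact fun e => hw ((conj_eq_one_iff (a := x⁻¹)).1 (by rw [inv_inv]; exact e))
  rw [mem_normalizer_iff.1 hN]
  rw [show y⁻¹ * x * (x⁻¹ * v * x) * (y⁻¹ * x)⁻¹ = y⁻¹ * v * y by group]

/-- A disjoint family of kernels covering `A#` is impossible. -/
theorem false_of_cover (h3 : ¬ 3 ∣ Nat.card G) (hK1 : P.K ≠ ⊥) (hdis : ∀ x ∈ normalizer (A : Set G),
      (∀ k ∈ P.K, x * k * x⁻¹ ∈ P.K) ∨ ∀ k ∈ P.K, x * k * x⁻¹ ∈ P.K → k = 1)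
    (hR : ∀ a ∈ A, a ≠ 1 → ∃ x ∈ normalizer (A : Set G), x⁻¹ * a * x ∈ P.K) : False := by
  classical
  haveI : Fintype G := Fintype.ofFinite G
  haveI : Fact (Nat.Prime 2) := ⟨Nat.prime_two⟩
  obtain ⟨a, haK, ha1⟩ : ∃ a ∈ P.K, a ≠ 1 := by
    by_contra h
    push Not at h
    exact hK1 ((eq_bot_iff_forall _).2 h)
  have ha := P.hK haK
  obtain ⟨z₀, hz₀, hz₀1⟩ := P.exists_ne_one
  let NF : Finset G := Finset.univ.filter fun x => x ∈ normalizer (A : Set G)
  let mem : G → Finset G := fun x => Finset.univ.filter fun v => x⁻¹ * v * x ∈ P.K ∧ v ≠ 1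
  let fam : Finset (Finset G) := NF.image mem
  let OF : Finset G := Finset.univ.filter fun v => v ∈ orb A a
  have hmem : ∀ x v, v ∈ mem x ↔ x⁻¹ * v * x ∈ P.K ∧ v ≠ 1 := fun x v => by simp [mem]
  have hfam : ∀ M ∈ fam, ∃ x ∈ normalizer (A : Set G), M = mem x := by
    intro M hM
    obtain ⟨x, hx, rfl⟩ := Finset.mem_image.1 hM
    exact ⟨x, (Finset.mem_filter.1 hx).2, rfl⟩
  have hpair : (fam : Set (Finset G)).PairwiseDisjoint id := by
    intro M hM M' hM' hne
    rw [Function.onFun, id, id, Finset.disjoint_left]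
    intro w hw hw'
    obtain ⟨x, hx, rfl⟩ := hfam M hM
    obtain ⟨y, hy, rfl⟩ := hfam M' hM'
    rw [hmem] at hw hw'
    refine hne (Finset.ext fun v => ?_)
    rw [hmem, hmem, P.same_member hA hdis hx hy hw.2 hw.1 hw'.1 v]
  have hinA : ∀ x ∈ normalizer (A : Set G), ∀ v, x⁻¹ * v * x ∈ P.K → v ∈ A := fun x hx v hv => by
    have := (mem_normalizer_iff.1 hx _).1 (P.hK hv)
    rwa [show x * (x⁻¹ * v * x) * x⁻¹ = v by group] at this
  -- all of `A#`
  have hAF : (Finset.univ.filter fun v => v ∈ A ∧ v ≠ 1) = fam.biUnion id := by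
    ext v
    simp only [Finset.mem_filter, Finset.mem_univ, true_and, Finset.mem_biUnion, id]
    constructor
    · rintro ⟨hv, hv1⟩
      obtain ⟨x, hx, hxv⟩ := hR v hv hv1
      exact ⟨mem x, Finset.mem_image.2 ⟨x, by simp [NF, hx], rfl⟩, (hmem x v).2 ⟨hxv, hv1⟩⟩
    · rintro ⟨M, hM, hv⟩
      obtain ⟨x, hx, rfl⟩ := hfam M hM
      rw [hmem] at hv
      exact ⟨hinA x hx v hv.1, hv.2⟩
  have hcardK : ∀ x, (mem x).card = Nat.card P.K - 1 := fun x => by
    have e : mem x = ((Finset.univ.filter fun v => v ∈ P.K).erase 1).image fun v => x * v * x⁻¹ := by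
      ext v
      simp only [hmem, Finset.mem_image, Finset.mem_erase, Finset.mem_filter, Finset.mem_univ, true_and]
      constructor
      · exact fun h => ⟨x⁻¹ * v * x, ⟨fun e => h.2 (by
          rw [show v = x * (x⁻¹ * v * x) * x⁻¹ by group, e]; group), h.1⟩, by group⟩
      · rintro ⟨w, ⟨hw1, hw⟩, rfl⟩
        exact ⟨by rwa [show x⁻¹ * (x * w * x⁻¹) * x = w by group], by rwa [Ne, conj_eq_one_iff]⟩
    rw [e, Finset.card_image_of_injective _ fun v w h => mul_left_cancel (mul_right_cancel h),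
      Finset.card_erase_of_mem (by simp), Nat.card_eq_fintype_card, Fintype.card_subtype]
  have hA1 : (Finset.univ.filter fun v => v ∈ A ∧ v ≠ 1).card = Nat.card A - 1 := by
    rw [Nat.card_eq_fintype_card, Fintype.card_subtype,
      ← Finset.card_erase_of_mem (s := Finset.univ.filter fun v => v ∈ A) (a := 1) (by simp)]
    congr 1
    ext v
    simp [and_comm]
  have e1 : Nat.card A - 1 = fam.card * (Nat.card P.K - 1) := by
    rw [← hA1, hAF, Finset.card_biUnion hpair]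
    refine Finset.sum_const_nat fun M hM => ?_
    obtain ⟨x, -, rfl⟩ := hfam M hM
    exact hcardK x
  -- the orbit
  set o := (OF.filter fun v => v ∈ P.K).card with ho
  have e2 : OF.card = fam.card * o := by
    have hOF : OF = fam.biUnion fun M => M.filter fun v => v ∈ orb A a := by
      ext v
      simp only [OF, Finset.mem_filter, Finset.mem_univ, true_and, Finset.mem_biUnion]
      refine ⟨fun hv => ?_, fun ⟨M, _, _, hv⟩ => hv⟩
      obtain ⟨x, hx, hxv⟩ := hR v (orb_subset ha hv) (orb_ne_one ha1 hv)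
      exact ⟨mem x, Finset.mem_image.2 ⟨x, by simp [NF, hx], rfl⟩, (hmem x v).2 ⟨hxv, orb_ne_one ha1 hv⟩, hv⟩
    rw [hOF, Finset.card_biUnion fun M hM M' hM' hne =>
      Finset.disjoint_filter_filter (p := fun v => v ∈ orb A a) (q := fun v => v ∈ orb A a) (show Disjoint M M' from hpair hM hM' hne)]
    refine Finset.sum_const_nat fun M hM => ?_
    obtain ⟨x, hx, rfl⟩ := hfam M hM
    refine Finset.card_bij (fun v _ => x⁻¹ * v * x) ?_ ?_ ?_
    · intro v hv
      simp only [Finset.mem_filter, hmem] at hv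
      simp only [OF, Finset.mem_filter, Finset.mem_univ, true_and]
      refine ⟨?_, hv.1.1⟩
      simpa using orb_conj (inv_mem hx) hv.2
    · intro v _ w _ h
      exact mul_left_cancel (mul_right_cancel h)
    · intro w hw
      simp only [OF, Finset.mem_filter, Finset.mem_univ, true_and] at hw
      refine ⟨x * w * x⁻¹, ?_, by group⟩
      simp only [Finset.mem_filter, hmem]
      exact ⟨⟨by rw [show x⁻¹ * (x * w * x⁻¹) * x = w by group]; exact hw.2,
        by rw [Ne, conj_eq_one_iff]; exact orb_ne_one ha1 hw.1⟩, orb_conj hx hw.1⟩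
  -- outside `K` the orbit is a union of the sets `k Z#`
  let ZF : Finset G := Finset.univ.filter fun z => z ∈ P.Z ∧ z ≠ 1
  let SF : Finset G := Finset.univ.filter fun k => k ∈ P.K ∧ k * z₀ ∈ orb A a
  have e3 : OF.card = o + SF.card * (Nat.card P.Z - 1) := by
    rw [← Finset.card_filter_add_card_filter_not (s := OF) (p := fun v => v ∈ P.K), ← ho]
    congr 1
    have hZF : ZF.card = Nat.card P.Z - 1 := by
      rw [Nat.card_eq_fintype_card, Fintype.card_subtype,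
        ← Finset.card_erase_of_mem (s := Finset.univ.filter fun v => v ∈ P.Z) (a := 1) (by simp)]
      congr 1
      ext v
      simp [ZF, and_comm]
    rw [← hZF, ← Finset.card_product]
    symm
    refine Finset.card_bij (fun p _ => p.1 * p.2) ?_ ?_ ?_
    · rintro ⟨k, z⟩ hp
      simp only [Finset.mem_product, SF, ZF, Finset.mem_filter, Finset.mem_univ, true_and] at hp
      simp only [OF, Finset.mem_filter, Finset.mem_univ, true_and]
      obtain ⟨i, hi⟩ := P.trans z₀ hz₀ hz₀1 z hp.2.1 hp.2.2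
      refine ⟨?_, fun hk => hp.2.2 (P.disj z hp.2.1 (by simpa using mul_mem (inv_mem hp.1.1) hk))⟩
      rw [show k * z = P.t ^ i * (k * z₀) * (P.t ^ i)⁻¹ by
        rw [← hi]; nth_rewrite 1 [← P.pow_fix hp.1.1 i]; group]
      exact orb_conj (P.pow_mem i) hp.1.2
    · rintro ⟨k, z⟩ hp ⟨k', z'⟩ hp' h
      simp only [Finset.mem_product, SF, ZF, Finset.mem_filter, Finset.mem_univ, true_and] at hp hp'
      obtain ⟨h1, h2⟩ := P.split_unique hA hp.1.1 hp'.1.1 hp.2.1 hp'.2.1 h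
      rw [h1, h2]
    · intro v hv
      simp only [OF, Finset.mem_filter, Finset.mem_univ, true_and] at hv
      obtain ⟨k, hk, z, hz, rfl⟩ := P.split v (orb_subset ha hv.1)
      have hz1 : z ≠ 1 := fun e => hv.2 (by rw [e, mul_one]; exact hk)
      obtain ⟨i, hi⟩ := P.trans z hz hz1 z₀ hz₀ hz₀1
      refine ⟨⟨k, z⟩, ?_, rfl⟩
      simp only [Finset.mem_product, SF, ZF, Finset.mem_filter, Finset.mem_univ, true_and]
      refine ⟨⟨hk, ?_⟩, hz, hz1⟩
      rw [show k * z₀ = P.t ^ i * (k * z) * (P.t ^ i)⁻¹ by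
        rw [← hi]; nth_rewrite 1 [← P.pow_fix hk i]; group]
      exact orb_conj (P.pow_mem i) hv.1
  have ho1 : 1 ≤ o := Finset.card_pos.2 ⟨a, by simp [OF, orb_self, haK]⟩
  have hole : o ≤ Nat.card P.K - 1 := by
    rw [← hcardK 1]
    refine Finset.card_le_card fun v hv => ?_
    simp only [OF, Finset.mem_filter, Finset.mem_univ, true_and] at hv
    rw [hmem]
    exact ⟨by simpa using hv.2, orb_ne_one ha1 hv.1⟩
  -- arithmetic
  obtain ⟨Q, hQ⟩ : ∃ Q, Nat.card P.K = Q + 1 := ⟨_, (Nat.succ_pred_eq_of_pos Nat.card_pos).symm⟩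
  obtain ⟨q, hq⟩ : ∃ q, Nat.card P.Z = q + 1 := ⟨_, (Nat.succ_pred_eq_of_pos Nat.card_pos).symm⟩
  have hq0 : 0 < q := by have := P.eight_le; omega
  have hmulA := P.card_mul hA
  rw [hQ, hq] at hmulA
  rw [e2, hq, Nat.add_sub_cancel] at e3
  rw [hQ, ← hmulA, Nat.add_sub_cancel, show (Q + 1) * (q + 1) = (Q + 1) * q + Q + 1 by ring,
    Nat.add_sub_cancel] at e1
  rw [hQ, Nat.add_sub_cancel] at hole
  have e4 : (Q + 1) * o = Q * SF.card := by
    refine mul_left_cancel₀ hq0.ne' ?_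
    have : ((Q + 1) * q + Q) * o = Q * (o + SF.card * q) := by rw [e1, ← e3]; ring
    linarith [this]
  have hdvd : Q ∣ o := (Nat.dvd_add_right (dvd_mul_right Q o)).1 ⟨SF.card, by rw [← e4]; ring⟩
  have hoQ : o = Q := le_antisymm hole (Nat.le_of_dvd ho1 hdvd)
  have hall : ∀ x ∈ A, x ≠ 1 → x ∈ orb A a := by
    have hsub : OF ⊆ Finset.univ.filter fun v => v ∈ A ∧ v ≠ 1 := fun v hv => by
      simp only [OF, Finset.mem_filter, Finset.mem_univ, true_and] at hv ⊢
      exact ⟨orb_subset ha hv, orb_ne_one ha1 hv⟩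
    have heq := Finset.eq_of_subset_of_card_le hsub (by
      rw [hA1, e2, hoQ, ← hmulA, show (Q + 1) * (q + 1) = (Q + 1) * q + Q + 1 by ring, Nat.add_sub_cancel, e1])
    intro x hx hx1
    have : x ∈ OF := heq ▸ (by simp [hx, hx1])
    simpa [OF] using this
  obtain ⟨e, he⟩ := hA.isPGroup.exists_card_eq
  rcases Nat.even_or_odd e with hev | hod
  · exact hA.false_of_orbit h3 ha ha1 hev he hall
  · obtain ⟨k, hk⟩ := (hA.isPGroup.to_le P.hK).exists_card_eq
    have hsum : k + P.n = e := Nat.pow_right_injective le_rfl (by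
      show 2 ^ (k + P.n) = 2 ^ e
      rw [pow_add, ← hk, ← P.cardZ, P.card_mul hA, he])
    have hkev : Even k := by
      rcases Nat.even_or_odd k with h | h
      · exact h
      · exact absurd (h.add_odd P.odd_n) (hsum ▸ Nat.not_even_iff_odd.2 hod)
    refine h3 (((three_dvd_two_pow_sub_one hkev).trans ?_).trans (ncard_orb_dvd (A := A) a))
    have hO : (orb A a).ncard = OF.card := by
      rw [← Set.ncard_coe_finset]
      congr 1
      ext v
      simp [OF]
    rw [hO, e2, hoQ, ← hk, hQ, Nat.add_sub_cancel]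
    exact dvd_mul_left _ _

/-- A disjoint family of kernels is `{K, Z}`. -/
theorem cover (h3 : ¬ 3 ∣ Nat.card G) (hK1 : P.K ≠ ⊥) (hdis : ∀ x ∈ normalizer (A : Set G),
      (∀ k ∈ P.K, x * k * x⁻¹ ∈ P.K) ∨ ∀ k ∈ P.K, x * k * x⁻¹ ∈ P.K → k = 1) :
    (∃ x ∈ normalizer (A : Set G), (∀ y, x⁻¹ * y * x ∈ P.K ↔ y ∈ P.Z) ∧ ∀ y, x⁻¹ * y * x ∈ P.Z ↔ y ∈ P.K) ∧
      ∀ x ∈ normalizer (A : Set G), (∀ y, x⁻¹ * y * x ∈ P.K ↔ y ∈ P.K) ∨ ∀ y, x⁻¹ * y * x ∈ P.K ↔ y ∈ P.Z := by
  classical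
  haveI : Fintype G := Fintype.ofFinite G
  obtain ⟨z₀, hz₀, hz₀1⟩ := P.exists_ne_one
  have hKne : ∃ a ∈ P.K, a ≠ 1 := by
    by_contra h
    push Not at h
    exact hK1 ((eq_bot_iff_forall _).2 h)
  -- some member differs from `K`
  obtain ⟨x₀, hx₀, hx₀K⟩ : ∃ x ∈ normalizer (A : Set G), ∃ k ∈ P.K, x * k * x⁻¹ ∉ P.K := by
    by_contra h
    push Not at h
    exact P.K_ne_top_of hA (hA.eq_of_invariant P.hK hK1 h)
  have hconjk : ∀ {x k : G}, x⁻¹ * (x * k * x⁻¹) * x = k := fun {x k} => by group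
  -- members different from `K` meet `K` trivially
  have hmeetK : ∀ x ∈ normalizer (A : Set G), ∀ y, y ≠ 1 → x⁻¹ * y * x ∈ P.K → y ∈ P.K →
      ∀ v, x⁻¹ * v * x ∈ P.K ↔ v ∈ P.K := fun x hx y hy1 hy hyK v => by
    simpa using P.same_member hA hdis hx (one_mem _) hy1 hy (by simpa using hyK) v
  have hinA : ∀ x ∈ normalizer (A : Set G), ∀ v, x⁻¹ * v * x ∈ P.K → v ∈ A := fun x hx v hv => by
    have := (mem_normalizer_iff.1 hx _).1 (P.hK hv)
    rwa [show x * (x⁻¹ * v * x) * x⁻¹ = v by group] at this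
  have hspread : ∀ (k z w : G), k ∈ P.K → z ∈ P.Z → z ≠ 1 → w ∈ P.Z → w ≠ 1 →
      (∃ x ∈ normalizer (A : Set G), x⁻¹ * (k * z) * x ∈ P.K) →
      ∃ x ∈ normalizer (A : Set G), x⁻¹ * (k * w) * x ∈ P.K := by
    rintro k z w hk hz hz1 hw hw1 ⟨x, hx, hxk⟩
    obtain ⟨i, hi⟩ := P.trans z hz hz1 w hw hw1
    refine ⟨P.t ^ i * x, mul_mem (P.pow_mem i) hx, ?_⟩
    convert hxk using 1
    rw [← hi]
    nth_rewrite 1 [← P.pow_fix hk i]
    group
  -- no member meets `Z` trivially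
  have hB : ∀ x ∈ normalizer (A : Set G), (∃ k ∈ P.K, x * k * x⁻¹ ∉ P.K) →
      ∃ y ∈ P.Z, y ≠ 1 ∧ x⁻¹ * y * x ∈ P.K := by
    intro x hx hxK
    by_contra hno
    push Not at hno
    -- projection of the member to `K` is a bijection
    have hdec : ∀ k : P.K, ∃ k' ∈ P.K, ∃ z ∈ P.Z, x * k * x⁻¹ = k' * z := fun k =>
      P.split _ ((mem_normalizer_iff.1 hx _).1 (P.hK k.2))
    choose f hf g hg hfg using hdec
    have hfinj : Function.Injective (fun k : P.K => (⟨f k, hf k⟩ : P.K)) := fun k l hkl => by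
      have e : f k = f l := congrArg Subtype.val hkl
      have h1 : (g k)⁻¹ * g l = x * ((k : G)⁻¹ * l) * x⁻¹ := by
        rw [show x * ((k : G)⁻¹ * l) * x⁻¹ = (x * k * x⁻¹)⁻¹ * (x * l * x⁻¹) by group, hfg, hfg, e]
        group
      by_contra hne
      refine hno _ (h1 ▸ mul_mem (inv_mem (hg k)) (hg l)) (fun h => hne ?_) ?_
      · rw [conj_eq_one_iff, inv_mul_eq_one] at h
        exact Subtype.ext h
      · rw [hconjk]
        exact mul_mem (inv_mem k.2) l.2
    have hsurj := Finite.surjective_of_injective hfinj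
    have hkz : ∀ k ∈ P.K, k ≠ 1 → ∀ w ∈ P.Z, w ≠ 1 → ∃ y ∈ normalizer (A : Set G), y⁻¹ * (k * w) * y ∈ P.K := by
      intro k hk hk1 w hw hw1
      obtain ⟨l, hl⟩ := hsurj ⟨k, hk⟩
      have hlk : f l = k := congrArg Subtype.val hl
      have hz1 : g l ≠ 1 := by
        intro hz1
        have hv := hfg l
        rw [hlk, hz1, mul_one] at hv
        obtain ⟨k', hk', hk'K⟩ := hxK
        exact hk'K (((hmeetK x hx k hk1 (by rw [← hv, hconjk]; exact l.2) hk) _).1 (by rw [hconjk]; exact hk'))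
      refine hspread k (g l) w hk (hg l) hz1 hw hw1 ⟨x, hx, ?_⟩
      rw [← hlk, ← hfg, hconjk]
      exact l.2
    by_cases hZ : ∃ y ∈ normalizer (A : Set G), y⁻¹ * z₀ * y ∈ P.K
    · refine P.false_of_cover hA h3 hK1 hdis fun a ha ha1 => ?_
      obtain ⟨k, hk, z, hz, rfl⟩ := P.split a ha
      rcases eq_or_ne z 1 with rfl | hz1
      · exact ⟨1, one_mem _, by simpa using hk⟩
      rcases eq_or_ne k 1 with rfl | hk1
      · exact hspread 1 z₀ z (one_mem _) hz₀ hz₀1 hz hz1 (by simpa using hZ)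
      · exact hkz k hk hk1 z hz hz1
    · obtain ⟨a, ha, ha1⟩ := hKne
      refine ha1 (P.disj a ?_ ha)
      rw [hA.eq_of_invariant P.hZ P.Z_ne_bot]
      · exact P.hK ha
      intro n hn z hz
      rcases eq_or_ne z 1 with rfl | hz1
      · simp
      by_contra hnot
      obtain ⟨k, hk, w, hw, he⟩ := P.split _ ((mem_normalizer_iff.1 hn z).1 (P.hZ hz))
      have hk1 : k ≠ 1 := fun e => hnot (by rw [he, e, one_mul]; exact hw)
      obtain ⟨y, hy, hyk⟩ : ∃ y ∈ normalizer (A : Set G), y⁻¹ * (k * w) * y ∈ P.K := by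
        rcases eq_or_ne w 1 with rfl | hw1
        · exact ⟨1, one_mem _, by simpa using hk⟩
        · exact hkz k hk hk1 w hw hw1
      have h2 : ∃ y ∈ normalizer (A : Set G), y⁻¹ * (1 * z) * y ∈ P.K := by
        refine ⟨n⁻¹ * y, mul_mem (inv_mem hn) hy, ?_⟩
        rw [← he] at hyk
        convert hyk using 1
        group
      exact hZ (by simpa using hspread 1 z z₀ (one_mem _) hz hz1 hz₀ hz₀1 h2)
  -- a member meets `Z`, so all of `Z#` is covered; a mixed element is never covered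
  have hZcov : ∀ z ∈ P.Z, z ≠ 1 → ∃ y ∈ normalizer (A : Set G), y⁻¹ * z * y ∈ P.K := fun z hz hz1 => by
    obtain ⟨y, hy, hy1, hyK⟩ := hB x₀ hx₀ hx₀K
    simpa using hspread 1 y z (one_mem _) hy hy1 hz hz1 ⟨x₀, hx₀, by simpa using hyK⟩
  have hmixed : ∀ k ∈ P.K, k ≠ 1 → ∀ z ∈ P.Z, z ≠ 1 → ∀ y ∈ normalizer (A : Set G),
      y⁻¹ * (k * z) * y ∈ P.K → False := by
    intro k hk hk1 z hz hz1 y hy hyk
    have hcov : ∀ w : G, w ∈ P.Z ∧ w ≠ 1 → ∃ y ∈ normalizer (A : Set G), y⁻¹ * (k * w) * y ∈ P.K :=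
      fun w hw => hspread k z w hk hz hz1 hw.1 hw.2 ⟨y, hy, hyk⟩
    have hne : ∀ w : G, w ∈ P.Z → w ≠ 1 → k * w ∉ P.K := fun w hw hw1 h =>
      hw1 (P.disj w hw (by simpa using mul_mem (inv_mem hk) h))
    have hne1 : ∀ w : G, w ∈ P.Z → w ≠ 1 → k * w ≠ 1 := fun w hw hw1 h => hne w hw hw1 (h ▸ one_mem _)
    -- for each covering member a fixed element of `Z#`
    let s : (G → Prop) → G := fun M => if h : ∃ c, c ∈ P.Z ∧ c ≠ 1 ∧ M c then h.choose else 1
    choose yf hyfN hyfK using hcov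
    let τ : G → G := fun w => if h : w ∈ P.Z ∧ w ≠ 1 then
      w * s (fun v => (yf w h)⁻¹ * v * yf w h ∈ P.K) else w
    have hτ : ∀ (w : G) (h : w ∈ P.Z ∧ w ≠ 1), τ w ∈ P.Z ∧ τ w ≠ 1 ∧ τ w ≠ w ∧ τ (τ w) = w := by
      intro w h
      let y := yf w h
      have hy' : y ∈ normalizer (A : Set G) := hyfN w h
      have hyk' : y⁻¹ * (k * w) * y ∈ P.K := hyfK w h
      have hyK : ∃ k' ∈ P.K, y * k' * y⁻¹ ∉ P.K := ⟨_, hyk', by
        rw [show y * (y⁻¹ * (k * w) * y) * y⁻¹ = k * w by group]; exact hne w h.1 h.2⟩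
      have hex : ∃ c, c ∈ P.Z ∧ c ≠ 1 ∧ y⁻¹ * c * y ∈ P.K := hB y hy' hyK
      obtain ⟨c, hc, hc1, hcK, hsc⟩ : ∃ c, c ∈ P.Z ∧ c ≠ 1 ∧ y⁻¹ * c * y ∈ P.K ∧
          s (fun v => y⁻¹ * v * y ∈ P.K) = c :=
        ⟨hex.choose, hex.choose_spec.1, hex.choose_spec.2.1, hex.choose_spec.2.2, dif_pos hex⟩
      have hτw : τ w = w * c := by
        simp only [τ, dif_pos h]
        exact congrArg (w * ·) hsc
      have hprod : y⁻¹ * (k * (w * c)) * y ∈ P.K := by
        convert mul_mem hyk' hcK using 1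
        group
      have hwc1 : w * c ≠ 1 := fun e => by
        rw [e, mul_one] at hprod
        obtain ⟨k', hk', hk'K⟩ := hyK
        exact hk'K (((hmeetK y hy' k hk1 hprod hk) _).1 (by rw [hconjk]; exact hk'))
      have hwc : w * c ∈ P.Z ∧ w * c ≠ 1 := ⟨mul_mem h.1 hc, hwc1⟩
      rw [hτw]
      refine ⟨hwc.1, hwc1, fun e => hc1 (mul_eq_left.1 e), ?_⟩
      let y' := yf _ hwc
      have hy'' : y' ∈ normalizer (A : Set G) := hyfN _ hwc
      have hyk'' : y'⁻¹ * (k * (w * c)) * y' ∈ P.K := hyfK _ hwc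
      have hsame : ∀ v, y'⁻¹ * v * y' ∈ P.K ↔ y⁻¹ * v * y ∈ P.K :=
        P.same_member hA hdis hy'' hy' (hne1 _ hwc.1 hwc1) hyk'' hprod
      have hτ2 : τ (w * c) = w * c * c := by
        simp only [τ, dif_pos hwc]
        exact congrArg (w * c * ·) ((congrArg s (funext fun v => propext (hsame v))).trans hsc)
      rw [hτ2, mul_assoc, hA.sq (P.hZ hc), mul_one]
    let ZF : Finset G := Finset.univ.filter fun w => w ∈ P.Z ∧ w ≠ 1
    have hZmem : ∀ w, w ∈ ZF ↔ w ∈ P.Z ∧ w ≠ 1 := fun w => by simp [ZF]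
    have heven : (ZF.card : ZMod 2) = 0 := by
      rw [Finset.cast_card]
      exact Finset.sum_involution (fun w _ => τ w) (fun w _ => by decide)
        (fun w hw _ => (hτ w ((hZmem w).1 hw)).2.2.1)
        (fun w hw => (hZmem _).2 ⟨(hτ w ((hZmem w).1 hw)).1, (hτ w ((hZmem w).1 hw)).2.1⟩)
        (fun w hw => (hτ w ((hZmem w).1 hw)).2.2.2)
    rw [ZMod.natCast_eq_zero_iff_even] at heven
    have hZF : ZF.card = Nat.card P.Z - 1 := by
      rw [Nat.card_eq_fintype_card, Fintype.card_subtype,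
        ← Finset.card_erase_of_mem (s := Finset.univ.filter fun v => v ∈ P.Z) (a := 1) (by simp)]
      congr 1
      ext v
      simp [ZF, and_comm]
    rw [hZF, P.cardZ] at heven
    have h2n : Even (2 ^ P.n) := (Nat.even_pow' (by have := P.three_le; omega)).2 even_two
    exact (Nat.not_even_iff_odd.2 (Nat.Even.sub_odd Nat.one_le_two_pow h2n odd_one)) heven
  -- so every member is inside `K ∪ Z`
  have hKZ : ∀ x ∈ normalizer (A : Set G), ∀ v, x⁻¹ * v * x ∈ P.K → v ∈ P.K ∨ v ∈ P.Z := by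
    intro x hx v hv
    obtain ⟨k, hk, z, hz, rfl⟩ := P.split v (hinA x hx v hv)
    rcases eq_or_ne k 1 with rfl | hk1
    · exact Or.inr (by simpa using hz)
    rcases eq_or_ne z 1 with rfl | hz1
    · exact Or.inl (by simpa using hk)
    exact (hmixed k hk hk1 z hz hz1 x hx hv).elim
  have key : ∀ x ∈ normalizer (A : Set G), (∃ k ∈ P.K, x * k * x⁻¹ ∉ P.K) →
      (∀ y, x⁻¹ * y * x ∈ P.K ↔ y ∈ P.Z) ∧ ∀ y, x⁻¹ * y * x ∈ P.Z ↔ y ∈ P.K := by
    intro x hx hxK
    have hsub : ∀ v, x⁻¹ * v * x ∈ P.K → v ∈ P.Z := by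
      intro v hv
      rcases eq_or_ne v 1 with rfl | hv1
      · exact one_mem _
      refine (hKZ x hx v hv).resolve_left fun hvK => ?_
      obtain ⟨k', hk', hk'K⟩ := hxK
      exact hk'K (((hmeetK x hx v hv1 hv hvK) _).1 (by rw [hconjk]; exact hk'))
    have hback : ∀ v ∈ A, (x⁻¹ * v * x ∈ P.K ∨ x⁻¹ * v * x ∈ P.Z) ↔ (v ∈ P.K ∨ v ∈ P.Z) := by
      intro v hv
      constructor
      · intro h
        rcases h with h | h
        · exact hKZ x hx v h
        · rcases eq_or_ne (x⁻¹ * v * x) 1 with e | h1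
          · exact Or.inl (by rw [show v = x * (x⁻¹ * v * x) * x⁻¹ by group, e]; simp)
          · obtain ⟨y, hy, hyK⟩ := hZcov _ h h1
            refine hKZ (x * y) (mul_mem hx hy) v ?_
            convert hyK using 1
            group
      · intro h
        have hxv : x⁻¹ * v * x ∈ A := by simpa using (mem_normalizer_iff.1 (inv_mem hx) v).1 hv
        rcases h with h | h
        · rcases eq_or_ne (x⁻¹ * v * x) 1 with e | h1
          · exact Or.inl (e ▸ one_mem _)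
          · refine hKZ x⁻¹ (inv_mem hx) _ ?_
            convert h using 1
            group
        · rcases eq_or_ne v 1 with rfl | hv1
          · exact Or.inl (by simp)
          · obtain ⟨y, hy, hyK⟩ := hZcov v h hv1
            refine hKZ (x⁻¹ * y) (mul_mem (inv_mem hx) hy) _ ?_
            convert hyK using 1
            group
    have hKsub : ∀ k ∈ P.K, x⁻¹ * k * x ∈ P.Z := by
      intro k hk
      rcases eq_or_ne k 1 with rfl | hk1
      · simp
      refine ((hback k (P.hK hk)).2 (Or.inl hk)).resolve_left fun h => hk1 ?_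
      exact P.disj k (hsub k h) hk
    have hZsub : ∀ z ∈ P.Z, x⁻¹ * z * x ∈ P.K := by
      intro z hz
      by_contra hnot
      have h1 := ((hback z (P.hZ hz)).2 (Or.inr hz)).resolve_left hnot
      by_cases hall : ∀ w ∈ P.Z, x⁻¹ * w * x ∈ P.Z
      · have hAll : ∀ a ∈ A, x⁻¹ * a * x ∈ P.Z := by
          intro a ha
          obtain ⟨k, hk, w, hw, rfl⟩ := P.split a ha
          convert mul_mem (hKsub k hk) (hall w hw) using 1
          group
        obtain ⟨k, hk, hk1⟩ := hKne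
        refine hk1 (P.disj k ?_ hk)
        simpa [mul_assoc] using hAll (x * k * x⁻¹) ((mem_normalizer_iff.1 hx k).1 (P.hK hk))
      · push Not at hall
        obtain ⟨w, hw, hwnot⟩ := hall
        have h2 := ((hback w (P.hZ hw)).2 (Or.inr hw)).resolve_right hwnot
        rcases (hback _ (P.hZ (mul_mem hz hw))).2 (Or.inr (mul_mem hz hw)) with h | h
        · refine hnot ?_
          convert mul_mem h (inv_mem h2) using 1
          group
        · refine hwnot ?_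
          convert mul_mem (inv_mem h1) h using 1
          group
    refine ⟨fun y => ⟨hsub y, hZsub y⟩, fun y => ⟨fun hy => ?_, hKsub y⟩⟩
    have hyA : y ∈ A := by
      have := (mem_normalizer_iff.1 hx _).1 (P.hZ hy)
      rwa [show x * (x⁻¹ * y * x) * x⁻¹ = y by group] at this
    obtain ⟨k, hk, z, hz, rfl⟩ := P.split y hyA
    have h1 : x⁻¹ * z * x ∈ P.Z := by
      convert mul_mem (inv_mem (hKsub k hk)) hy using 1
      group
    have h2 := P.disj _ h1 (hZsub z hz)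
    rw [show z = x * (x⁻¹ * z * x) * x⁻¹ by group, h2]
    simpa using hk
  refine ⟨⟨x₀, hx₀, key x₀ hx₀ hx₀K⟩, fun x hx => ?_⟩
  by_cases hxK : ∃ k ∈ P.K, x * k * x⁻¹ ∉ P.K
  · exact Or.inr (key x hx hxK).1
  · push Not at hxK
    left
    intro y
    rw [mem_normalizer_iff.1 (mem_normalizer_fintype hxK : x ∈ normalizer (P.K : Set G))]
    rw [show x * (x⁻¹ * y * x) * x⁻¹ = y by group]

/-- With kernels `{K, Z}` any further kernel shares an element with `K` or with `Z`. -/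
theorem meet_of_pair (hpair : ∀ x ∈ normalizer (A : Set G),
      (∀ y, x⁻¹ * y * x ∈ P.K ↔ y ∈ P.K) ∨ ∀ y, x⁻¹ * y * x ∈ P.K ↔ y ∈ P.Z) (hK1 : P.K ≠ ⊥) (P' : Piece A) :
    (∃ y, y ≠ 1 ∧ y ∈ P'.K ∧ y ∈ P.K) ∨ ∃ y, y ≠ 1 ∧ y ∈ P'.K ∧ y ∈ P.Z := by
  have hne : ∀ B : Subgroup G, B ≠ ⊥ → ∃ y ∈ B, y ≠ 1 := fun B h => by
    by_contra h'
    push Not at h'
    exact h ((eq_bot_iff_forall _).2 h')
  -- `t'` stabilises `K` and `Z`
  obtain ⟨i, hi⟩ := P'.odd_t
  have ht : P'.t = (P'.t * P'.t) ^ (i + 1) := by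
    rw [← pow_two, ← pow_mul, show 2 * (i + 1) = orderOf P'.t + 1 by omega, pow_succ, pow_orderOf_eq_one, one_mul]
  have hsq : ∀ {s : G}, s ∈ normalizer (A : Set G) → s * s ∈ normalizer (P.K : Set G) := by
    intro s hs
    rcases hpair s hs with h | h
    · refine mul_mem ?_ ?_ <;> refine mem_normalizer_fintype fun y hy => (h _).1 ?_ <;>
        simpa [mul_assoc] using hy
    · rcases hpair (s * s) (mul_mem hs hs) with h2 | h2
      · exact mem_normalizer_fintype fun y hy => (h2 _).1 (by simpa [mul_assoc] using hy)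
      · exfalso
        obtain ⟨k, hk, hk1⟩ := hne _ hK1
        have hZ1 := (h (s * k * s⁻¹)).1 (by simpa [mul_assoc] using hk)
        have hZ2 : s * (s * k * s⁻¹) * s⁻¹ ∈ P.Z := (h2 _).1 (by simpa [mul_assoc] using hk)
        have hK3 : s * k * s⁻¹ ∈ P.K := by simpa [mul_assoc] using (h _).2 hZ2
        exact hk1 (conj_eq_one_iff.1 (P.disj _ hZ1 hK3))
  have htK : P'.t ∈ normalizer (P.K : Set G) := by rw [ht]; exact Subgroup.pow_mem _ (hsq P'.tN) _
  have htZ : ∀ z ∈ P.Z, P'.t * z * P'.t⁻¹ ∈ P.Z := by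
    have htK2 : ∀ (y : G), y ∈ P.K → P'.t * y * P'.t⁻¹ ∈ P.K := fun y hy => (mem_normalizer_iff.1 htK y).1 hy
    obtain ⟨x, hx, hxK⟩ : ∃ x ∈ normalizer (A : Set G), ∀ y, x⁻¹ * y * x ∈ P.K ↔ y ∈ P.Z := by
      by_contra h
      push Not at h
      refine P.K_ne_top_of hA (hA.eq_of_invariant P.hK hK1 fun n hn k hk => ?_)
      rcases hpair n hn with h' | h'
      · exact (h' _).1 (by simpa [mul_assoc] using hk)
      · obtain ⟨y, hy⟩ := h n hn
        exact absurd (h' y) (by tauto)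
    intro z hz
    have hz' := (hxK z).2 hz
    rcases hpair (x⁻¹ * P'.t⁻¹ * x) (mul_mem (mul_mem (inv_mem hx) (inv_mem P'.tN)) hx) with h | h
    · have := (h (x⁻¹ * z * x)).2 hz'
      rw [← hxK]
      convert this using 1
      group
    · exfalso
      -- an element of odd order cannot exchange `K` and `Z`
      have hsw : x⁻¹ * P'.t⁻¹ * x ∈ normalizer (P.K : Set G) := by
        have e : x⁻¹ * P'.t⁻¹ * x = ((x⁻¹ * P'.t⁻¹ * x) * (x⁻¹ * P'.t⁻¹ * x)) ^ (i + 1) := by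
          conv_lhs => rw [ht]
          rw [← inv_pow, mul_inv_rev, show x⁻¹ * P'.t⁻¹ * x * (x⁻¹ * P'.t⁻¹ * x) = x⁻¹ * (P'.t⁻¹ * P'.t⁻¹) * x by group]
          simpa using (conj_pow (a := x⁻¹) (b := P'.t⁻¹ * P'.t⁻¹) (i := i + 1)).symm
        rw [e]
        exact Subgroup.pow_mem _ (hsq (mul_mem (mul_mem (inv_mem hx) (inv_mem P'.tN)) hx)) _
      obtain ⟨k, hk, hk1⟩ := hne _ hK1
      have h1 := (mem_normalizer_iff.1 hsw k).1 hk
      have h2 := (h _).1 (show (x⁻¹ * P'.t⁻¹ * x)⁻¹ * ((x⁻¹ * P'.t⁻¹ * x) * k * (x⁻¹ * P'.t⁻¹ * x)⁻¹) *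
        (x⁻¹ * P'.t⁻¹ * x) ∈ P.K by simpa [mul_assoc] using hk)
      exact hk1 (conj_eq_one_iff.1 (P.disj _ h2 h1))
  by_cases hK : ∀ k ∈ P.K, P'.t * k = k * P'.t
  · obtain ⟨k, hk, hk1⟩ := hne _ hK1
    exact Or.inl ⟨k, hk1, P'.mem_K_of_fix hA (P.hK hk) (hK k hk), hk⟩
  by_cases hZ : ∀ k ∈ P.Z, P'.t * k = k * P'.t
  · obtain ⟨k, hk, hk1⟩ := P.exists_ne_one
    exact Or.inr ⟨k, hk1, P'.mem_K_of_fix hA (P.hZ hk) (hZ k hk), hk⟩
  exfalso
  push Not at hK hZ
  obtain ⟨k, hk, hk'⟩ := hK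
  obtain ⟨z, hz, hz'⟩ := hZ
  have hc1 : k⁻¹ * (P'.t * k * P'.t⁻¹) ≠ 1 := fun e => hk' (by
    rw [inv_mul_eq_one] at e; exact (mul_inv_eq_iff_eq_mul.1 e.symm))
  have hd1 : z⁻¹ * (P'.t * z * P'.t⁻¹) ≠ 1 := fun e => hz' (by
    rw [inv_mul_eq_one] at e; exact (mul_inv_eq_iff_eq_mul.1 e.symm))
  obtain ⟨j, hj⟩ := P'.trans _ (P'.comm_mem hA (P.hK hk)) hc1 _ (P'.comm_mem hA (P.hZ hz)) hd1
  have h1 : k⁻¹ * (P'.t * k * P'.t⁻¹) ∈ P.K := mul_mem (inv_mem hk) ((mem_normalizer_iff.1 htK k).1 hk)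
  have h2 : P'.t ^ j * (k⁻¹ * (P'.t * k * P'.t⁻¹)) * (P'.t ^ j)⁻¹ ∈ P.K :=
    (mem_normalizer_iff.1 (Subgroup.pow_mem _ htK j) _).1 h1
  rw [hj] at h2
  exact hd1 (P.disj _ (mul_mem (inv_mem hz) (htZ z hz)) h2)

end Piece

end Cfsg.Agent.ThreePrime
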