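import Cfsg.Agent.Lib.ThreePrime.Balance
import Cfsg.Agent.Lib.ThreePrime.Layer
import Cfsg.Agent.Lib.ThreePrime.Pieces
import Cfsg.Agent.Lib.Components.Local

/-!
# A strongly closed elementary abelian subgroup in a local subgroup of `G`

The layer structure of `Y / O(Y)` pulled back to `G`.
-/

set_option autoImplicit false
set_option linter.style.haveILetI false
set_option linter.unusedSectionVars false

namespace Cfsg.Agent.ThreePrime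

open Subgroup

universe u

variable {G : Type u} [Group G]

/-- The map to the quotient by the odd core. -/
abbrev bar (Y : Subgroup G) : ↥Y →* ↥Y ⧸ Cfsg.pPrimeCore 2 ↥Y := QuotientGroup.mk' (Cfsg.pPrimeCore 2 ↥Y)

/-- The preimage in `G` of the layer of `Y / O(Y)`. -/
def layerIn (Y : Subgroup G) : Subgroup G :=
  ((Cfsg.layer (↥Y ⧸ Cfsg.pPrimeCore 2 ↥Y)).comap (bar Y)).map Y.subtype

/-- The preimage in `G` of a subgroup of `Y / O(Y)`. -/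
def compIn (Y : Subgroup G) (L : Subgroup (↥Y ⧸ Cfsg.pPrimeCore 2 ↥Y)) : Subgroup G :=
  (L.comap (bar Y)).map Y.subtype

/-- The part of `B` centralising a subgroup of `Y / O(Y)`. -/
def kerIn (Y B : Subgroup G) (L : Subgroup (↥Y ⧸ Cfsg.pPrimeCore 2 ↥Y)) : Subgroup G :=
  compIn Y (centralizer (L : Set (↥Y ⧸ Cfsg.pPrimeCore 2 ↥Y))) ⊓ B

theorem mem_kerIn {Y B : Subgroup G} (hBY : B ≤ Y) {L : Subgroup (↥Y ⧸ Cfsg.pPrimeCore 2 ↥Y)} {b : G} :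
    b ∈ kerIn Y B L ↔ ∃ hb : b ∈ B, bar Y ⟨b, hBY hb⟩ ∈ centralizer (L : Set (↥Y ⧸ Cfsg.pPrimeCore 2 ↥Y)) := by
  constructor
  · rintro ⟨⟨y, hy, rfl⟩, hb⟩
    exact ⟨hb, hy⟩
  · rintro ⟨hb, h⟩
    exact ⟨⟨⟨b, hBY hb⟩, h, rfl⟩, hb⟩

theorem compIn_le (Y : Subgroup G) (L : Subgroup (↥Y ⧸ Cfsg.pPrimeCore 2 ↥Y)) : compIn Y L ≤ Y :=
  map_subtype_le _

theorem layerIn_le_of {Y M : Subgroup G} (hO : oddIn Y ≤ M)
    (h : ∀ L, Cfsg.IsComponent L → compIn Y L ≤ M) : layerIn Y ≤ M := by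
  have hlay : Cfsg.layer (↥Y ⧸ Cfsg.pPrimeCore 2 ↥Y) ≤ (M.subgroupOf Y).map (bar Y) := by
    refine Components.layer_le_iff.2 fun L hL x hx => ?_
    obtain ⟨y, rfl⟩ := QuotientGroup.mk'_surjective _ x
    exact ⟨y, h L hL ⟨y, hx, rfl⟩, rfl⟩
  rintro _ ⟨y, hy, rfl⟩
  obtain ⟨m, hm, hme⟩ := hlay hy
  have h2 : m⁻¹ * y ∈ Cfsg.pPrimeCore 2 ↥Y := by
    rw [← QuotientGroup.eq_one_iff]
    show bar Y (m⁻¹ * y) = 1
    rw [map_mul, map_inv, hme, inv_mul_cancel]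
  have h3 : ((m⁻¹ * y : ↥Y) : G) ∈ M := hO ⟨_, h2, rfl⟩
  have := mul_mem (show (m : G) ∈ M from hm) h3
  simpa using this

/-- `B` is an elementary abelian subgroup of `Y`, strongly closed in a Sylow `2`-subgroup of `Y`. -/
structure ScIn (Y B : Subgroup G) : Prop where
  le : B ≤ Y
  ea : Cfsg.IsElementaryAbelian 2 B
  sc : ∃ P : Sylow 2 ↥Y, Cfsg.IsStronglyClosed (B.subgroupOf Y) (P : Subgroup ↥Y)

variable [Finite G]

theorem ea_subgroupOf {Y B : Subgroup G} (h : Cfsg.IsElementaryAbelian 2 B) :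
    Cfsg.IsElementaryAbelian 2 (B.subgroupOf Y) :=
  ⟨⟨⟨fun a b => Subtype.ext (Subtype.ext (congrArg Subtype.val
    (h.1.is_comm.comm (⟨_, a.2⟩ : B) ⟨_, b.2⟩) :))⟩⟩, fun a ha => Subtype.ext (by simpa using h.2 _ ha)⟩

theorem Closed.scIn {A : Subgroup G} {S : Sylow 2 G} (hA : Closed A S) {Y : Subgroup G} (hAY : A ≤ Y) :
    ScIn Y A := by
  refine ⟨hAY, hA.ea, ?_⟩
  obtain ⟨P, hP⟩ := (hA.isPGroup.comap_of_injective Y.subtype Y.subtype_injective :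
    IsPGroup 2 (A.subgroupOf Y)).exists_le_sylow
  refine ⟨P, hP, fun x hx g hg => ?_⟩
  refine hA.mem_of_conj (P := (P : Subgroup ↥Y).map Y.subtype) (P.2.map _)
    (fun a ha => ⟨⟨a, hAY ha⟩, hP ha, rfl⟩) (a := (x : G)) hx (g := (g : G)) ⟨_, hg, rfl⟩

theorem Min3.framed {Y : Subgroup G} (hG : Min3 G) (hY : Y ≠ ⊤) : Framed (↥Y ⧸ Cfsg.pPrimeCore 2 ↥Y) :=
  haveI : Fact (Nat.Prime 2) := ⟨Nat.prime_two⟩
  ⟨Components.pPrimeCore_quotient _, fun _ hL => hG.frame hY hL⟩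

theorem Min3.framed_of_core {Y : Subgroup G} (hG : Min3 G) (hY : Y ≠ ⊤) (hO : Cfsg.pPrimeCore 2 ↥Y = ⊥) :
    Framed ↥Y := by
  refine ⟨hO, fun L hL => exists_frame hO hL ?_⟩
  haveI := hL.2.2
  have hd : Nat.card (↥L ⧸ center ↥L) ∣ Nat.card Y :=
    (center ↥L).card_quotient_dvd_card.trans (card_subgroup_dvd_card L)
  refine hG.ih _ ?_ (fun h => hG.h3 ((h.trans hd).trans (card_subgroup_dvd_card Y))) ?_
  · by_contra hne
    push Not at hne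
    haveI : Group.IsSolvable (↥L ⧸ center ↥L) := Group.isSolvable_of_comm hne
    haveI : Group.IsSolvable ↥(center ↥L) := Group.isSolvable_of_comm fun a b => Subtype.ext (mem_center_iff.1 b.2 a)
    exact Components.quasisimple_not_solvable hL.2
      ((Group.isSolvable_iff_subgroup_quotient (center ↥L)).2 ⟨‹_›, ‹_›⟩)
  · exact lt_of_le_of_lt (Nat.le_of_dvd Nat.card_pos hd)
      (lt_of_le_of_ne Y.card_le_card_group fun h => hY (eq_top_of_card_eq Y h))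

variable {Y B : Subgroup G} (hG : Min3 G) (hY : Y ≠ ⊤) (hB : ScIn Y B)

include hB

theorem ScIn.isPGroup : IsPGroup 2 B := fun b => ⟨1, Subtype.ext (by simpa using hB.ea.2 b b.2)⟩

theorem ScIn.bar_injective {b : G} (hb : b ∈ B) (h : bar Y ⟨b, hB.le hb⟩ = 1) : b = 1 := by
  haveI : Fact (Nat.Prime 2) := ⟨Nat.prime_two⟩
  have h1 := Cfsg.Agent.PBasic.coprime_orderOf_of_mem (Cfsg.Agent.PBasic.pPrimeCore_coprime 2 ↥Y)
    ((QuotientGroup.eq_one_iff _).1 h)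
  rw [← orderOf_coe] at h1
  exact orderOf_eq_one_iff.1 (Nat.eq_one_of_dvd_coprimes h1 dvd_rfl (orderOf_dvd_of_pow_eq_one (hB.ea.2 b hb)))

theorem ScIn.exists_closed : ∃ T : Sylow 2 (↥Y ⧸ Cfsg.pPrimeCore 2 ↥Y),
    Cfsg.IsElementaryAbelian 2 ((B.subgroupOf Y).map (bar Y)) ∧
      Cfsg.IsStronglyClosed ((B.subgroupOf Y).map (bar Y)) (T : Subgroup (↥Y ⧸ Cfsg.pPrimeCore 2 ↥Y)) := by
  haveI : Fact (Nat.Prime 2) := ⟨Nat.prime_two⟩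
  obtain ⟨P, hP⟩ := hB.sc
  have hBe := ea_subgroupOf (Y := Y) hB.ea
  refine ⟨P.mapSurjective (QuotientGroup.mk'_surjective _), ⟨?_, ?_⟩, map_mono hP.1, ?_⟩
  · haveI := hBe.1
    exact inferInstance
  · rintro _ ⟨b, hb, rfl⟩
    rw [← map_pow, hBe.2 b hb, map_one]
  · rintro _ ⟨b, hb, rfl⟩ g hg
    obtain ⟨y, rfl⟩ := QuotientGroup.mk'_surjective _ g
    obtain ⟨p, hp, hpe⟩ := hg
    set O := Cfsg.pPrimeCore 2 ↥Y
    have hmem : y * b * y⁻¹ ∈ O ⊔ (P : Subgroup ↥Y) := by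
      have h1 : y * b * y⁻¹ * p⁻¹ ∈ O := by
        rw [← QuotientGroup.eq_one_iff]
        show bar Y (y * b * y⁻¹ * p⁻¹) = 1
        rw [map_mul, map_mul, map_mul, map_inv, map_inv, hpe, mul_inv_cancel]
      have := mul_mem (mem_sup_left (T := (P : Subgroup ↥Y)) h1) (mem_sup_right (S := O) hp)
      rwa [inv_mul_cancel_right] at this
    have hz : IsPGroup 2 (zpowers (y * b * y⁻¹)) := by
      rintro ⟨_, i, rfl⟩
      refine ⟨1, Subtype.ext ?_⟩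
      show ((y * b * y⁻¹) ^ i) ^ 2 ^ 1 = 1
      rw [pow_one, ← zpow_natCast, zpow_comm, zpow_natCast, conj_pow, hBe.2 b hb, mul_one, mul_inv_cancel, one_zpow]
    obtain ⟨o, ho, hole⟩ := LESylow.exists_conj_le_of_le (zpowers_le.2 hmem) hz
      (P.subtype (le_sup_right : (P : Subgroup ↥Y) ≤ O ⊔ (P : Subgroup ↥Y)))
    rw [Sylow.coe_subtype, map_subgroupOf_eq_of_le le_sup_right] at hole
    -- move the conjugating element into the core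
    have ho' : o ∈ (((P : Subgroup ↥Y) ⊔ O : Subgroup ↥Y) : Set ↥Y) := by rw [sup_comm]; exact ho
    rw [Subgroup.mul_normal] at ho'
    obtain ⟨p₀, hp₀, o₀, ho₀, rfl⟩ := ho'
    have hin : o₀ * (y * b * y⁻¹) * o₀⁻¹ ∈ (P : Subgroup ↥Y) := by
      have h1 : p₀ * o₀ * (y * b * y⁻¹) * (p₀ * o₀)⁻¹ ∈ (P : Subgroup ↥Y) := hole ⟨_, mem_zpowers _, rfl⟩
      convert mul_mem (mul_mem (inv_mem hp₀) h1) hp₀ using 1
      group
    have h2 : o₀ * y * b * (o₀ * y)⁻¹ ∈ B.subgroupOf Y :=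
      hP.2 b hb (o₀ * y) (by convert hin using 1; group)
    refine ⟨_, h2, ?_⟩
    have e : bar Y o₀ = 1 := (QuotientGroup.eq_one_iff _).2 ho₀
    rw [map_mul, map_mul, map_mul, map_inv, map_mul, e]
    group

include hG hY

/-- `Y = layerIn Y · N_Y(B)`. -/
theorem ScIn.exists_mul {y : G} (hy : y ∈ Y) :
    ∃ e ∈ layerIn Y, ∃ n ∈ Y ⊓ normalizer (B : Set G), y = e * n := by
  haveI : Fact (Nat.Prime 2) := ⟨Nat.prime_two⟩
  obtain ⟨T, hBe, hsc⟩ := hB.exists_closed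
  obtain ⟨e, he, n, hn, hen⟩ := exists_layer_mul (hG.framed hY) hBe hsc (bar Y ⟨y, hy⟩)
  rw [← Components.map_normalizer_eq (P := B.subgroupOf Y) (Cfsg.Agent.PBasic.pPrimeCore_coprime 2 ↥Y)
    (hB.isPGroup.comap_of_injective Y.subtype Y.subtype_injective)] at hn
  obtain ⟨n₀, hn₀, rfl⟩ := hn
  refine ⟨y * (n₀ : G)⁻¹, ?_, n₀, ⟨n₀.2, ?_⟩, (inv_mul_cancel_right y _).symm⟩
  · refine ⟨⟨y, hy⟩ * n₀⁻¹, ?_, rfl⟩
    show bar Y (⟨y, hy⟩ * n₀⁻¹) ∈ Cfsg.layer (↥Y ⧸ Cfsg.pPrimeCore 2 ↥Y)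
    rw [map_mul, map_inv, hen, mul_inv_cancel_right]
    exact he
  · refine mem_normalizer_fintype fun b hb => ?_
    exact ((mem_normalizer_iff.1 hn₀ ⟨b, hB.le hb⟩).1 hb :)

/-- A component is centralised by `B`, or gives a piece. -/
theorem ScIn.kerIn_or_piece {L : Subgroup (↥Y ⧸ Cfsg.pPrimeCore 2 ↥Y)} (hL : Cfsg.IsComponent L) :
    kerIn Y B L = B ∨ ∃ P : Piece B, P.K = kerIn Y B L ∧ P.Z ≤ compIn Y L ∧ P.t ∈ Y := by
  haveI : Fact (Nat.Prime 2) := ⟨Nat.prime_two⟩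
  obtain ⟨T, hBe, hsc⟩ := hB.exists_closed
  set Bb := (B.subgroupOf Y).map (bar Y) with hBb
  have hmemBb : ∀ {b : G} (hb : b ∈ B), bar Y ⟨b, hB.le hb⟩ ∈ Bb := fun {b} hb => ⟨⟨b, hB.le hb⟩, hb, rfl⟩
  by_cases hmove : Bb ≤ centralizer (L : Set (↥Y ⧸ Cfsg.pPrimeCore 2 ↥Y))
  · left
    refine le_antisymm inf_le_right fun b hb => ?_
    exact (mem_kerIn hB.le).2 ⟨hb, hmove (hmemBb hb)⟩
  right
  obtain ⟨Φ₀⟩ := (hG.framed hY).frame L hL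
  obtain ⟨Φ, hΦ⟩ := exists_aligned (T := T) hL.1 Φ₀
  obtain ⟨t, Z, k₀, htL, -, -, -, htodd, htN, hZB, hZL, hZcard, htZ, hfix, hdisj, hsplit, htrans⟩ :=
    exists_torus (hG.framed hY) hBe hsc hL hΦ hmove
  -- lift the torus element
  rw [hBb, ← Components.map_normalizer_eq (P := B.subgroupOf Y) (Cfsg.Agent.PBasic.pPrimeCore_coprime 2 ↥Y)
    (hB.isPGroup.comap_of_injective Y.subtype Y.subtype_injective)] at htN
  obtain ⟨x, hxN, rfl⟩ := htN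
  obtain ⟨s, r, hr, hxs⟩ := Nat.exists_eq_pow_mul_and_not_dvd (orderOf_pos x).ne' 2 (by norm_num)
  set x₁ := x ^ 2 ^ s with hx₁
  have hx₁odd : Odd (orderOf x₁) := by
    rw [hx₁, orderOf_pow, hxs, Nat.gcd_eq_right (dvd_mul_right _ _), Nat.mul_div_cancel_left _ (by positivity)]
    exact Nat.not_even_iff_odd.1 fun h => hr (even_iff_two_dvd.1 h)
  have hx₁N : x₁ ∈ normalizer ((B.subgroupOf Y : Subgroup ↥Y) : Set ↥Y) := Subgroup.pow_mem _ hxN _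
  have hx₁B : (x₁ : G) ∈ normalizer (B : Set G) := mem_normalizer_fintype fun b hb =>
    ((mem_normalizer_iff.1 hx₁N ⟨b, hB.le hb⟩).1 hb :)
  obtain ⟨e, he⟩ := exists_pow_eq_self_of_coprime (x := bar Y x) (n := 2 ^ s)
    (Nat.Coprime.pow_left _ (Nat.coprime_two_left.2 htodd))
  have hbx : bar Y x₁ ^ e = bar Y x := by rw [hx₁, map_pow]; exact he
  -- the preimage of `Z`
  let Z₁ : Subgroup G := (Z.comap (bar Y)).map Y.subtype ⊓ B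
  have hZ₁ : ∀ {b : G}, b ∈ Z₁ → ∃ hb : b ∈ B, bar Y ⟨b, hB.le hb⟩ ∈ Z := by
    rintro b ⟨⟨y, hy, rfl⟩, hb⟩
    exact ⟨hb, hy⟩
  have hZ₁mk : ∀ {b : G} (hb : b ∈ B), bar Y ⟨b, hB.le hb⟩ ∈ Z → b ∈ Z₁ := fun {b} hb h =>
    ⟨⟨⟨b, hB.le hb⟩, h, rfl⟩, hb⟩
  have hinj : ∀ {b c : G} (hb : b ∈ B) (hc : c ∈ B), bar Y ⟨b, hB.le hb⟩ = bar Y ⟨c, hB.le hc⟩ → b = c := by
    intro b c hb hc h
    refine mul_inv_eq_one.1 (hB.bar_injective (mul_mem hb (inv_mem hc)) ?_)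
    rw [show (⟨b * c⁻¹, hB.le (mul_mem hb (inv_mem hc))⟩ : ↥Y) = ⟨b, hB.le hb⟩ * (⟨c, hB.le hc⟩ : ↥Y)⁻¹ from rfl,
      map_mul, map_inv, h, mul_inv_cancel]
  have hxB : ∀ {b : G}, b ∈ B → (x₁ : G) * b * (x₁ : G)⁻¹ ∈ B := fun {b} hb => (mem_normalizer_iff.1 hx₁B b).1 hb
  have hbarconj : ∀ {b : G} (hb : b ∈ B) (i : ℕ), ∃ h : (x₁ : G) ^ i * b * ((x₁ : G) ^ i)⁻¹ ∈ B,
      bar Y ⟨_, hB.le h⟩ = bar Y x₁ ^ i * bar Y ⟨b, hB.le hb⟩ * (bar Y x₁ ^ i)⁻¹ := fun {b} hb i => by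
    refine ⟨(mem_normalizer_iff.1 (Subgroup.pow_mem _ hx₁B i) b).1 hb, ?_⟩
    rw [← map_pow, ← map_inv, ← map_mul, ← map_mul]
    rfl
  refine ⟨⟨kerIn Y B L, Z₁, (x₁ : G), 2 * Φ.m + 1, odd_two_mul_add_one _, by have := Φ.hS.one_le; omega, inf_le_right,
    inf_le_right, ?_, by rwa [orderOf_coe], hx₁B, ?_, ?_, ?_, ?_, ?_⟩, rfl, fun b hb => ?_, x₁.2⟩
  · rw [← hZcard]
    refine Nat.card_eq_of_bijective (fun b => (⟨_, (hZ₁ b.2).2⟩ : Z)) ⟨fun b c h => ?_, fun z => ?_⟩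
    · exact Subtype.ext (hinj (hZ₁ b.2).1 (hZ₁ c.2).1 (congrArg Subtype.val h))
    · obtain ⟨b, hb, hbz⟩ := hZB z.2
      have hbz' : bar Y ⟨b, hB.le hb⟩ = z := hbz
      exact ⟨⟨b, hZ₁mk hb (hbz' ▸ z.2)⟩, Subtype.ext hbz'⟩
  · intro k hk
    obtain ⟨hkB, hkc⟩ := (mem_kerIn hB.le).1 hk
    obtain ⟨h1, h2⟩ := hbarconj hkB 1
    have hcx : Commute (bar Y x) (bar Y ⟨k, hB.le hkB⟩) := hfix _ (hmemBb hkB) hkc
    have hc1 : Commute (bar Y x₁) (bar Y ⟨k, hB.le hkB⟩) := by rw [hx₁, map_pow]; exact hcx.pow_left _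
    have := hinj h1 hkB (by rw [h2, pow_one, hc1.eq, mul_inv_cancel_right])
    rw [pow_one] at this
    exact mul_inv_eq_iff_eq_mul.1 this
  · intro z hz
    obtain ⟨hzB, hzZ⟩ := hZ₁ hz
    obtain ⟨h1, h2⟩ := hbarconj hzB 1
    refine hZ₁mk (hxB hzB) ?_
    have h3 : bar Y x₁ * bar Y ⟨z, hB.le hzB⟩ * (bar Y x₁)⁻¹ ∈ Z := by
      rw [hx₁, map_pow]
      exact (mem_normalizer_iff.1 (Subgroup.pow_mem _ htZ _) _).1 hzZ
    rw [← pow_one (bar Y x₁), ← h2] at h3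
    simpa using h3
  · intro z hz hzk
    obtain ⟨hzB, hzZ⟩ := hZ₁ hz
    exact hB.bar_injective hzB (hdisj _ hzZ ((mem_kerIn hB.le).1 hzk).2)
  · intro b hb
    obtain ⟨k, hkBb, hkc, z, hz, hbe⟩ := hsplit _ (hmemBb hb)
    obtain ⟨k', hk', hkk'⟩ := hkBb
    subst hkk'
    refine ⟨k', (mem_kerIn hB.le).2 ⟨hk', hkc⟩, (k' : G)⁻¹ * b,
      hZ₁mk (mul_mem (inv_mem hk') hb) ?_, (mul_inv_cancel_left _ _).symm⟩
    rw [show (⟨(k' : G)⁻¹ * b, hB.le (mul_mem (inv_mem hk') hb)⟩ : ↥Y) = k'⁻¹ * ⟨b, hB.le hb⟩ from rfl,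
      map_mul, map_inv, hbe, inv_mul_cancel_left]
    exact hz
  · intro c hc hc1 d hd hd1
    obtain ⟨hcB, hcZ⟩ := hZ₁ hc
    obtain ⟨hdB, hdZ⟩ := hZ₁ hd
    obtain ⟨i, hi⟩ := htrans _ hcZ (fun e => hc1 (hB.bar_injective hcB e)) _ hdZ
      (fun e => hd1 (hB.bar_injective hdB e))
    obtain ⟨h1, h2⟩ := hbarconj hcB (e * i)
    refine ⟨e * i, hinj h1 hdB ?_⟩
    rw [h2, pow_mul, hbx, hi]
  · obtain ⟨hbB, hbZ⟩ := hZ₁ hb
    exact ⟨⟨b, hB.le hbB⟩, hZL hbZ, rfl⟩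

omit hG hY

/-- The lift of a component centralised by `K ≤ B` lies in `O(Y) C(K)`. -/
theorem ScIn.compIn_le_mul {L : Subgroup (↥Y ⧸ Cfsg.pPrimeCore 2 ↥Y)} {K : Subgroup G} (hK : K ≤ kerIn Y B L)
    {x : G} (hx : x ∈ compIn Y L) : ∃ o ∈ oddIn Y, ∃ c ∈ centralizer (K : Set G), x = o * c := by
  haveI : Fact (Nat.Prime 2) := ⟨Nat.prime_two⟩
  obtain ⟨y, hy, rfl⟩ := hx
  have hKB : K ≤ B := hK.trans inf_le_right
  have hKY : K ≤ Y := hKB.trans hB.le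
  have hn : bar Y y ∈ normalizer (((K.subgroupOf Y).map (bar Y) : Subgroup _) : Set (↥Y ⧸ Cfsg.pPrimeCore 2 ↥Y)) := by
    refine Subgroup.centralizer_le_normalizer _ (mem_centralizer_iff.2 ?_)
    rintro _ ⟨k, hk, rfl⟩
    exact (mem_centralizer_iff.1 ((mem_kerIn hB.le).1 (hK hk)).2 _ hy).symm
  rw [← Components.map_normalizer_eq (P := K.subgroupOf Y) (Cfsg.Agent.PBasic.pPrimeCore_coprime 2 ↥Y)
    ((hB.isPGroup.to_le hKB).comap_of_injective Y.subtype Y.subtype_injective)] at hn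
  obtain ⟨n, hnN, hne⟩ := hn
  refine ⟨(y : G) * (n : G)⁻¹, ⟨y * n⁻¹, ?_, rfl⟩, n, mem_centralizer_iff.2 fun k hk => ?_,
    (inv_mul_cancel_right _ _).symm⟩
  · rw [SetLike.mem_coe, ← QuotientGroup.eq_one_iff]
    show bar Y (y * n⁻¹) = 1
    rw [map_mul, map_inv, hne, mul_inv_cancel]
  · have hk' : n * ⟨k, hKY hk⟩ * n⁻¹ ∈ K.subgroupOf Y := (mem_normalizer_iff.1 hnN _).1 hk
    have hkb : (n : G) * k * (n : G)⁻¹ * k⁻¹ ∈ B := mul_mem (hKB hk') (inv_mem (hKB hk))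
    have he : bar Y ⟨_, hB.le hkb⟩ = 1 := by
      have hc := mem_centralizer_iff.1 ((mem_kerIn hB.le).1 (hK hk)).2 _ hy
      rw [show (⟨_, hB.le hkb⟩ : ↥Y) = n * ⟨k, hKY hk⟩ * n⁻¹ * (⟨k, hKY hk⟩ : ↥Y)⁻¹ from rfl, map_mul, map_mul,
        map_mul, map_inv, map_inv, hne, hc]
      group
    exact (mul_inv_eq_iff_eq_mul.1 (mul_inv_eq_one.1 (hB.bar_injective hkb he))).symm

end Cfsg.Agent.ThreePrime
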