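import Cfsg.Agent.Lib.ThreePrime.Theta

/-!
# Trivial cores: the components moved by `A`

With all `O(C(a))` trivial, a component `L` of some `C(a)` moved by `A` is a component of `C(b)` for every `b` of its
kernel `A ⊓ C(L)`.
-/

set_option autoImplicit false
set_option linter.style.haveILetI false
set_option linter.unusedSectionVars false

namespace Cfsg.Agent.ThreePrime

open Subgroup
open scoped commutatorElement

universe u

variable {G : Type u} [Group G]

theorem comp_le {L Y : Subgroup G} (h : Cfsg.IsComponentOf L Y) : L ≤ Y := h.1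

theorem comp_in {L Y D : Subgroup G} (h : Cfsg.IsComponentOf L Y) (hLD : L ≤ D) (hDY : D ≤ Y) :
    Cfsg.IsComponentOf L D := by
  refine ⟨hLD, ?_⟩
  have h1 := Components.component_map_equiv (subgroupOfEquivOfLe hDY)
    (Components.component_subgroupOf h.2 (show L.subgroupOf Y ≤ D.subgroupOf Y from fun x hx => hLD hx))
  convert h1 using 1
  ext x
  constructor
  · exact fun hx => ⟨⟨⟨x, hDY x.2⟩, x.2⟩, hx, Subtype.ext rfl⟩
  · rintro ⟨⟨⟨y, hyY⟩, hyD⟩, hy, rfl⟩
    exact hy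

theorem comp_quasisimple {L Y : Subgroup G} (h : Cfsg.IsComponentOf L Y) : Cfsg.IsQuasisimple ↥L :=
  (Components.quasisimple_congr (subgroupOfEquivOfLe h.1)).1 h.2.2

theorem quasi_cases {L N : Subgroup G} (hL : Cfsg.IsQuasisimple ↥L) (hNL : N ≤ L)
    (hN : L ≤ normalizer (N : Set G)) : N = L ∨ N ≤ centralizer (L : Set G) := by
  haveI : (N.subgroupOf L).Normal := (normal_subgroupOf_iff_le_normalizer hNL).2 hN
  rcases Components.quasisimple_normal hL (N.subgroupOf L) with h | h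
  · exact Or.inl (le_antisymm hNL (subgroupOf_eq_top.1 h))
  · exact Or.inr fun x hx =>
      (Components.center_comm (hNL hx)).1 (h (show (⟨x, hNL hx⟩ : L) ∈ N.subgroupOf L from hx))

theorem quasi_not_comm {L : Subgroup G} (hL : Cfsg.IsQuasisimple ↥L) : ¬ L ≤ centralizer (L : Set G) := fun h =>
  Components.quasisimple_not_commutative hL ⟨⟨fun a b => Subtype.ext (mem_centralizer_iff.1 (h b.2) a a.2)⟩⟩

/-- A perfect subgroup of a solvable subgroup is trivial. -/
theorem eq_bot_of_perfect_le {L P : Subgroup G} (hL : ⁅L, L⁆ = L) (hP : Group.IsSolvable ↥P) (hle : L ≤ P) :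
    L = ⊥ := by
  by_contra hne
  haveI := hP
  haveI : Group.IsSolvable ↥L := Group.isSolvable_of_isSolvable_injective (f := inclusion hle)
    (inclusion_injective hle)
  haveI : Nontrivial ↥L := (nontrivial_iff_ne_bot L).2 hne
  have h1 := Group.IsSolvable.commutator_lt_top_of_nontrivial (G := ↥L)
  have h2 : Group.IsPerfect ↥L := Subgroup.isPerfect_iff.2 hL
  exact h1.ne h2.commutator_eq_top

theorem commute_of_comp [Finite G] {L L' Y : Subgroup G} (h : Cfsg.IsComponentOf L Y)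
    (h' : Cfsg.IsComponentOf L' Y) (hne : L ≠ L') : L' ≤ centralizer (L : Set G) := by
  intro x hx
  have hne' : L.subgroupOf Y ≠ L'.subgroupOf Y := fun e => hne (by
    rw [← map_subgroupOf_eq_of_le h.1, ← map_subgroupOf_eq_of_le h'.1, e])
  have hc := commutator_eq_bot_iff_le_centralizer.1 (Components.components_commute h'.2 h.2 hne'.symm)
  refine mem_centralizer_iff.2 fun y hy => ?_
  exact congrArg Subtype.val (mem_centralizer_iff.1 (hc (show (⟨x, h'.1 hx⟩ : Y) ∈ L'.subgroupOf Y from hx))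
    ⟨y, h.1 hy⟩ hy)

theorem comp_conj [Finite G] {L Y : Subgroup G} (h : Cfsg.IsComponentOf L Y) (g : G) :
    Cfsg.IsComponentOf (L.map (MulAut.conj g).toMonoidHom) (Y.map (MulAut.conj g).toMonoidHom) := by
  refine ⟨map_mono h.1, ?_⟩
  have h1 := Components.component_map_equiv (Y.equivMapOfInjective (MulAut.conj g).toMonoidHom
    (MulAut.conj g).injective) h.2
  convert h1 using 1
  ext ⟨x, hx⟩
  constructor
  · rintro ⟨y, hy, hyx⟩
    exact ⟨⟨y, h.1 hy⟩, hy, Subtype.ext hyx⟩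
  · rintro ⟨⟨y, hy⟩, hyL, hyx⟩
    exact ⟨y, hyL, congrArg Subtype.val hyx⟩

/-- A component of some `C(a)` moved by `A`. -/
def IsMoved (A L : Subgroup G) : Prop :=
  (∃ a ∈ A, a ≠ 1 ∧ Cfsg.IsComponentOf L (centralizer ({a} : Set G))) ∧ ¬ A ≤ centralizer (L : Set G)

variable [Finite G] {A : Subgroup G} {S : Sylow 2 G}

/-- With trivial core: frame, torus and piece of a moved component. -/
theorem comp_data (hG : Min3 G) (hA : Closed A S) {b : G} (hb : b ∈ A) (hb1 : b ≠ 1)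
    (hO : Cfsg.pPrimeCore 2 ↥(centralizer ({b} : Set G)) = ⊥) {L : Subgroup G}
    (hL : Cfsg.IsComponentOf L (centralizer ({b} : Set G))) (hmove : ¬ A ≤ centralizer (L : Set G)) :
    ∃ (T : Sylow 2 ↥(centralizer ({b} : Set G))) (Φ : Frame (L.subgroupOf (centralizer ({b} : Set G)))) (P : Piece A)
      (k₀ : Φ.Fˣ) (htY : P.t ∈ centralizer ({b} : Set G)) (htL : P.t ∈ L),
      Cfsg.IsStronglyClosed (A.subgroupOf (centralizer ({b} : Set G))) (T : Subgroup ↥(centralizer ({b} : Set G))) ∧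
      Φ.Aligned (T : Subgroup ↥(centralizer ({b} : Set G))) ∧ P.K = A ⊓ centralizer (L : Set G) ∧ P.Z ≤ L ∧
      Φ.π ⟨⟨P.t, htY⟩, htL⟩ = Suzuki.H Φ.hS k₀ ∧ (∀ x : Φ.Fˣ, ∃ i : ℕ, k₀ ^ i = x) ∧
      orderOf k₀ = 2 ^ (2 * Φ.m + 1) - 1 ∧ P.n = 2 * Φ.m + 1 := by
  set Y := centralizer ({b} : Set G) with hY
  have hB := hA.scIn (hA.le_centralizer hb)
  have hH := hG.framed_of_core (hG.centralizer_ne_top hb1) hO
  obtain ⟨T, hsc⟩ := hB.sc
  obtain ⟨Φ₀⟩ := hH.frame _ hL.2
  obtain ⟨Φ, hΦ⟩ := exists_aligned (T := T) hL.2.1 Φ₀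
  have hBe := ea_subgroupOf (Y := Y) hA.ea
  have hmove' : ¬ A.subgroupOf Y ≤ centralizer (L.subgroupOf Y : Set ↥Y) := fun h => hmove fun a ha =>
    mem_centralizer_iff.2 fun l hl => congrArg Subtype.val
      (mem_centralizer_iff.1 (h (show (⟨a, hB.le ha⟩ : Y) ∈ A.subgroupOf Y from ha)) ⟨l, hL.1 hl⟩ hl)
  obtain ⟨t, Z, k₀, htL, htπ, hgen, hord, htodd, htN, hZB, hZL, hZcard, htZ, hfix, hdisj, hsplit, htrans⟩ :=
    exists_torus hH hBe hsc hL.2 hΦ hmove'
  have hKmem : ∀ {k : G} (hk : k ∈ A), k ∈ centralizer (L : Set G) ↔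
      (⟨k, hB.le hk⟩ : Y) ∈ centralizer (L.subgroupOf Y : Set ↥Y) := fun {k} hk =>
    ⟨fun h => mem_centralizer_iff.2 fun l hl => Subtype.ext (mem_centralizer_iff.1 h _ hl),
      fun h => mem_centralizer_iff.2 fun l hl => congrArg Subtype.val (mem_centralizer_iff.1 h ⟨l, hL.1 hl⟩ hl)⟩
  have htA : (t : G) ∈ normalizer (A : Set G) := mem_normalizer_fintype fun a ha =>
    ((mem_normalizer_iff.1 htN ⟨a, hB.le ha⟩).1 ha :)
  refine ⟨T, Φ, ⟨A ⊓ centralizer (L : Set G), Z.map Y.subtype, (t : G), 2 * Φ.m + 1, odd_two_mul_add_one _,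
    by have := Φ.hS.one_le; omega, inf_le_left, ?_, ?_, by rwa [orderOf_coe], htA, ?_, ?_, ?_, ?_, ?_⟩, k₀, t.2, htL,
    hsc, hΦ, rfl, ?_, htπ, hgen, hord, rfl⟩
  · rintro _ ⟨z, hz, rfl⟩; exact hZB hz
  · rw [card_map_of_injective Y.subtype_injective, hZcard]
  · rintro k ⟨hk, hkc⟩
    exact congrArg Subtype.val (hfix ⟨k, hB.le hk⟩ hk ((hKmem hk).1 hkc))
  · rintro _ ⟨z, hz, rfl⟩
    exact ⟨t * z * t⁻¹, (mem_normalizer_iff.1 htZ z).1 hz, rfl⟩
  · rintro _ ⟨z, hz, rfl⟩ ⟨hzA, hzc⟩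
    rw [hdisj z hz ((hKmem hzA).1 hzc)]
    rfl
  · intro a ha
    obtain ⟨k, hk, hkc, z, hz, he⟩ := hsplit ⟨a, hB.le ha⟩ ha
    exact ⟨k, ⟨hk, (hKmem hk).2 hkc⟩, z, ⟨z, hz, rfl⟩, congrArg Subtype.val he⟩
  · rintro _ ⟨c, hc, rfl⟩ hc1 _ ⟨d, hd, rfl⟩ hd1
    obtain ⟨i, hi⟩ := htrans c hc (fun e => hc1 (by rw [e]; rfl)) d hd (fun e => hd1 (by rw [e]; rfl))
    exact ⟨i, congrArg Subtype.val hi⟩
  · rintro _ ⟨z, hz, rfl⟩; exact hZL hz

variable (hG : Min3 G) (hA : Closed A S)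
  (h1 : ∀ a ∈ A, a ≠ 1 → Cfsg.pPrimeCore 2 ↥(centralizer ({a} : Set G)) = ⊥)

include hG hA h1

theorem IsMoved.piece {L : Subgroup G} (hL : IsMoved A L) :
    ∃ P : Piece A, P.K = A ⊓ centralizer (L : Set G) ∧ P.Z ≤ L ∧ P.t ∈ L := by
  obtain ⟨⟨a, ha, ha1, hc⟩, hm⟩ := hL
  obtain ⟨T, Φ, P, k₀, -, htL, -, -, hK, hZ, -⟩ := comp_data hG hA ha ha1 (h1 a ha ha1) hc hm
  exact ⟨P, hK, hZ, htL⟩

theorem IsMoved.le_normalizer {L : Subgroup G} (hL : IsMoved A L) : A ≤ normalizer (L : Set G) := by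
  obtain ⟨⟨a, ha, ha1, hc⟩, -⟩ := hL
  obtain ⟨T, hsc⟩ := (hA.scIn (hA.le_centralizer ha)).sc
  have h := le_normalizer_component (hG.framed_of_core (hG.centralizer_ne_top ha1) (h1 a ha ha1))
    (ea_subgroupOf hA.ea) hsc hc.2
  intro x hx
  refine mem_normalizer_fintype fun l hl => ?_
  exact ((mem_normalizer_iff.1 (h (show (⟨x, hA.le_centralizer ha hx⟩ : ↥(centralizer ({a} : Set G))) ∈
    A.subgroupOf _ from hx)) ⟨l, hc.1 hl⟩).1 hl :)

/-- A moved component is a component of the centraliser of every nontrivial element of its kernel. -/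
theorem IsMoved.comp_of_kernel {L : Subgroup G} (hL : IsMoved A L) {b : G} (hb : b ∈ A) (hb1 : b ≠ 1)
    (hbL : b ∈ centralizer (L : Set G)) : Cfsg.IsComponentOf L (centralizer ({b} : Set G)) := by
  haveI : Fact (Nat.Prime 2) := ⟨Nat.prime_two⟩
  have hAN := hL.le_normalizer hG hA h1
  obtain ⟨⟨a, ha, ha1, hc⟩, hm⟩ := hL
  have hq := comp_quasisimple hc
  have hLb : L ≤ centralizer ({b} : Set G) := fun l hl =>
    mem_centralizer_singleton_iff.2 (mem_centralizer_iff.1 hbL l hl)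
  set Y := centralizer ({b} : Set G) with hY
  have hB := hA.scIn (hA.le_centralizer hb)
  have hH := hG.framed_of_core (hG.centralizer_ne_top hb1) (h1 b hb hb1)
  obtain ⟨T, hsc⟩ := hB.sc
  have hBe := ea_subgroupOf (Y := Y) hA.ea
  set L' := L.subgroupOf Y with hL'
  have hqL : Cfsg.IsQuasisimple ↥L' := (Components.quasisimple_congr (subgroupOfEquivOfLe hLb)).2 hq
  have hLL : ⁅L', L'⁆ = L' := Components.quasisimple_commutator_eq hqL
  haveI := Components.layer_normal (G := ↥Y)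
  -- `L ≤ E(C(b))`
  have hLE : L' ≤ Cfsg.layer ↥Y := by
    have hN1 : ⁅L', A.subgroupOf Y⁆ ≤ Cfsg.layer ↥Y ⊔ A.subgroupOf Y := by
      rw [commutator_le]
      intro l _ x hx
      obtain ⟨e, he, n, hn, rfl⟩ := exists_layer_mul hH hBe hsc l
      have hx' : n * x * n⁻¹ ∈ A.subgroupOf Y := (mem_normalizer_iff.1 hn x).1 hx
      have h2 : ⁅e * n, x⁆ = (e * ((n * x * n⁻¹) * e⁻¹ * (n * x * n⁻¹)⁻¹)) * ((n * x * n⁻¹) * x⁻¹) := by
        rw [commutatorElement_def]; group
      rw [h2]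
      exact mul_mem (mem_sup_left (mul_mem he ((inferInstance : (Cfsg.layer ↥Y).Normal).conj_mem _ (inv_mem he) _)))
        (mem_sup_right (mul_mem hx' (inv_mem hx)))
    have hAnL : A.subgroupOf Y ≤ normalizer (L' : Set ↥Y) := fun x hx => mem_normalizer_fintype fun l hl =>
      ((mem_normalizer_iff.1 (hAN hx) (l : G)).1 hl :)
    have heq : ⁅L', A.subgroupOf Y⁆ = L' := by
      rcases quasi_cases hqL (Components.commutator_le_of_le_normalizer hAnL)
        (Components.normalizes_left L' (A.subgroupOf Y)) with h | h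
      · exact h
      · exfalso
        refine hm fun x hx => mem_centralizer_iff.2 fun l hl => ?_
        have h3 := Components.commute_of_commutator_central hLL h
        rw [commutator_comm, commutator_eq_bot_iff_le_centralizer] at h3
        exact congrArg Subtype.val (mem_centralizer_iff.1
          (h3 (show (⟨x, hB.le hx⟩ : Y) ∈ A.subgroupOf Y from hx)) ⟨l, hLb hl⟩ hl)
    rw [heq] at hN1
    let q := QuotientGroup.mk' (Cfsg.layer ↥Y)
    have hmap : L'.map q ≤ (A.subgroupOf Y).map q := by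
      refine (map_mono hN1).trans ?_
      rw [Subgroup.map_sup, show (Cfsg.layer ↥Y).map q = ⊥ from
        (Subgroup.map_eq_bot_iff _).2 (QuotientGroup.ker_mk' _).ge, bot_sup_eq]
    have hsol : Group.IsSolvable ↥((A.subgroupOf Y).map q) := by
      haveI := hBe.1
      exact Group.isSolvable_of_comm fun x y => mul_comm' x y
    have hperf : ⁅L'.map q, L'.map q⁆ = L'.map q := by rw [← map_commutator, hLL]
    have h4 := eq_bot_of_perfect_le hperf hsol hmap
    rwa [Subgroup.map_eq_bot_iff, QuotientGroup.ker_mk'] at h4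
  -- moved components of `C(b)` not fixed by `a` commute with `L`
  have hcomm : ∀ R : Subgroup ↥Y, Cfsg.IsComponent R → (⟨a, hB.le ha⟩ : Y) ∉ centralizer (R : Set ↥Y) →
      L' ≤ centralizer (R : Set ↥Y) := by
    intro R hR haR
    obtain ⟨Φ₀⟩ := hH.frame R hR
    obtain ⟨Φ, hΦ⟩ := exists_aligned (T := T) hR.1 Φ₀
    have han := le_normalizer_component hH hBe hsc hR (show (⟨a, hB.le ha⟩ : Y) ∈ A.subgroupOf Y from ha)
    obtain ⟨z, hz, hza⟩ := exists_act_zGroup hH hBe hsc hR hΦ (show (⟨a, hB.le ha⟩ : Y) ∈ A.subgroupOf Y from ha)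
    have hz1 : z ≠ 1 := fun e => haR (Φ.mem_centralizer_of_act han (by rw [hza, e, map_one]))
    have hEn : Cfsg.layer ↥Y ≤ normalizer (R : Set ↥Y) := Components.layer_le_normalizer_component hR
    have hinner : Cfsg.layer ↥Y ≤
        (((MulAut.conj : Cfsg.Sz Φ.F Φ.m →* MulAut (Cfsg.Sz Φ.F Φ.m)).range).comap Φ.act).map
          (normalizer (R : Set ↥Y)).subtype := by
      refine Components.layer_le_iff.2 fun K hK x hx => ?_
      refine ⟨⟨x, hEn (Components.component_le_layer hK hx)⟩, ?_, rfl⟩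
      by_cases hKR : K = R
      · subst hKR
        exact ⟨_, (Φ.act_of_mem hx).symm⟩
      · refine ⟨1, ?_⟩
        rw [map_one]
        exact (Φ.act_eq_one (commutator_eq_bot_iff_le_centralizer.1
          (Components.components_commute hK hR hKR) hx)).symm
    let ψ : L' →* MulAut (Cfsg.Sz Φ.F Φ.m) := Φ.act.comp (inclusion (hLE.trans hEn))
    let P := (Suzuki.rootGroup Φ.hS).map (MulAut.conj : Cfsg.Sz Φ.F Φ.m →* MulAut (Cfsg.Sz Φ.F Φ.m))
    have hψ : ψ.range ≤ P := by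
      rintro _ ⟨⟨l, hl⟩, rfl⟩
      obtain ⟨⟨l', hl'⟩, hl'mem, hll⟩ := hinner (hLE hl)
      have hll' : l' = l := hll
      subst hll'
      obtain ⟨s, hs⟩ := hl'mem
      refine ⟨s, ?_, hs⟩
      refine Suzuki.centralizer_le Φ.hS (Suzuki.zGroup_le Φ.hS hz) hz1
        (mem_centralizer_singleton_iff.2 (sz_conj_injective Φ.hS ?_))
      rw [map_mul, map_mul, hs, ← hza, ← map_mul, ← map_mul]
      exact congrArg _ (Subtype.ext (Subtype.ext (mem_centralizer_singleton_iff.1 (hc.1 hl))))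
    haveI : Finite (MulAut (Cfsg.Sz Φ.F Φ.m)) := Finite.of_injective
      (fun e : MulAut (Cfsg.Sz Φ.F Φ.m) => e.toEquiv) MulEquiv.toEquiv_injective
    have hsol : Group.IsSolvable ↥P := by
      haveI : Group.IsNilpotent ↥P := ((Suzuki.isPGroup_rootGroup Φ.hS).map _).isNilpotent
      infer_instance
    have hperf : ⁅ψ.range, ψ.range⁆ = ψ.range := by
      haveI : Group.IsPerfect ↥L' := hqL.1
      rw [MonoidHom.range_eq_map, ← map_commutator, ← commutator_def, Group.IsPerfect.commutator_eq_top]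
    have hbot := eq_bot_of_perfect_le hperf hsol hψ
    intro l hl
    refine Φ.mem_centralizer_of_act (hEn (hLE hl)) ?_
    have h5 : ψ ⟨l, hl⟩ ∈ ψ.range := ⟨_, rfl⟩
    rw [hbot, mem_bot] at h5
    exact h5
  -- the component containing it
  obtain ⟨R, hR, hLR⟩ : ∃ R : Subgroup ↥Y, Cfsg.IsComponent R ∧ ¬ L' ≤ centralizer (R : Set ↥Y) := by
    by_contra h
    push Not at h
    have hE : Cfsg.layer ↥Y ≤ centralizer (L' : Set ↥Y) := Components.layer_le_iff.2 fun R hR r hr =>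
      mem_centralizer_iff.2 fun l hl => (mem_centralizer_iff.1 (h R hR hl) r hr).symm
    exact quasi_not_comm hqL (hLE.trans hE)
  have haR : (⟨a, hB.le ha⟩ : Y) ∈ centralizer (R : Set ↥Y) := by
    by_contra hno
    exact hLR (hcomm R hR hno)
  -- both are components of `C(a) ∩ C(b)`
  set R₀ := R.map Y.subtype with hR₀
  have hR₀Y : Cfsg.IsComponentOf R₀ Y := by
    refine ⟨map_subtype_le _, ?_⟩
    rw [hR₀, subgroupOf, comap_map_eq_self_of_injective Y.subtype_injective]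
    exact hR
  have hR₀a : R₀ ≤ centralizer ({a} : Set G) := by
    rintro _ ⟨r, hr, rfl⟩
    exact mem_centralizer_singleton_iff.2 (congrArg Subtype.val (mem_centralizer_iff.1 haR r hr))
  have hRD := comp_in hR₀Y (le_inf hR₀a hR₀Y.1) inf_le_right
  have hLD := comp_in hc (le_inf hc.1 hLb) inf_le_left
  by_cases he : R₀ = L
  · exact he ▸ hR₀Y
  · exfalso
    refine hLR fun l hl => mem_centralizer_iff.2 fun r hr => Subtype.ext ?_
    exact mem_centralizer_iff.1 (commute_of_comp hRD hLD he hl) r ⟨r, hr, rfl⟩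

omit h1 in
theorem IsMoved.conj {L : Subgroup G} (hL : IsMoved A L) {n : G} (hn : n ∈ normalizer (A : Set G)) :
    IsMoved A (L.map (MulAut.conj n).toMonoidHom) := by
  obtain ⟨⟨a, ha, ha1, hc⟩, hm⟩ := hL
  refine ⟨⟨n * a * n⁻¹, (mem_normalizer_iff.1 hn a).1 ha, by rwa [Ne, conj_eq_one_iff], ?_⟩, fun h => hm ?_⟩
  · convert comp_conj hc n using 1
    ext x
    simp only [Subgroup.mem_map, mem_centralizer_singleton_iff, MulEquiv.coe_toMonoidHom, MulAut.conj_apply]
    constructor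
    · intro hx
      refine ⟨n⁻¹ * x * n, ?_, by group⟩
      calc n⁻¹ * x * n * a = n⁻¹ * (x * (n * a * n⁻¹)) * n := by group
        _ = n⁻¹ * (n * a * n⁻¹ * x) * n := by rw [hx]
        _ = _ := by group
    · rintro ⟨y, hy, rfl⟩
      calc n * y * n⁻¹ * (n * a * n⁻¹) = n * (y * a) * n⁻¹ := by group
        _ = _ := by rw [hy]; group
  · intro x hx
    refine mem_centralizer_iff.2 fun l hl => ?_
    have h2 := mem_centralizer_iff.1 (h ((mem_normalizer_iff.1 hn x).1 hx)) (n * l * n⁻¹) ⟨l, hl, rfl⟩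
    refine mul_left_cancel (a := n) (mul_right_cancel (b := n⁻¹) ?_)
    convert h2 using 1 <;> group

omit hG hA h1 in
theorem kernel_conj {L : Subgroup G} {n : G} (hn : n ∈ normalizer (A : Set G)) (y : G) :
    y ∈ A ⊓ centralizer ((L.map (MulAut.conj n).toMonoidHom : Subgroup G) : Set G) ↔
      n⁻¹ * y * n ∈ A ⊓ centralizer (L : Set G) := by
  have hiff : y ∈ A ↔ n⁻¹ * y * n ∈ A := by simpa using mem_normalizer_iff.1 (inv_mem hn) y
  simp only [Subgroup.mem_inf, hiff, and_congr_right_iff]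
  intro _
  rw [mem_centralizer_iff, mem_centralizer_iff]
  constructor
  · intro h l hl
    refine mul_left_cancel (a := n) (mul_right_cancel (b := n⁻¹) ?_)
    convert h (n * l * n⁻¹) ⟨l, hl, rfl⟩ using 1 <;> group
  · rintro h _ ⟨l, hl, rfl⟩
    show n * l * n⁻¹ * y = y * (n * l * n⁻¹)
    calc n * l * n⁻¹ * y = n * (l * (n⁻¹ * y * n)) * n⁻¹ := by group
      _ = n * (n⁻¹ * y * n * l) * n⁻¹ := by rw [h l hl]
      _ = _ := by group

/-- Moved components sharing a kernel element commute. -/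
theorem IsMoved.commute_of_share {L L' : Subgroup G} (hL : IsMoved A L) (hL' : IsMoved A L') (hne : L ≠ L')
    {b : G} (hb : b ∈ A) (hb1 : b ≠ 1) (hbL : b ∈ centralizer (L : Set G)) (hbL' : b ∈ centralizer (L' : Set G)) :
    L' ≤ centralizer (L : Set G) :=
  commute_of_comp (hL.comp_of_kernel hG hA h1 hb hb1 hbL) (hL'.comp_of_kernel hG hA h1 hb hb1 hbL') hne

end Cfsg.Agent.ThreePrime
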