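import Cfsg.Agent.Lib.ThreePrime.Local

/-!
# A transitive strongly closed subgroup moves at most one component
-/

set_option autoImplicit false
set_option linter.style.haveILetI false
set_option linter.unusedSectionVars false

namespace Cfsg.Agent.ThreePrime

open Subgroup

universe u

variable {G : Type u} [Group G] [Finite G] {Y B : Subgroup G}

/-- When `N_Y(B)` is transitive on `B#` at most one component of `Y / O(Y)` is moved, faithfully. -/
theorem ScIn.unique_moved (hG : Min3 G) (hY : Y ≠ ⊤) (hB : ScIn Y B)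
    (htr : ∀ b ∈ B, b ≠ 1 → ∀ c ∈ B, c ≠ 1 → ∃ n, n ∈ Y ∧ n ∈ normalizer (B : Set G) ∧ n * b * n⁻¹ = c) :
    (∀ L L', Cfsg.IsComponent L → Cfsg.IsComponent L' → kerIn Y B L ≠ B → kerIn Y B L' ≠ B → L = L') ∧
      ∀ L, Cfsg.IsComponent L → kerIn Y B L ≠ B → kerIn Y B L = ⊥ := by
  classical
  haveI : Fact (Nat.Prime 2) := ⟨Nat.prime_two⟩
  set C := fun (n : G) (hn : n ∈ Y) (L : Subgroup (↥Y ⧸ Cfsg.pPrimeCore 2 ↥Y)) =>
    L.map (MulAut.conj (bar Y ⟨n, hn⟩)).toMonoidHom with hCdef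
  let mv : G → Set (Subgroup (↥Y ⧸ Cfsg.pPrimeCore 2 ↥Y)) := fun a => {L | Cfsg.IsComponent L ∧ a ∉ kerIn Y B L}
  have hconj : ∀ (n : G) (hnY : n ∈ Y), n ∈ normalizer (B : Set G) → ∀ L a,
      n * a * n⁻¹ ∈ kerIn Y B (C n hnY L) ↔ a ∈ kerIn Y B L := by
    intro n hnY hn L a
    rw [mem_kerIn hB.le, mem_kerIn hB.le]
    constructor
    · rintro ⟨ha, hc⟩
      have haB : a ∈ B := (mem_normalizer_iff.1 hn a).2 ha
      refine ⟨haB, mem_centralizer_iff.2 fun l hl => ?_⟩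
      have h := mem_centralizer_iff.1 hc _ ⟨l, hl, rfl⟩
      have e : bar Y ⟨n * a * n⁻¹, hB.le ha⟩ = bar Y ⟨n, hnY⟩ * bar Y ⟨a, hB.le haB⟩ * (bar Y ⟨n, hnY⟩)⁻¹ := by
        rw [← map_inv, ← map_mul, ← map_mul]; rfl
      rw [e] at h
      simp only [MulEquiv.coe_toMonoidHom, MulAut.conj_apply] at h
      refine mul_left_cancel (a := bar Y ⟨n, hnY⟩) (mul_right_cancel (b := (bar Y ⟨n, hnY⟩)⁻¹) ?_)
      convert h using 1 <;> group
    · rintro ⟨ha, hc⟩
      have hna := (mem_normalizer_iff.1 hn a).1 ha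
      refine ⟨hna, mem_centralizer_iff.2 ?_⟩
      rintro _ ⟨l, hl, rfl⟩
      have e : bar Y ⟨n * a * n⁻¹, hB.le hna⟩ = bar Y ⟨n, hnY⟩ * bar Y ⟨a, hB.le ha⟩ * (bar Y ⟨n, hnY⟩)⁻¹ := by
        rw [← map_inv, ← map_mul, ← map_mul]; rfl
      rw [e]
      simp only [MulEquiv.coe_toMonoidHom, MulAut.conj_apply]
      calc _ = bar Y ⟨n, hnY⟩ * (l * bar Y ⟨a, hB.le ha⟩) * (bar Y ⟨n, hnY⟩)⁻¹ := by group
        _ = bar Y ⟨n, hnY⟩ * (bar Y ⟨a, hB.le ha⟩ * l) * (bar Y ⟨n, hnY⟩)⁻¹ := by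
            rw [mem_centralizer_iff.1 hc l hl]
        _ = _ := by group
  have hwinv : ∀ (n : G), n ∈ Y → n ∈ normalizer (B : Set G) → ∀ a, (mv a).ncard ≤ (mv (n * a * n⁻¹)).ncard := by
    intro n hnY hn a
    refine Set.ncard_le_ncard_of_injOn (C n hnY) (fun L hL => ?_)
      (fun L _ L' _ h => Subgroup.map_injective (MulAut.conj _).injective h) (Set.toFinite _)
    exact ⟨Components.component_conj hL.1 _, fun h => hL.2 ((hconj n hnY hn L a).1 h)⟩
  have hone : ∀ L L', Cfsg.IsComponent L → Cfsg.IsComponent L' → kerIn Y B L ≠ B → kerIn Y B L' ≠ B → L = L' := by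
    intro L L' hL hL' hmL hmL'
    by_contra hne
    obtain ⟨P, hPK, hPZ, -⟩ := (hB.kerIn_or_piece hG hY hL).resolve_left hmL
    obtain ⟨P', hPK', hPZ', -⟩ := (hB.kerIn_or_piece hG hY hL').resolve_left hmL'
    have hsingle : ∀ (L L' : Subgroup (↥Y ⧸ Cfsg.pPrimeCore 2 ↥Y)), Cfsg.IsComponent L → Cfsg.IsComponent L' →
        L ≠ L' → ∀ z ∈ B, z ∈ compIn Y L → z ∈ kerIn Y B L' := by
      intro L L' hL hL' hne z hzA hz
      obtain ⟨⟨y, hyM⟩, hy, rfl⟩ := hz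
      exact (mem_kerIn hB.le).2 ⟨hzA, (commutator_eq_bot_iff_le_centralizer.1
        (Components.components_commute hL hL' hne)) hy⟩
    obtain ⟨z, hz, hz1⟩ := P.exists_ne_one
    obtain ⟨z', hz', hz'1⟩ := P'.exists_ne_one
    have hmv : mv z ⊆ {L} := fun R ⟨hR, hRw⟩ => by
      by_contra h
      exact hRw (hsingle L R hL hR (fun e => h e.symm) z (P.hZ hz) (hPZ hz))
    have hz2 : {L, L'} ⊆ mv (z * z') := by
      rintro R (rfl | rfl)
      · refine ⟨hL, fun h => hz1 (P.disj z hz (hPK ▸ ?_))⟩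
        have := mul_mem h (inv_mem (hsingle L' R hL' hL (Ne.symm hne) z' (P'.hZ hz') (hPZ' hz')))
        rwa [mul_inv_cancel_right] at this
      · refine ⟨hL', fun h => hz'1 (P'.disj z' hz' (hPK' ▸ ?_))⟩
        have := mul_mem (inv_mem (hsingle L R hL hL' hne z (P.hZ hz) (hPZ hz))) h
        rwa [inv_mul_cancel_left] at this
    have hzz : z * z' ≠ 1 := fun e => (hz2 (Set.mem_insert _ _)).2 (e ▸ one_mem _)
    obtain ⟨n, hnY, hn, he⟩ := htr _ (mul_mem (P.hZ hz) (P'.hZ hz')) hzz _ (P.hZ hz) hz1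
    have h := hwinv n hnY hn (z * z')
    rw [he] at h
    have h2 := (Set.ncard_le_ncard hz2 (Set.toFinite _)).trans (h.trans (Set.ncard_le_ncard hmv (Set.toFinite _)))
    rw [Set.ncard_pair hne, Set.ncard_singleton] at h2
    omega
  refine ⟨hone, fun L hL hmL => ?_⟩
  by_contra hne
  obtain ⟨a, ha, ha1⟩ : ∃ a ∈ kerIn Y B L, a ≠ 1 := by
    by_contra h'
    push Not at h'
    exact hne ((eq_bot_iff_forall _).2 h')
  refine hmL (le_antisymm inf_le_right fun b hb => ?_)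
  rcases eq_or_ne b 1 with rfl | hb1
  · exact one_mem _
  obtain ⟨n, hnY, hn, rfl⟩ := htr a ha.2 ha1 b hb hb1
  have h := (hconj n hnY hn L a).2 ha
  by_cases hm : kerIn Y B (C n hnY L) = B
  · exfalso
    refine hmL (le_antisymm inf_le_right fun c hc => ?_)
    exact (hconj n hnY hn L c).1 (hm.symm ▸ (mem_normalizer_iff.1 hn c).1 hc)
  · rwa [show C n hnY L = L from hone _ L (Components.component_conj hL _) hL hm hmL] at h

end Cfsg.Agent.ThreePrime
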