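import Cfsg.Agent.Lib.ThreePrime.Moved
import Cfsg.Agent.Lib.ThreePrime.UniqueMoved

/-!
# Two moved components with exchanged kernels commute
-/

set_option autoImplicit false
set_option linter.style.haveILetI false
set_option linter.unusedSectionVars false

namespace Cfsg.Agent.ThreePrime

open Subgroup
open scoped commutatorElement

universe u

variable {G : Type u} [Group G]

theorem center_iso {X X' : Type*} [Group X] [Group X'] (e : X ≃* X') (x : X) : e x ∈ center X' ↔ x ∈ center X := by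
  rw [mem_center_iff, mem_center_iff]
  constructor
  · intro h g
    exact e.injective (by rw [map_mul, map_mul, h (e g)])
  · intro h g
    obtain ⟨g', rfl⟩ := e.surjective g
    rw [← map_mul, ← map_mul, h g']

/-- A frame of a component of a subgroup as a frame in the whole group. -/
noncomputable def Frame.push {L Y : Subgroup G} (hLY : L ≤ Y) (Φ : Frame (L.subgroupOf Y)) : Frame L where
  F := Φ.F
  field := Φ.field
  fintype := Φ.fintype
  m := Φ.m
  hS := Φ.hS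
  π := Φ.π.comp (subgroupOfEquivOfLe hLY).symm.toMonoidHom
  surj := Φ.surj.comp (subgroupOfEquivOfLe hLY).symm.surjective
  ker := by
    ext x
    rw [MonoidHom.mem_ker, MonoidHom.comp_apply, ← MonoidHom.mem_ker, Φ.ker]
    exact center_iso _ x
  two := by
    refine Φ.two.of_equiv ?_
    exact
      { toFun := fun x => ⟨subgroupOfEquivOfLe hLY x, (center_iso _ _).2 x.2⟩
        invFun := fun x => ⟨(subgroupOfEquivOfLe hLY).symm x, (center_iso _ _).2 x.2⟩
        left_inv := fun x => Subtype.ext (MulEquiv.symm_apply_apply _ _)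
        right_inv := fun x => Subtype.ext (MulEquiv.apply_symm_apply _ _)
        map_mul' := fun x y => Subtype.ext (map_mul _ _ _) }
  perf := by
    have h := congrArg (Subgroup.map Y.subtype) Φ.perf
    rwa [map_commutator, map_subgroupOf_eq_of_le hLY] at h

variable [Finite G] {A : Subgroup G} {S : Sylow 2 G} (hG : Min3 G) (hA : Closed A S)
  (h1 : ∀ a ∈ A, a ≠ 1 → Cfsg.pPrimeCore 2 ↥(centralizer ({a} : Set G)) = ⊥)

include hG hA h1

/-- Moved components with exchanged kernels, alone in their classes, commute. -/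
theorem IsMoved.le_centralizer_of_swap {L M : Subgroup G} (hL : IsMoved A L) (hM : IsMoved A M) (P : Piece A)
    (hPK : P.K = A ⊓ centralizer (L : Set G)) (hPZ : P.Z ≤ L) (hPt : P.t ∈ L)
    (hMK : ∀ y, y ∈ A ⊓ centralizer (M : Set G) ↔ y ∈ P.Z)
    (huniqL : ∀ R, IsMoved A R → ∀ y, y ≠ 1 → y ∈ A ⊓ centralizer (L : Set G) → y ∈ A ⊓ centralizer (R : Set G) →
      R = L)
    (huniqM : ∀ R, IsMoved A R → ∀ y, y ≠ 1 → y ∈ A ⊓ centralizer (M : Set G) → y ∈ A ⊓ centralizer (R : Set G) →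
      R = M)
    (hpair : ∀ x ∈ normalizer (A : Set G),
      (∀ y, x⁻¹ * y * x ∈ P.K ↔ y ∈ P.K) ∨ ∀ y, x⁻¹ * y * x ∈ P.K ↔ y ∈ P.Z) :
    M ≤ centralizer (L : Set G) := by
  classical
  haveI : Fact (Nat.Prime 2) := ⟨Nat.prime_two⟩
  have hZnc : ∀ z ∈ P.Z, z ≠ 1 → z ∉ centralizer (L : Set G) := fun z hz hz1 hc =>
    hz1 (P.disj z hz (hPK ▸ ⟨P.hZ hz, hc⟩))
  have hZM : ∀ z ∈ P.Z, z ∈ centralizer (M : Set G) := fun z hz => ((hMK z).2 hz).2
  -- a kernel element of `L`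
  obtain ⟨a, haK, ha1⟩ : ∃ a ∈ A ⊓ centralizer (L : Set G), a ≠ 1 := by
    obtain ⟨⟨a, ha, ha1, hc⟩, -⟩ := hL
    exact ⟨a, ⟨ha, mem_centralizer_iff.2 fun l hl => mem_centralizer_singleton_iff.1 (hc.1 hl)⟩, ha1⟩
  obtain ⟨b, hbZ, hb1⟩ := P.exists_ne_one
  have hbA := P.hZ hbZ
  -- the frames
  have hcM := hM.comp_of_kernel hG hA h1 hbA hb1 (hZM b hbZ)
  set Y := centralizer ({b} : Set G) with hY
  obtain ⟨T, Φ, Q, k₀, htY, htM, hsc, hΦ, hQK, hQZ, htπ, hgen, hord, -⟩ :=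
    comp_data hG hA hbA hb1 (h1 b hbA hb1) hcM hM.2
  have hcL := hL.comp_of_kernel hG hA h1 haK.1 ha1 haK.2
  obtain ⟨T', Φ', P', k', -, -, hsc', hΦ', hP'K, hP'Z, -, -, -, hP'n⟩ :=
    comp_data hG hA haK.1 ha1 (h1 a haK.1 ha1) hcL hL.2
  set Ψ := Φ'.push hcL.1 with hΨ
  set Θ := Φ.push hcM.1 with hΘ
  have hm : 2 ^ (2 * Φ'.m + 1) = Nat.card P.Z := by
    rw [← hP'n, ← P'.cardZ]
    have e1 := P.card_mul hA
    have e2 := P'.card_mul hA
    rw [hP'K] at e2
    rw [hPK] at e1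
    exact Nat.eq_of_mul_eq_mul_left Nat.card_pos (e2.trans e1.symm)
  -- the image of `Z` is the whole root centre
  have hzG : ∀ z ∈ Suzuki.zGroup Ψ.hS, ∃ x, ∃ hx : x ∈ L, x ∈ P.Z ∧ Ψ.π ⟨x, hx⟩ = z := by
    have hin : ∀ x (hx : x ∈ P.Z), Ψ.π ⟨x, hPZ hx⟩ ∈ Suzuki.zGroup Ψ.hS := by
      intro x hx
      have hxA : (⟨x, hcL.1 (hPZ hx)⟩ : ↥(centralizer ({a} : Set G))) ∈ A.subgroupOf _ := P.hZ hx
      obtain ⟨z, hz, he⟩ := exists_act_zGroup (hG.framed_of_core (hG.centralizer_ne_top ha1) (h1 a haK.1 ha1))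
        (ea_subgroupOf hA.ea) hsc' hcL.2 hΦ' hxA
      have hxL' : (⟨x, hcL.1 (hPZ hx)⟩ : ↥(centralizer ({a} : Set G))) ∈ L.subgroupOf _ := hPZ hx
      have e : Φ'.π ⟨_, hxL'⟩ = z := sz_conj_injective Φ'.hS ((Φ'.act_of_mem hxL').symm.trans he)
      exact e ▸ hz
    let f : P.Z → Suzuki.zGroup Ψ.hS := fun x => ⟨Ψ.π ⟨x, hPZ x.2⟩, hin x x.2⟩
    have hf : Function.Injective f := fun x y hxy => by
      have h2 : Ψ.π (⟨x, hPZ x.2⟩ * (⟨y, hPZ y.2⟩ : L)⁻¹) = 1 := by
        rw [map_mul, map_inv, mul_inv_eq_one]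
        exact congrArg Subtype.val hxy
      by_contra hne
      refine hZnc ((x : G) * (y : G)⁻¹) (mul_mem x.2 (inv_mem y.2)) (fun e => hne (Subtype.ext (mul_inv_eq_one.1 e))) ?_
      exact mem_centralizer_iff.2 fun l hl => (Ψ.center_le_comm _ h2 hl).symm
    have hcard : Nat.card P.Z = Nat.card (Suzuki.zGroup Ψ.hS) := by
      rw [Suzuki.card_zGroup, ← hm]; rfl
    intro z hz
    obtain ⟨⟨x, hx⟩, he⟩ := ((Nat.bijective_iff_injective_and_card f).2 ⟨hf, hcard⟩).2 ⟨z, hz⟩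
    exact ⟨x, hPZ hx, hx, congrArg Subtype.val he⟩
  -- `N(A) ∩ C(b)` normalises `L`
  have hnL : ∀ n ∈ normalizer (A : Set G), n * b = b * n → n ∈ normalizer (L : Set G) := by
    intro n hn hnb
    have hinv : n⁻¹ * b * n = b := by rw [mul_assoc, ← hnb, inv_mul_cancel_left]
    rcases hpair n hn with h | h
    · refine mem_normalizer_iff_map_conj_eq.2
        (huniqL _ (hL.conj hG hA hn) a ha1 haK ((kernel_conj hn a).2 ?_))
      exact hPK ▸ (h a).2 (hPK ▸ haK)
    · have hbK := (h b).2 hbZ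
      rw [hinv] at hbK
      exact absurd (P.disj b hbZ hbK) hb1
  -- the preimage of the Borel subgroup normalises `L`
  have hborel : ∀ x (hx : x ∈ M), Φ.π ⟨⟨x, hcM.1 hx⟩, hx⟩ ∈ Suzuki.borel Φ.F Φ.m → x ∈ normalizer (L : Set G) := by
    intro x hx hb'
    have h := mem_normalizer_of_borel (hG.framed_of_core (hG.centralizer_ne_top hb1) (h1 b hbA hb1))
      (ea_subgroupOf hA.ea) hsc hcM.2 hΦ (x := (⟨x, hcM.1 hx⟩ : Y)) hx hb'
    refine hnL x (mem_normalizer_fintype fun c hc => ?_) (mem_centralizer_singleton_iff.1 (hcM.1 hx))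
    exact ((mem_normalizer_iff.1 h ⟨c, hA.le_centralizer hbA hc⟩).1 hc :)
  have hk1 : k₀ ≠ 1 := fun e => by
    rw [e, orderOf_one] at hord
    have := Φ.hS.eight_le_card
    rw [Φ.hS.card] at this
    omega
  -- `Q.t` centralises `L`
  have htN : Q.t ∈ normalizer (L : Set G) := hborel Q.t htM (htπ ▸ Suzuki.H_mem_borel Φ.hS k₀)
  have htL : Q.t ∈ centralizer (L : Set G) := by
    refine Ψ.mem_centralizer_of_act htN (eq_one_of_fix_zGroup Ψ.hS _ (fun z hz => ?_) Q.odd_t ?_)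
    · obtain ⟨x, hx, hxZ, rfl⟩ := hzG z hz
      rw [Ψ.act_apply' htN hx]
      congr 1
      exact Subtype.ext (mul_inv_eq_iff_eq_mul.2 (mem_centralizer_iff.1 (hZM x hxZ) Q.t htM))
    · rw [← map_pow, show (⟨Q.t, htN⟩ : normalizer (L : Set G)) ^ orderOf Q.t = 1 from
        Subtype.ext (pow_orderOf_eq_one Q.t), map_one]
  have hLt : L ≤ centralizer ({Q.t} : Set G) := fun l hl =>
    mem_centralizer_singleton_iff.2 (mem_centralizer_iff.1 htL l hl)
  have ht1 : Q.t ≠ 1 := fun e => hk1 (Suzuki.H_injective Φ.hS (by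
    rw [← htπ, Suzuki.H_one, ← map_one Φ.π]
    congr 1
    exact Subtype.ext (Subtype.ext e)))
  set Yt := centralizer ({Q.t} : Set G) with hYt
  have hYtne : Yt ≠ ⊤ := hG.centralizer_ne_top ht1
  have hZt : P.Z ≤ Yt := hPZ.trans hLt
  -- `Z` is strongly closed in `C(Q.t)`
  have hB : ScIn Yt P.Z := by
    have hZea : Cfsg.IsElementaryAbelian 2 P.Z := Signalizer.ea_mono hA.ea P.hZ
    refine ⟨hZt, hZea, ?_⟩
    obtain ⟨R, hR⟩ := ((hA.isPGroup.to_le P.hZ).comap_of_injective Yt.subtype Yt.subtype_injective :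
      IsPGroup 2 (P.Z.subgroupOf Yt)).exists_le_sylow
    refine ⟨R, hR, fun x hx g hg => ?_⟩
    set v := (g : G) * x * (g : G)⁻¹ with hv
    obtain ⟨T₂, hT₂⟩ := ((R.2.map Yt.subtype : IsPGroup 2 ((R : Subgroup Yt).map Yt.subtype))).exists_le_sylow
    obtain ⟨k, hk⟩ := LESylow.exists_conj_eq S T₂
    have hinA : ∀ c ∈ A, ∀ d : G, d * c * d⁻¹ ∈ (T₂ : Subgroup G) → k⁻¹ * (d * c * d⁻¹) * k ∈ A := by
      intro c hc d hd
      rw [← hk] at hd
      obtain ⟨s, hs, hsd⟩ := hd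
      have hsd' : k * s * k⁻¹ = d * c * d⁻¹ := hsd
      have e : k⁻¹ * (d * c * d⁻¹) * k = (k⁻¹ * d) * c * (k⁻¹ * d)⁻¹ := by group
      rw [e]
      refine hA.sc.2 c hc _ ?_
      rw [← e, ← hsd', show k⁻¹ * (k * s * k⁻¹) * k = s by group]
      exact hs
    have hzin : ∀ z ∈ P.Z, k⁻¹ * z * k ∈ A := fun z hz => by
      have := hinA z (P.hZ hz) 1 (by simpa using hT₂ ⟨⟨z, hZt hz⟩, hR hz, rfl⟩)
      simpa using this
    have hvin : k⁻¹ * v * k ∈ A := hinA _ (P.hZ hx) g (hT₂ ⟨_, hg, rfl⟩)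
    obtain ⟨n, hn, hne⟩ := hA.fusion (X := (P.Z : Set G)) (fun z hz => hA.sc.1 (P.hZ hz)) (g := k⁻¹)
      fun z hz => hA.sc.1 (by rw [inv_inv]; exact hzin z hz)
    set u := k * n with hu
    have huZ : ∀ z ∈ P.Z, u * z * u⁻¹ = z := fun z hz => by
      have := hne z hz
      rw [inv_inv] at this
      calc u * z * u⁻¹ = k * (n * z * n⁻¹) * k⁻¹ := by rw [hu]; group
        _ = k * (k⁻¹ * z * k) * k⁻¹ := by rw [this]
        _ = z := by group
    have hvA : u⁻¹ * v * u ∈ A := by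
      have := (mem_normalizer_iff.1 (inv_mem hn) _).1 hvin
      convert this using 1
      rw [hu]; group
    -- decompose `u ∈ C(b)`
    have hub : u ∈ Y := mem_centralizer_singleton_iff.2 (mul_inv_eq_iff_eq_mul.1 (huZ b hbZ))
    have hBY := hA.scIn (hA.le_centralizer hbA)
    obtain ⟨T₀, hsc₀⟩ := hBY.sc
    obtain ⟨e, he, n', hn', hue⟩ := exists_layer_mul (hG.framed_of_core (hG.centralizer_ne_top hb1) (h1 b hbA hb1))
      (ea_subgroupOf hA.ea) hsc₀ (⟨u, hub⟩ : Y)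
    have hn'A : (n' : G) ∈ normalizer (A : Set G) := mem_normalizer_fintype fun c hc =>
      ((mem_normalizer_iff.1 hn' ⟨c, hA.le_centralizer hbA hc⟩).1 hc :)
    set D := Cfsg.layer ↥Y ⊓ centralizer ((A.subgroupOf Y : Subgroup Y) : Set Y) with hD
    have hEle : Cfsg.layer ↥Y ≤ M.subgroupOf Y ⊔ D := Components.layer_le_iff.2 fun K hK => by
      by_cases hKA : A ≤ centralizer ((K.map Y.subtype : Subgroup G) : Set G)
      · refine (le_inf (Components.component_le_layer hK) fun x hx => ?_).trans le_sup_right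
        exact mem_centralizer_iff.2 fun c hc => Subtype.ext
          (mem_centralizer_iff.1 (hKA hc) x ⟨x, hx, rfl⟩).symm
      · have hKY : Cfsg.IsComponentOf (K.map Y.subtype) Y := by
          refine ⟨map_subtype_le _, ?_⟩
          rw [subgroupOf, comap_map_eq_self_of_injective Y.subtype_injective]
          exact hK
        have hbK : b ∈ A ⊓ centralizer ((K.map Y.subtype : Subgroup G) : Set G) :=
          ⟨hbA, mem_centralizer_iff.2 fun l hl => mem_centralizer_singleton_iff.1 (hKY.1 hl)⟩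
        have hKM := huniqM _ ⟨⟨b, hbA, hb1, hKY⟩, hKA⟩ b hb1 ((hMK b).2 hbZ) hbK
        refine le_trans ?_ le_sup_left
        intro x hx
        exact hKM ▸ (⟨x, hx, rfl⟩ : (x : G) ∈ K.map Y.subtype)
    have heMD : e ∈ ((M.subgroupOf Y ⊔ D : Subgroup Y) : Set Y) := hEle he
    rw [Subgroup.coe_mul_of_right_le_normalizer_left _ D
      (inf_le_left.trans (Components.layer_le_normalizer_component hcM.2))] at heMD
    obtain ⟨μ, hμ, d, hd, rfl⟩ := heMD
    have hc0A : (n' : G) * (u⁻¹ * v * u) * (n' : G)⁻¹ ∈ A := (mem_normalizer_iff.1 hn'A _).1 hvA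
    set c₀ := (n' : G) * (u⁻¹ * v * u) * (n' : G)⁻¹ with hc₀
    have hdc : (d : G) * c₀ = c₀ * d :=
      (congrArg Subtype.val (mem_centralizer_iff.1 hd.2 ⟨c₀, hA.le_centralizer hbA hc0A⟩ hc0A)).symm
    have hueG : u = (μ : G) * d * n' := congrArg Subtype.val hue
    have hv2 : v = (μ : G) * c₀ * (μ : G)⁻¹ := by
      calc v = u * (u⁻¹ * v * u) * u⁻¹ := by group
        _ = ((μ : G) * d * n') * (u⁻¹ * v * u) * ((μ : G) * d * n')⁻¹ := by rw [← hueG]
        _ = (μ : G) * ((d : G) * c₀ * (d : G)⁻¹) * (μ : G)⁻¹ := by rw [hc₀]; group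
        _ = _ := by rw [hdc, mul_inv_cancel_right]
    obtain ⟨kk, hkk, zz, hzz, hkz⟩ := Q.split c₀ hc0A
    have hkkZ : kk ∈ P.Z := (hMK kk).1 (hQK ▸ hkk)
    have hkM := mem_centralizer_iff.1 (hZM kk hkkZ) (μ : G) hμ
    set w' := (μ : G) * zz * (μ : G)⁻¹ with hw'
    have hvw : v = kk * w' := by
      rw [hv2, hkz, hw', ← mul_assoc (μ : G) kk, hkM]; group
    have hw'M : w' ∈ M := mul_mem (mul_mem hμ (hQZ hzz)) (inv_mem hμ)
    have htv : Q.t * v = v * Q.t := by
      have hvY : v ∈ Yt := mul_mem (mul_mem g.2 (x.2)) (inv_mem g.2)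
      exact (mem_centralizer_singleton_iff.1 hvY).symm
    have htk : Q.t * kk = kk * Q.t := mem_centralizer_iff.1 (hZM kk hkkZ) Q.t htM
    have htw : Q.t * w' = w' * Q.t := by
      refine mul_left_cancel (a := kk) ?_
      rw [← mul_assoc, ← htk, mul_assoc, ← hvw, htv, hvw, mul_assoc]
    -- the frame value commutes with the torus generator
    have hπw : Φ.π ⟨⟨w', hcM.1 hw'M⟩, hw'M⟩ = 1 := by
      set p := Φ.π ⟨⟨w', hcM.1 hw'M⟩, hw'M⟩ with hp
      have hc1 : Suzuki.H Φ.hS k₀ * p = p * Suzuki.H Φ.hS k₀ := by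
        rw [hp, ← htπ, ← map_mul, ← map_mul]
        exact congrArg _ (Subtype.ext (Subtype.ext htw))
      have hp2 : p * p = 1 := by
        rw [hp, ← map_mul, ← map_one Φ.π]
        refine congrArg _ (Subtype.ext (Subtype.ext ?_))
        show w' * w' = 1
        rw [hw', show (μ : G) * zz * (μ : G)⁻¹ * ((μ : G) * zz * (μ : G)⁻¹) = (μ : G) * (zz * zz) * (μ : G)⁻¹ by group,
          hA.sq (Q.hZ hzz)]
        group
      have hpt : p ∈ centralizer ({Suzuki.H Φ.hS k₀} : Set (Cfsg.Sz Φ.F Φ.m)) :=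
        mem_centralizer_singleton_iff.2 hc1.symm
      rw [Suzuki.centralizer_H Φ.hS hk1] at hpt
      obtain ⟨l, hl⟩ := (Suzuki.mem_torus Φ.hS).mp hpt
      rw [hl, ← Suzuki.H_mul, ← Suzuki.H_one Φ.hS] at hp2
      rw [hl, Suzuki.units_sq_eq_one Φ.hS (Suzuki.H_injective Φ.hS hp2), Suzuki.H_one]
    have hzz1 : zz = 1 := by
      have hcw : ∀ m ∈ M, w' * m = m * w' := fun m hm =>
        congrArg Subtype.val (Φ.center_le_comm (x := (⟨w', hcM.1 hw'M⟩ : Y)) hw'M hπw
          (l := (⟨m, hcM.1 hm⟩ : Y)) hm)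
      refine Q.disj zz hzz ?_
      rw [hQK]
      refine ⟨Q.hZ hzz, mem_centralizer_iff.2 fun m hm => ?_⟩
      have hm' : (μ : G) * m * (μ : G)⁻¹ ∈ M := mul_mem (mul_mem hμ hm) (inv_mem hμ)
      refine mul_left_cancel (a := (μ : G)) (mul_right_cancel (b := (μ : G)⁻¹) ?_)
      have := hcw _ hm'
      rw [hw'] at this
      convert this.symm using 1 <;> group
    show ((g * x * g⁻¹ : Yt) : G) ∈ P.Z
    rw [show ((g * x * g⁻¹ : Yt) : G) = v from rfl, hvw, hw', hzz1]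
    simpa using hkkZ
  -- transitivity
  have htr : ∀ c ∈ P.Z, c ≠ 1 → ∀ d ∈ P.Z, d ≠ 1 →
      ∃ n, n ∈ Yt ∧ n ∈ normalizer (P.Z : Set G) ∧ n * c * n⁻¹ = d := by
    intro c hc hc1 d hd hd1
    obtain ⟨i, hi⟩ := P.trans c hc hc1 d hd hd1
    exact ⟨P.t ^ i, hLt (pow_mem hPt i), mem_normalizer_fintype fun z hz => P.pow_Z hz i, hi⟩
  obtain ⟨huR, hfR⟩ := hB.unique_moved hG hYtne htr
  have hfr := hG.framed hYtne
  obtain ⟨T₁, hBe₁, hsc₁⟩ := hB.exists_closed
  set Bb := (P.Z.subgroupOf Yt).map (bar Yt) with hBb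
  haveI := Components.layer_normal (G := ↥Yt ⧸ Cfsg.pPrimeCore 2 ↥Yt)
  -- the image of a component through `Z` lies in the moved component
  have hsub : ∀ L₁ : Subgroup G, Cfsg.IsQuasisimple ↥L₁ → L₁ ≤ Yt → P.Z ≤ L₁ →
      (∀ z ∈ P.Z, z ≠ 1 → z ∉ centralizer (L₁ : Set G)) →
      ∃ R, Cfsg.IsComponent R ∧ kerIn Yt P.Z R ≠ P.Z ∧ (L₁.subgroupOf Yt).map (bar Yt) ≤ R := by
    intro L₁ hq hle hZ₁ hnc
    set L' := L₁.subgroupOf Yt with hL'
    have hqL : Cfsg.IsQuasisimple ↥L' := (Components.quasisimple_congr (subgroupOfEquivOfLe hle)).2 hq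
    have hLL : ⁅L', L'⁆ = L' := Components.quasisimple_commutator_eq hqL
    have hBL : P.Z.subgroupOf Yt ≤ L' := fun z hz => hZ₁ hz
    have heq : ⁅L', P.Z.subgroupOf Yt⁆ = L' := by
      rcases quasi_cases hqL (Components.commutator_le_of_le_normalizer (hBL.trans Subgroup.le_normalizer))
        (Components.normalizes_left L' (P.Z.subgroupOf Yt)) with h | h
      · exact h
      · exfalso
        have h3 := Components.commute_of_commutator_central hLL h
        rw [commutator_comm, commutator_eq_bot_iff_le_centralizer] at h3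
        refine hnc b hbZ hb1 (mem_centralizer_iff.2 fun l hl => ?_)
        exact congrArg Subtype.val (mem_centralizer_iff.1
          (h3 (show (⟨b, hZt hbZ⟩ : Yt) ∈ P.Z.subgroupOf Yt from hbZ)) ⟨l, hle hl⟩ hl)
    set Lb := L'.map (bar Yt) with hLb
    have heq' : ⁅Lb, Bb⁆ = Lb := by rw [hLb, hBb, ← map_commutator, heq]
    have hperf : ⁅Lb, Lb⁆ = Lb := by rw [hLb, ← map_commutator, hLL]
    -- inside the layer
    have hN1 : Lb ≤ Cfsg.layer _ ⊔ Bb := by
      rw [← heq', commutator_le]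
      intro l _ x hx
      obtain ⟨e, he, n, hn, rfl⟩ := exists_layer_mul hfr hBe₁ hsc₁ l
      have hx' : n * x * n⁻¹ ∈ Bb := (mem_normalizer_iff.1 hn x).1 hx
      have h2 : ⁅e * n, x⁆ = (e * ((n * x * n⁻¹) * e⁻¹ * (n * x * n⁻¹)⁻¹)) * ((n * x * n⁻¹) * x⁻¹) := by
        rw [commutatorElement_def]; group
      rw [h2]
      exact mul_mem (mem_sup_left (mul_mem he ((inferInstance : (Cfsg.layer _).Normal).conj_mem _ (inv_mem he) _)))
        (mem_sup_right (mul_mem hx' (inv_mem hx)))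
    have hLE : Lb ≤ Cfsg.layer _ := by
      let q := QuotientGroup.mk' (Cfsg.layer (↥Yt ⧸ Cfsg.pPrimeCore 2 ↥Yt))
      have hmap : Lb.map q ≤ Bb.map q := by
        refine (map_mono hN1).trans ?_
        rw [Subgroup.map_sup, show (Cfsg.layer _).map q = ⊥ from
          (Subgroup.map_eq_bot_iff _).2 (QuotientGroup.ker_mk' _).ge, bot_sup_eq]
      have hsol : Group.IsSolvable ↥(Bb.map q) := by
        haveI : IsMulCommutative ↥Bb := hBe₁.1
        exact Group.isSolvable_of_comm fun x y => mul_comm' x y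
      have hperf' : ⁅Lb.map q, Lb.map q⁆ = Lb.map q := by rw [← map_commutator, hperf]
      have h4 := eq_bot_of_perfect_le hperf' hsol hmap
      rwa [Subgroup.map_eq_bot_iff, QuotientGroup.ker_mk'] at h4
    have hfixed : ∀ R, Cfsg.IsComponent R → kerIn Yt P.Z R = P.Z → R ≤ centralizer (Bb : Set _) := by
      intro R hR hker r hr
      refine mem_centralizer_iff.2 ?_
      rintro _ ⟨⟨c, hcY⟩, hc, rfl⟩
      exact (mem_centralizer_iff.1 ((mem_kerIn hB.le).1 (hker.symm ▸ hc)).2 r hr).symm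
    by_cases hex : ∃ R, Cfsg.IsComponent R ∧ kerIn Yt P.Z R ≠ P.Z
    · obtain ⟨R, hR, hRm⟩ := hex
      refine ⟨R, hR, hRm, ?_⟩
      show Lb ≤ R
      rw [← heq']
      refine (commutator_mono hLE le_rfl).trans ?_
      rw [commutator_le]
      intro e he x hx
      set D := Cfsg.layer (↥Yt ⧸ Cfsg.pPrimeCore 2 ↥Yt) ⊓ centralizer (Bb : Set _) with hD
      have hle' : Cfsg.layer (↥Yt ⧸ Cfsg.pPrimeCore 2 ↥Yt) ≤ D ⊔ R := Components.layer_le_iff.2 fun K hK => by
        by_cases hKA : kerIn Yt P.Z K = P.Z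
        · exact (le_inf (Components.component_le_layer hK) (hfixed K hK hKA)).trans le_sup_left
        · rw [huR K R hK hR hKA hRm]; exact le_sup_right
      have he' : e ∈ ((D ⊔ R : Subgroup _) : Set _) := hle' he
      rw [Subgroup.coe_mul_of_left_le_normalizer_right D R
        (inf_le_left.trans (Components.layer_le_normalizer_component hR))] at he'
      obtain ⟨d, hd, r, hr, rfl⟩ := he'
      have hxR : x ∈ normalizer (R : Set _) := le_normalizer_component hfr hBe₁ hsc₁ hR hx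
      have hdR : d ∈ normalizer (R : Set _) := Components.layer_le_normalizer_component hR hd.1
      have hdx := mem_centralizer_iff.1 hd.2 x hx
      have h2 : ⁅d * r, x⁆ = d * (r * (x * r⁻¹ * x⁻¹)) * d⁻¹ := by
        rw [commutatorElement_def]
        calc d * r * x * (d * r)⁻¹ * x⁻¹ = d * r * x * r⁻¹ * (d⁻¹ * x⁻¹) := by group
          _ = d * r * x * r⁻¹ * (x⁻¹ * d⁻¹) := by rw [← mul_inv_rev x d, hdx, mul_inv_rev]
          _ = _ := by group
      rw [h2]
      exact (mem_normalizer_iff.1 hdR _).1 (mul_mem hr ((mem_normalizer_iff.1 hxR _).1 (inv_mem hr)))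
    · exfalso
      push Not at hex
      have hE : Cfsg.layer _ ≤ centralizer (Bb : Set _) :=
        Components.layer_le_iff.2 fun R hR => hfixed R hR (hex R hR)
      have hbot : Lb = ⊥ := by
        rw [← heq']
        exact commutator_eq_bot_iff_le_centralizer.2 (hLE.trans hE)
      refine hb1 (hB.bar_injective hbZ ?_)
      rw [← mem_bot, ← hbot]
      exact ⟨⟨b, hZt hbZ⟩, hZ₁ hbZ, rfl⟩
  -- conversely the moved component lies in the image of `L`
  have hqL : Cfsg.IsQuasisimple ↥L := comp_quasisimple hcL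
  obtain ⟨R, hR, hRm, hLR⟩ := hsub L hqL hLt hPZ hZnc
  have hRL : R ≤ (L.subgroupOf Yt).map (bar Yt) := by
    obtain ⟨ΦR₀⟩ := hfr.frame R hR
    obtain ⟨ΦR, hΦR⟩ := exists_aligned (T := T₁) hR.1 ΦR₀
    have hmove : ¬ Bb ≤ centralizer (R : Set _) := fun h => hRm (le_antisymm inf_le_right fun c hc =>
      (mem_kerIn hB.le).2 ⟨hc, h ⟨⟨c, hZt hc⟩, hc, rfl⟩⟩)
    obtain ⟨t₁, Z₁, k₁, -, -, -, -, -, -, hZ₁B, -, hZ₁card, -, -, -, hsplit, -⟩ :=
      exists_torus hfr hBe₁ hsc₁ hR hΦR hmove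
    have hBb1 : ∀ k ∈ Bb, k ∈ centralizer (R : Set _) → k = 1 := by
      rintro _ ⟨⟨c, hcY⟩, hc, rfl⟩ hcR
      have : c ∈ kerIn Yt P.Z R := (mem_kerIn hB.le).2 ⟨hc, hcR⟩
      rw [hfR R hR hRm, mem_bot] at this
      rw [show (⟨c, hcY⟩ : Yt) = 1 from Subtype.ext this, map_one]
    have hZB : Z₁ = Bb := le_antisymm hZ₁B fun x hx => by
      obtain ⟨k, hk, hkR, z, hz, rfl⟩ := hsplit x hx
      rwa [hBb1 k hk hkR, one_mul]
    have hmR : Φ'.m = ΦR.m := by
      have hcardB : Nat.card Bb = Nat.card P.Z := by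
        refine (Nat.card_eq_of_bijective
          (fun c : P.Z => (⟨bar Yt ⟨c, hZt c.2⟩, ⟨⟨c, hZt c.2⟩, c.2, rfl⟩⟩ : Bb)) ⟨fun c d hcd => ?_, ?_⟩).symm
        · have e : bar Yt ⟨(c : G) * (d : G)⁻¹, hZt (mul_mem c.2 (inv_mem d.2))⟩ = 1 := by
            rw [show (⟨(c : G) * (d : G)⁻¹, hZt (mul_mem c.2 (inv_mem d.2))⟩ : Yt) =
              ⟨c, hZt c.2⟩ * (⟨d, hZt d.2⟩ : Yt)⁻¹ from rfl, map_mul, map_inv, mul_inv_eq_one]
            exact congrArg Subtype.val hcd
          exact Subtype.ext (mul_inv_eq_one.1 (hB.bar_injective (mul_mem c.2 (inv_mem d.2)) e))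
        · rintro ⟨_, ⟨⟨c, hcY⟩, hc, rfl⟩⟩
          exact ⟨⟨c, hc⟩, rfl⟩
      rw [hZB, hcardB, ← hm] at hZ₁card
      have := Nat.pow_right_injective (le_refl 2) hZ₁card
      omega
    let χ : ↥L →* Cfsg.Sz ΦR.F ΦR.m := MonoidHom.mk'
      (fun l => ΦR.π ⟨bar Yt ⟨l, hLt l.2⟩, hLR ⟨⟨l, hLt l.2⟩, l.2, rfl⟩⟩)
      fun l l' => by rw [← map_mul]; rfl
    have hker : χ.ker ≤ center ↥L := by
      refine (Components.quasisimple_normal hqL χ.ker).resolve_left fun htop => ?_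
      refine hb1 ?_
      have hbk : χ ⟨b, hPZ hbZ⟩ = 1 := MonoidHom.mem_ker.1 (htop ▸ mem_top _)
      have : b ∈ kerIn Yt P.Z R := (mem_kerIn hB.le).2 ⟨hbZ, mem_centralizer_iff.2 fun r hr =>
        (ΦR.center_le_comm _ hbk hr).symm⟩
      rwa [hfR R hR hRm, mem_bot] at this
    have hrange : χ.range = ⊤ := by
      refine eq_top_of_card_eq _ (le_antisymm (card_le_card_group _) ?_)
      rw [← index_ker]
      refine le_trans (le_of_eq ?_) (index_antitone hker)
      rw [index_eq_card]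
      show _ = Nat.card (↥L ⧸ center ↥L)
      rw [Nat.card_congr Ψ.quotEquiv.toEquiv, Suzuki.card_Sz ΦR.hS, Suzuki.card_Sz Ψ.hS,
        show Ψ.m = ΦR.m from hmR]
    rw [← Components.component_commutator_eq hR, commutator_le]
    intro r hr r' hr'
    have hlift : ∀ (r : ↥Yt ⧸ Cfsg.pPrimeCore 2 ↥Yt) (hr : r ∈ R),
        ∃ l ∈ (L.subgroupOf Yt).map (bar Yt), ∀ s ∈ R, (l⁻¹ * r) * s = s * (l⁻¹ * r) := by
      intro r hr
      obtain ⟨l, hl⟩ : ΦR.π ⟨r, hr⟩ ∈ χ.range := hrange ▸ mem_top _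
      refine ⟨bar Yt ⟨l, hLt l.2⟩, ⟨⟨l, hLt l.2⟩, l.2, rfl⟩, fun s hs => ?_⟩
      have hmem : bar Yt ⟨l, hLt l.2⟩ ∈ R := hLR ⟨⟨l, hLt l.2⟩, l.2, rfl⟩
      refine ΦR.center_le_comm (mul_mem (inv_mem hmem) hr) ?_ hs
      rw [show (⟨(bar Yt ⟨l, hLt l.2⟩)⁻¹ * r, mul_mem (inv_mem hmem) hr⟩ : R) =
        (⟨_, hmem⟩ : R)⁻¹ * ⟨r, hr⟩ from rfl, map_mul, map_inv, inv_mul_eq_one]
      exact hl
    obtain ⟨l, hl, hlc⟩ := hlift r hr
    obtain ⟨l', hl', hl'c⟩ := hlift r' hr'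
    have hc2 : ∀ (l l' c c' : ↥Yt ⧸ Cfsg.pPrimeCore 2 ↥Yt), c * l' = l' * c → c' * l = l * c' → c * c' = c' * c →
        c * l = l * c → c' * l' = l' * c' → ⁅l * c, l' * c'⁆ = ⁅l, l'⁆ := by
      intro l l' c c' e1 e2 e3 e4 e5
      have hcl' : Commute c (l' * c') := (show Commute c l' from e1).mul_right e3
      rw [commutatorElement_def, commutatorElement_def]
      calc l * c * (l' * c') * (l * c)⁻¹ * (l' * c')⁻¹ = l * (c * (l' * c')) * c⁻¹ * l⁻¹ * (c'⁻¹ * l'⁻¹) := by group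
        _ = l * (l' * c') * l⁻¹ * (c'⁻¹ * l'⁻¹) := by rw [hcl'.eq]; group
        _ = l * l' * (c' * l⁻¹ * c'⁻¹) * l'⁻¹ := by group
        _ = _ := by rw [(show Commute c' l from e2).inv_right.eq]; group
    rw [show r = l * (l⁻¹ * r) by group, show r' = l' * (l'⁻¹ * r') by group]
    have hlR : l ∈ R := hLR hl
    have hl'R : l' ∈ R := hLR hl'
    rw [hc2 l l' _ _ (hlc l' hl'R) (hl'c l hlR) (hlc _ (mul_mem (inv_mem hl'R) hr')) (hlc l hlR) (hl'c l' hl'R)]
    rw [commutatorElement_def]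
    exact mul_mem (mul_mem (mul_mem hl hl') (inv_mem hl)) (inv_mem hl')
  -- the odd core of `C(Q.t)` centralises `L`
  set O := oddIn Yt with hO
  have hOn : Yt ≤ normalizer (O : Set G) := by
    haveI := Cfsg.Agent.PBasic.pPrimeCore_characteristic 2 ↥Yt
    exact AxB.le_normalizer_map_subtype inferInstance
  have hOY : O ≤ Yt := map_subtype_le _
  have hOc : ∀ d ∈ O, Odd (orderOf d) := by
    rintro _ ⟨d, hd, rfl⟩
    show Odd (orderOf (d : G))
    rw [orderOf_coe, ← Nat.coprime_two_right]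
    exact Cfsg.Agent.PBasic.coprime_orderOf_of_mem (Cfsg.Agent.PBasic.pPrimeCore_coprime 2 ↥Yt) hd
  have hOL : O ≤ centralizer (L : Set G) := by
    refine Signalizer.le_of_centralizer_le (Signalizer.ea_mono hA.ea P.hZ)
      (le_trans (by norm_num) P.eight_le) (hZt.trans hOn) (fun hd => ?_) fun z hz hz1 d hd => ?_
    · rw [hO, oddIn, card_map_of_injective Yt.subtype_injective] at hd
      exact Nat.prime_two.ne_one (Nat.eq_one_of_dvd_coprimes (Cfsg.Agent.PBasic.pPrimeCore_coprime 2 ↥Yt) hd dvd_rfl)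
    set Yz := centralizer ({z} : Set G) with hYz
    have hcMz : Cfsg.IsComponentOf M Yz := hM.comp_of_kernel hG hA h1 (P.hZ hz) hz1 (hZM z hz)
    have hHz := hG.framed_of_core (hG.centralizer_ne_top hz1) (h1 z (P.hZ hz) hz1)
    have hdt : d * Q.t = Q.t * d := mem_centralizer_singleton_iff.1 (hOY hd.1)
    set tz : Yz := ⟨Q.t, hcMz.1 htM⟩ with htz
    set dz : Yz := ⟨d, hd.2⟩ with hdz
    have hdodd : Odd (orderOf dz) := by rw [← orderOf_coe]; exact hOc d hd.1
    have hDodd : ∀ r : Yz, (r : G) * Q.t = Q.t * r → Odd (orderOf (r * dz * r⁻¹ * dz⁻¹)) := fun r hr => by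
      rw [← orderOf_coe]
      exact hOc _ (mul_mem ((mem_normalizer_iff.1 (hOn (mem_centralizer_singleton_iff.2 hr)) d).1 hd.1)
        (inv_mem hd.1))
    have htzM : tz ∈ M.subgroupOf Yz := htM
    have hoddone : ∀ {x : Yz} {k : ℕ}, Odd (orderOf x) → x ^ 2 ^ k = 1 → x = 1 := fun {x k} h1 h2 =>
      orderOf_eq_one_iff.1 (Nat.eq_one_of_dvd_coprimes ((Nat.coprime_two_right.2 h1).pow_right k) dvd_rfl
        (orderOf_dvd_of_pow_eq_one h2))
    -- the other components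
    have hothers : ∀ K, Cfsg.IsComponent K → K ≠ M.subgroupOf Yz →
        tz ∈ centralizer (K : Set Yz) ∧ dz ∈ centralizer (K : Set Yz) := by
      intro K hK hKM
      have htK : tz ∈ centralizer (K : Set Yz) :=
        commutator_eq_bot_iff_le_centralizer.1 (Components.components_commute hcMz.2 hK hKM.symm) htzM
      refine ⟨htK, ?_⟩
      obtain ⟨ΦK⟩ := hHz.frame K hK
      have hrt : ∀ r ∈ K, (r : G) * Q.t = Q.t * r := fun r hr => congrArg Subtype.val (mem_centralizer_iff.1 htK r hr)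
      have hKn : dz ∈ normalizer (K : Set Yz) := by
        by_contra hdn
        have hne : K.map (MulAut.conj dz).toMonoidHom ≠ K := fun e => hdn (mem_normalizer_iff_map_conj_eq.2 e)
        obtain ⟨⟨x, hx⟩, hπx⟩ := ΦK.surj (Suzuki.T ΦK.hS 0 1)
        obtain ⟨s, o, ho, hso⟩ := Nat.exists_eq_pow_mul_and_not_dvd (orderOf_pos x).ne' 2 (by norm_num)
        have hxK : x ^ o ∈ K := pow_mem hx _
        have hy : dz * (x ^ o)⁻¹ * dz⁻¹ ∈ K.map (MulAut.conj dz).toMonoidHom := ⟨_, inv_mem hxK, rfl⟩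
        have hcom : Commute (x ^ o) (dz * (x ^ o)⁻¹ * dz⁻¹) :=
          mem_centralizer_iff.1 (commutator_eq_bot_iff_le_centralizer.1
            (Components.components_commute (Components.component_conj hK dz) hK hne) hy) _ hxK
        have hxo2 : (x ^ o) ^ 2 ^ s = 1 := by rw [← pow_mul, mul_comm, ← hso, pow_orderOf_eq_one]
        have h2 : (x ^ o * dz * (x ^ o)⁻¹ * dz⁻¹) ^ 2 ^ s = 1 := by
          rw [show x ^ o * dz * (x ^ o)⁻¹ * dz⁻¹ = x ^ o * (dz * (x ^ o)⁻¹ * dz⁻¹) by group, hcom.mul_pow, hxo2,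
            conj_pow, inv_pow, hxo2, inv_one, mul_one, mul_inv_cancel, one_mul]
        have h3 := hoddone (hDodd _ (hrt _ hxK)) h2
        have hfixx : dz * x ^ o * dz⁻¹ = x ^ o := by
          rw [mul_inv_eq_one, mul_inv_eq_iff_eq_mul] at h3
          rw [← h3, mul_inv_cancel_right]
        have hmem : x ^ o ∈ K.map (MulAut.conj dz).toMonoidHom := ⟨_, hxK, hfixx⟩
        have hcen : (⟨x ^ o, hxK⟩ : K) ∈ center ↥K := mem_center_iff.2 fun y => Subtype.ext
          (mem_centralizer_iff.1 (commutator_eq_bot_iff_le_centralizer.1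
            (Components.components_commute (Components.component_conj hK dz) hK hne) hmem) y y.2)
        rw [← ΦK.ker, MonoidHom.mem_ker, show (⟨x ^ o, hxK⟩ : K) = ⟨x, hx⟩ ^ o from rfl, map_pow, hπx] at hcen
        have hod : Odd o := Nat.not_even_iff_odd.1 fun h => ho (even_iff_two_dvd.1 h)
        obtain ⟨j, rfl⟩ := hod
        rw [pow_succ, pow_mul, pow_two, Suzuki.T_sq, Suzuki.θ_zero, zero_mul, Suzuki.T_zero, one_pow, one_mul] at hcen
        exact one_ne_zero ((Suzuki.eq_one_iff_T ΦK.hS).mp hcen).2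
      -- normalised: the commutator lies in an odd normal subgroup of the component
      set OK := K ⊓ O.subgroupOf Yz with hOK
      have hKO : K ≤ normalizer (OK : Set Yz) := fun r hr => mem_normalizer_fintype fun y hy =>
        ⟨(mul_mem (mul_mem hr hy.1) (K.inv_mem hr) : r * y * r⁻¹ ∈ K),
          (mem_normalizer_iff.1 (hOn (mem_centralizer_singleton_iff.2 (hrt r hr))) _).1 hy.2⟩
      have hOKc : ∀ y ∈ OK, y = 1 := by
        intro y hy
        have hyodd : Odd (orderOf y) := by rw [← orderOf_coe]; exact hOc _ hy.2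
        rcases quasi_cases hK.2 (inf_le_left : OK ≤ K) hKO with h | h
        · exfalso
          obtain ⟨⟨x, hx⟩, hπx⟩ := ΦK.surj (Suzuki.T ΦK.hS 0 1)
          have hxo : Odd (orderOf x) := by
            rw [← orderOf_coe]
            exact hOc _ ((inf_le_right : OK ≤ _) (h.ge hx))
          have h2 : Suzuki.T ΦK.hS (0 : ΦK.F) 1 ^ orderOf x = 1 := by
            rw [← hπx, ← map_pow, ← map_one ΦK.π]
            exact congrArg _ (Subtype.ext (pow_orderOf_eq_one x))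
          obtain ⟨j, hj⟩ := hxo
          rw [hj, pow_succ, pow_mul, pow_two, Suzuki.T_sq, Suzuki.θ_zero, zero_mul, Suzuki.T_zero, one_pow,
            one_mul] at h2
          exact one_ne_zero ((Suzuki.eq_one_iff_T ΦK.hS).mp h2).2
        · obtain ⟨j, hj⟩ := ΦK.two ⟨⟨y, hy.1⟩, (Components.center_comm hy.1).2 (h hy)⟩
          exact hoddone hyodd (congrArg (fun w => (((w : center ↥K) : ↥K) : Yz)) hj)
      refine mem_centralizer_iff.2 fun r hr => ?_
      have hmem : r * dz * r⁻¹ * dz⁻¹ ∈ OK := by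
        refine ⟨?_, ?_⟩
        · show _ ∈ K
          rw [show r * dz * r⁻¹ * dz⁻¹ = r * (dz * r⁻¹ * dz⁻¹) by group]
          exact mul_mem hr ((mem_normalizer_iff.1 hKn _).1 (inv_mem hr))
        · show (r : G) * d * (r : G)⁻¹ * d⁻¹ ∈ O
          exact mul_mem ((mem_normalizer_iff.1 (hOn (mem_centralizer_singleton_iff.2 (hrt r hr))) d).1 hd.1)
            (inv_mem hd.1)
      have := hOKc _ hmem
      rw [mul_inv_eq_one, mul_inv_eq_iff_eq_mul] at this
      exact this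
    -- `M` is normalised
    have hdM : d ∈ normalizer (M : Set G) := by
      by_contra hdn
      have hcd : d * z = z * d := mem_centralizer_singleton_iff.1 hd.2
      set M' := (M.subgroupOf Yz).map (MulAut.conj dz).toMonoidHom with hM'
      have hne : M' ≠ M.subgroupOf Yz := fun e => hdn (by
        refine mem_normalizer_fintype fun m hm => ?_
        exact e.le ⟨⟨m, hcMz.1 hm⟩, hm, rfl⟩)
      have htM' : tz ∈ M' := ⟨tz, htzM, Subtype.ext (by
        show d * Q.t * d⁻¹ = Q.t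
        rw [hdt, mul_inv_cancel_right])⟩
      have hcomm : ∀ m ∈ M, Q.t * m = m * Q.t := fun m hm =>
        (congrArg Subtype.val (mem_centralizer_iff.1 (commutator_eq_bot_iff_le_centralizer.1
          (Components.components_commute (Components.component_conj hcMz.2 dz) hcMz.2 hne) htM')
          ⟨m, hcMz.1 hm⟩ hm)).symm
      have hcen : (⟨⟨Q.t, htY⟩, htM⟩ : M.subgroupOf Y) ∈ center ↥(M.subgroupOf Y) :=
        mem_center_iff.2 fun m => Subtype.ext (Subtype.ext (hcomm _ m.2).symm)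
      rw [← Φ.ker, MonoidHom.mem_ker, htπ, ← Suzuki.H_one Φ.hS] at hcen
      exact hk1 (Suzuki.H_injective Φ.hS hcen)
    have hΘt : Θ.π ⟨Q.t, htM⟩ = Suzuki.H Θ.hS k₀ := htπ
    obtain ⟨s, hs, hse⟩ := exists_torus_of_fix Θ.hS (k₀ := k₀) hgen hord (Θ.act ⟨d, hdM⟩) (by
      rw [← hΘt, Θ.act_apply' hdM htM]
      congr 1
      exact Subtype.ext (by show d * Q.t * d⁻¹ = Q.t; rw [hdt, mul_inv_cancel_right]))
    obtain ⟨k', hk'⟩ := (Suzuki.mem_torus Θ.hS).mp hs
    obtain ⟨i, hi⟩ := hgen k'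
    set c := d * (Q.t ^ i)⁻¹ with hc
    have hti : Q.t ^ i ∈ M := pow_mem htM i
    have hcn : c ∈ normalizer (M : Set G) := mul_mem hdM (inv_mem (Subgroup.le_normalizer hti))
    have hcM' : c ∈ centralizer (M : Set G) := by
      refine Θ.mem_centralizer_of_act hcn ?_
      rw [show (⟨c, hcn⟩ : normalizer (M : Set G)) = ⟨d, hdM⟩ * (⟨Q.t ^ i, Subgroup.le_normalizer hti⟩)⁻¹ from rfl,
        map_mul, map_inv, hse, Θ.act_of_mem hti, mul_inv_eq_one, hk', ← hi]
      rw [show (⟨Q.t ^ i, hti⟩ : M) = ⟨Q.t, htM⟩ ^ i from rfl, map_pow Θ.π, hΘt]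
      exact congrArg _ ((Suzuki.HHom Θ.hS).map_pow k₀ i)
    set cz : Yz := dz * (tz ^ i)⁻¹ with hcz
    haveI := Components.fittingSubgroup_normal (G := ↥Yz)
    haveI := Components.fittingSubgroup_nilpotent (G := ↥Yz)
    have hF2 : IsPGroup 2 (Cfsg.fittingSubgroup ↥Yz) := Components.isPGroup_of_normal_nilpotent hHz.core _
    have htF : ∀ f ∈ Cfsg.fittingSubgroup ↥Yz, f * tz = tz * f := fun f hf =>
      mem_centralizer_iff.1 (Components.layer_le_centralizer_fitting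
        (Components.component_le_layer hcMz.2 htzM)) f hf
    have hcF : cz ∈ centralizer (Cfsg.generalizedFittingSubgroup ↥Yz : Set Yz) := by
      have h1' : Cfsg.layer ↥Yz ≤ centralizer ({cz} : Set Yz) := Components.layer_le_iff.2 fun K hK r hr => by
        refine mem_centralizer_singleton_iff.2 ?_
        by_cases hKM : K = M.subgroupOf Yz
        · exact Subtype.ext (mem_centralizer_iff.1 hcM' (r : G) (hKM ▸ hr :))
        · obtain ⟨h2, h3⟩ := hothers K hK hKM
          exact mem_centralizer_iff.1 (mul_mem h3 (inv_mem (pow_mem h2 i))) r hr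
      have h2' : Cfsg.fittingSubgroup ↥Yz ≤ centralizer ({cz} : Set Yz) := fun f hf => by
        have hfd : f * dz = dz * f := by
          have hod := hDodd f (congrArg Subtype.val (htF f hf))
          have hin : f * dz * f⁻¹ * dz⁻¹ ∈ Cfsg.fittingSubgroup ↥Yz := by
            rw [show f * dz * f⁻¹ * dz⁻¹ = f * (dz * f⁻¹ * dz⁻¹) by group]
            exact mul_mem hf ((inferInstance : (Cfsg.fittingSubgroup ↥Yz).Normal).conj_mem _ (inv_mem hf) _)
          obtain ⟨j, hj⟩ := hF2 ⟨_, hin⟩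
          have h3 := hoddone hod (congrArg Subtype.val hj)
          rwa [mul_inv_eq_one, mul_inv_eq_iff_eq_mul] at h3
        refine mem_centralizer_singleton_iff.2 ?_
        exact ((show Commute f dz from hfd).mul_right ((show Commute f tz from htF f hf).pow_right i).inv_right).eq
      exact mem_centralizer_iff.2 fun f hf => mem_centralizer_singleton_iff.1 ((sup_le h1' h2') hf)
    let Z' := centralizer (Cfsg.generalizedFittingSubgroup ↥Yz : Set Yz)
    haveI := Components.generalizedFitting_normal (G := ↥Yz)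
    haveI : Z'.Normal := Subgroup.normal_centralizer
    haveI : Group.IsNilpotent Z' := by
      letI : CommGroup Z' :=
        { mul_comm := fun a b => Subtype.ext
            (mem_centralizer_iff.1 b.2 a (Components.centralizer_generalizedFitting_le a.2)) }
      exact CommGroup.isNilpotent
    obtain ⟨j, hj⟩ := (Components.isPGroup_of_normal_nilpotent hHz.core Z') ⟨cz, hcF⟩
    have hct : Commute dz (tz ^ i) := (show Commute dz tz from Subtype.ext hdt).pow_right i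
    have hcodd : Odd (orderOf cz) := by
      refine Nat.coprime_two_right.1 (Nat.Coprime.coprime_dvd_left (hct.inv_right.orderOf_mul_dvd_lcm) ?_)
      refine (Nat.Coprime.coprime_dvd_left (Nat.lcm_dvd_mul _ _) (Nat.Coprime.mul_left ?_ ?_))
      · exact Nat.coprime_two_right.2 hdodd
      · rw [orderOf_inv, Nat.coprime_two_right]
        refine Odd.of_dvd_nat ?_ (orderOf_pow_dvd i)
        rw [← orderOf_coe]
        exact Q.odd_t
    have hdti : dz = tz ^ i := mul_inv_eq_one.1 (hoddone hcodd (congrArg Subtype.val hj))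
    have hd' : d = Q.t ^ i := by
      have := congrArg Subtype.val hdti
      simpa [hdz, htz] using this
    rw [hd']
    exact pow_mem htL i
  -- an element inverting `Q.t` normalises `L`
  obtain ⟨⟨⟨w, hwY⟩, hwM⟩, hπw⟩ := Φ.surj (Suzuki.W Φ.hS)
  have hwN : w ∈ normalizer (L : Set G) := by
    have hwt : w * Q.t * w⁻¹ = Q.t⁻¹ := by
      have hmem : w * Q.t * w⁻¹ * Q.t ∈ M := mul_mem (mul_mem (mul_mem hwM htM) (inv_mem hwM)) htM
      have h1' : Φ.π ⟨⟨w * Q.t * w⁻¹ * Q.t, hcM.1 hmem⟩, hmem⟩ = 1 := by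
        rw [show (⟨⟨w * Q.t * w⁻¹ * Q.t, hcM.1 hmem⟩, hmem⟩ : M.subgroupOf Y) =
          ⟨⟨w, hwY⟩, hwM⟩ * ⟨⟨Q.t, htY⟩, htM⟩ * (⟨⟨w, hwY⟩, hwM⟩ : M.subgroupOf Y)⁻¹ * ⟨⟨Q.t, htY⟩, htM⟩ from rfl,
          map_mul, map_mul, map_mul, map_inv, hπw, htπ, Suzuki.W_inv, Suzuki.W_conj_H, ← Suzuki.H_mul,
          inv_mul_cancel, Suzuki.H_one]
      have hcen : (⟨⟨w * Q.t * w⁻¹ * Q.t, hcM.1 hmem⟩, hmem⟩ : M.subgroupOf Y) ∈ center ↥(M.subgroupOf Y) := by
        rw [← Φ.ker]; exact h1'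
      have hcomm : Commute (w * Q.t * w⁻¹ * Q.t) Q.t := (congrArg (fun x => ((x : M.subgroupOf Y) : ↥Y).1)
        (mem_center_iff.1 hcen ⟨⟨Q.t, htY⟩, htM⟩)).symm
      obtain ⟨j, hj⟩ := Φ.two ⟨_, hcen⟩
      have hj' : (w * Q.t * w⁻¹ * Q.t) ^ 2 ^ j = 1 := congrArg (fun x => (((x : center _) : M.subgroupOf Y) : ↥Y).1) hj
      have hct : Commute (w * Q.t * w⁻¹) Q.t := by
        have := hcomm.mul_left ((Commute.refl Q.t).inv_left)
        rwa [mul_inv_cancel_right] at this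
      have hodd : Nat.Coprime (orderOf (w * Q.t * w⁻¹ * Q.t)) 2 := by
        refine Nat.Coprime.coprime_dvd_left hct.orderOf_mul_dvd_lcm ?_
        refine Nat.Coprime.coprime_dvd_left (Nat.lcm_dvd_mul _ _) (Nat.Coprime.mul_left ?_ ?_)
        · rw [show w * Q.t * w⁻¹ = MulAut.conj w Q.t from rfl, MulEquiv.orderOf_eq]
          exact Nat.coprime_two_right.2 Q.odd_t
        · exact Nat.coprime_two_right.2 Q.odd_t
      exact eq_inv_of_mul_eq_one_left (orderOf_eq_one_iff.1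
        (Nat.eq_one_of_dvd_coprimes (hodd.pow_right j) dvd_rfl (orderOf_dvd_of_pow_eq_one hj')))
    set L₁ := L.map (MulAut.conj w).toMonoidHom with hL₁
    have hfixZ : ∀ z ∈ P.Z, w * z * w⁻¹ = z := fun z hz =>
      mul_inv_eq_iff_eq_mul.2 (mem_centralizer_iff.1 (hZM z hz) w hwM)
    have hq₁ : Cfsg.IsQuasisimple ↥L₁ :=
      (Components.quasisimple_congr (L.equivMapOfInjective _ (MulAut.conj w).injective)).1 hqL
    have hle₁ : L₁ ≤ Yt := by
      rintro _ ⟨l, hl, rfl⟩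
      have h2 : Commute l Q.t⁻¹ := (show Commute l Q.t from mem_centralizer_singleton_iff.1 (hLt hl)).inv_right
      refine mem_centralizer_singleton_iff.2 ?_
      show w * l * w⁻¹ * Q.t = Q.t * (w * l * w⁻¹)
      have et : w * Q.t⁻¹ * w⁻¹ = Q.t := by
        rw [show w * Q.t⁻¹ * w⁻¹ = (w * Q.t * w⁻¹)⁻¹ by group, hwt, inv_inv]
      conv_lhs => rw [← et]
      conv_rhs => rw [← et]
      calc w * l * w⁻¹ * (w * Q.t⁻¹ * w⁻¹) = w * (l * Q.t⁻¹) * w⁻¹ := by group
        _ = w * (Q.t⁻¹ * l) * w⁻¹ := by rw [h2.eq]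
        _ = _ := by group
    have hZ₁ : P.Z ≤ L₁ := fun z hz => ⟨z, hPZ hz, hfixZ z hz⟩
    have hnc₁ : ∀ z ∈ P.Z, z ≠ 1 → z ∉ centralizer (L₁ : Set G) := fun z hz hz1 hc => hZnc z hz hz1
      (mem_centralizer_iff.2 fun l hl => by
        have := mem_centralizer_iff.1 hc (w * l * w⁻¹) ⟨l, hl, rfl⟩
        rw [← hfixZ z hz] at this
        refine mul_left_cancel (a := w) (mul_right_cancel (b := w⁻¹) ?_)
        convert this using 1 <;> group)
    obtain ⟨R₁, hR₁, hR₁m, hLR₁⟩ := hsub L₁ hq₁ hle₁ hZ₁ hnc₁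
    rw [huR R₁ R hR₁ hR hR₁m hRm] at hLR₁
    -- modulo the core
    have hmod : ∀ x ∈ L₁, ∃ l ∈ L, ∃ o ∈ O, x = o * l := by
      intro x hx
      obtain ⟨l, hl, hle'⟩ := hRL (hLR₁ ⟨⟨x, hle₁ hx⟩, hx, rfl⟩)
      refine ⟨l, hl, x * (l : G)⁻¹, ⟨⟨x, hle₁ hx⟩ * l⁻¹, ?_, rfl⟩, (inv_mul_cancel_right _ _).symm⟩
      rw [SetLike.mem_coe, ← QuotientGroup.eq_one_iff]
      show bar Yt (⟨x, hle₁ hx⟩ * l⁻¹) = 1
      rw [map_mul, map_inv, hle', mul_inv_cancel]
    have hinv : ∀ x ∈ L₁, x * x = 1 → x ∈ L := by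
      intro x hx hxx
      obtain ⟨l, hl, o, ho, rfl⟩ := hmod x hx
      have hcom : Commute o l := (mem_centralizer_iff.1 (hOL ho) l hl).symm
      have h2 : o * o * (l * l) = 1 := by
        rw [← hxx, hcom.mul_mul_mul_comm]
      have hooL : o * o ∈ L := by
        rw [eq_inv_of_mul_eq_one_left h2]
        exact inv_mem (mul_mem hl hl)
      have hcenoo : (⟨o * o, hooL⟩ : L) ∈ center ↥L :=
        (Components.center_comm hooL).2 (mul_mem (hOL ho) (hOL ho))
      obtain ⟨j, hj⟩ := Ψ.two ⟨_, hcenoo⟩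
      have hj' : (o * o) ^ 2 ^ j = 1 := congrArg (fun x => (((x : center ↥L) : L) : G)) hj
      rw [← pow_two, ← pow_mul, ← pow_succ'] at hj'
      have ho1 : o = 1 := orderOf_eq_one_iff.1 (Nat.eq_one_of_dvd_coprimes
        ((Nat.coprime_two_right.2 (hOc o ho)).pow_right _) dvd_rfl (orderOf_dvd_of_pow_eq_one hj'))
      rwa [ho1, one_mul]
    set U := Subgroup.closure {x | x ∈ L₁ ∧ x * x = 1} with hU
    have hUle : U ≤ L₁ := (closure_le _).2 fun x hx => hx.1
    have hUn : L₁ ≤ normalizer (U : Set G) := fun y hy => mem_normalizer_fintype fun x hx => by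
      have hle2 : U ≤ U.comap (MulAut.conj y).toMonoidHom := (closure_le _).2 fun x hx => subset_closure
        ⟨mul_mem (mul_mem hy hx.1) (inv_mem hy), by
          show y * x * y⁻¹ * (y * x * y⁻¹) = 1
          rw [show y * x * y⁻¹ * (y * x * y⁻¹) = y * (x * x) * y⁻¹ by group, hx.2]; group⟩
      exact hle2 hx
    have hU1 : L₁ ≤ L := by
      rcases quasi_cases hq₁ hUle hUn with h | h
      · exact h.ge.trans ((closure_le _).2 fun x hx => hinv x hx.1 hx.2)
      · exact absurd (h (subset_closure ⟨hZ₁ hbZ, hA.sq hbA⟩)) (hnc₁ b hbZ hb1)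
    refine mem_normalizer_iff_map_conj_eq.2 (eq_of_le_of_card_ge hU1 ?_)
    exact (Nat.card_congr (L.equivMapOfInjective _ (MulAut.conj w).injective).toEquiv).le
  -- `M` normalises, hence centralises, `L`
  have hMN : M ≤ normalizer (L : Set G) := by
    let U : Subgroup (M.subgroupOf Y) :=
      ((normalizer (L : Set G)).comap Y.subtype).subgroupOf (M.subgroupOf Y)
    have hUmem : ∀ x : M.subgroupOf Y, Φ.π x ∈ Suzuki.borel Φ.F Φ.m → x ∈ U := fun x hx =>
      hborel _ x.2 hx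
    have htop : U.map Φ.π = ⊤ := by
      have hb' : Suzuki.borel Φ.F Φ.m ≤ U.map Φ.π := fun s hs => by
        obtain ⟨x, rfl⟩ := Φ.surj s
        exact ⟨x, hUmem x hs, rfl⟩
      refine (Suzuki.isCoatom_borel Φ.hS).2 _ (lt_of_le_not_ge hb' fun hle => ?_)
      exact Suzuki.exists_factor_not_borel Φ.hS (hle ⟨⟨⟨w, hwY⟩, hwM⟩, hwN, hπw⟩)
    intro x hx
    obtain ⟨u, hu, hue⟩ := htop.ge (mem_top (Φ.π ⟨⟨x, hcM.1 hx⟩, hx⟩))
    have h := hUmem (u⁻¹ * ⟨⟨x, hcM.1 hx⟩, hx⟩) (by rw [map_mul, map_inv, hue, inv_mul_cancel]; exact one_mem _)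
    have h2 := U.mul_mem hu h
    rwa [mul_inv_cancel_left] at h2
  have hD : (centralizer (L : Set G) ⊓ M) = M ∨ (centralizer (L : Set G) ⊓ M) ≤ centralizer (M : Set G) := by
    refine quasi_cases (comp_quasisimple hcM) inf_le_right ?_
    refine le_trans (le_inf (hMN.trans ?_) Subgroup.le_normalizer) inf_normalizer_le_normalizer_inf
    exact LELarge.normalizer_le_normalizer_centralizer L
  rcases hD with h | h
  · exact h.ge.trans inf_le_left
  · exfalso
    have htc := h ⟨htL, htM⟩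
    have hcen : (⟨⟨Q.t, htY⟩, htM⟩ : M.subgroupOf Y) ∈ center ↥(M.subgroupOf Y) :=
      mem_center_iff.2 fun m => Subtype.ext (Subtype.ext (mem_centralizer_iff.1 htc _ m.2))
    rw [← Φ.ker, MonoidHom.mem_ker, htπ, ← Suzuki.H_one Φ.hS] at hcen
    exact hk1 (Suzuki.H_injective Φ.hS hcen)

end Cfsg.Agent.ThreePrime
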