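import Cfsg.Prelude.Def_Involutions
import Cfsg.Prelude.Def_TwoFusion
import Cfsg.Prelude.Def_Transfer
import Cfsg.Prelude.Def_Sz
import Cfsg.Agent.Lib.LocalEven.AbelianClosed
import Cfsg.Agent.Lib.LocalEven.SylowAux
import Cfsg.Agent.Lib.Involutions.Basic

/-!
# Simple groups of order prime to three: the setup of the proof

`Min3` is a simple group of order prime to three all of whose proper simple sections are Suzuki groups, `Closed A S`
a minimal strongly closed elementary abelian subgroup of rank at least three, `EndStmt` the final step (a proper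
subgroup containing `N(A)` and all centralisers of involutions of `A` yields a strongly embedded subgroup).
-/

set_option autoImplicit false
set_option linter.style.haveILetI false
set_option linter.unusedSectionVars false

namespace Cfsg.Agent.ThreePrime

open Subgroup

universe u

/-- A nonabelian simple group of order prime to three, the smaller ones being Suzuki groups. -/
structure Min3 (G : Type u) [Group G] : Prop where
  simple : IsSimpleGroup G
  nonab : ∃ a b : G, a * b ≠ b * a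
  h3 : ¬ 3 ∣ Nat.card G
  ih : ∀ (K : Type u) [Group K] [Finite K] [IsSimpleGroup K], (∃ a b : K, a * b ≠ b * a) →
    ¬ 3 ∣ Nat.card K → Nat.card K < Nat.card G → Cfsg.Lie.IsoSuzuki K

/-- A minimal strongly closed elementary abelian subgroup of rank at least three. -/
structure Closed {G : Type u} [Group G] (A : Subgroup G) (S : Sylow 2 G) : Prop where
  ea : Cfsg.IsElementaryAbelian 2 A
  sc : Cfsg.IsStronglyClosed A (S : Subgroup G)
  card_ge : 8 ≤ Nat.card A
  irred : ∀ B ≤ A, B ≠ ⊥ → normalizer (A : Set G) ≤ normalizer (B : Set G) → B = A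

/-- The core of odd order of a subgroup, as a subgroup of the whole group. -/
def oddIn {G : Type u} [Group G] (M : Subgroup G) : Subgroup G := (Cfsg.pPrimeCore 2 ↥M).map M.subtype

/-- The final step: a proper subgroup containing `N(A)` and the centralisers of the elements of `A#`, in which `A`
is normal modulo the core, gives a strongly embedded subgroup. -/
def EndStmt : Prop :=
  ∀ (G : Type u) [Group G] [Finite G] (S : Sylow 2 G) (A : Subgroup G), Min3 G → Closed A S →
    ∀ M : Subgroup G, M ≠ ⊤ → normalizer (A : Set G) ≤ M →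
      (∀ a ∈ A, a ≠ 1 → centralizer ({a} : Set G) ≤ M) →
      (∀ x ∈ M, ∃ c ∈ oddIn M, ∃ n ∈ normalizer (A : Set G), x = c * n) →
      ∃ H : Subgroup G, Cfsg.IsStronglyEmbedded H

variable {G : Type u} [Group G]

theorem Min3.ne_bot_top (hG : Min3 G) {N : Subgroup G} (hN : N.Normal) (h1 : N ≠ ⊥) : N = ⊤ :=
  haveI := hG.simple
  hN.eq_bot_or_eq_top.resolve_left h1

theorem Min3.center_eq_bot (hG : Min3 G) : center G = ⊥ := by
  haveI := hG.simple
  refine ((inferInstance : (center G).Normal).eq_bot_or_eq_top).resolve_right fun h => ?_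
  obtain ⟨a, b, hab⟩ := hG.nonab
  exact hab ((mem_center_iff.1 (h ▸ mem_top b)) a)

theorem Min3.centralizer_ne_top (hG : Min3 G) {a : G} (ha : a ≠ 1) : centralizer ({a} : Set G) ≠ ⊤ := fun h => by
  refine ha ?_
  rw [← mem_bot, ← hG.center_eq_bot, mem_center_iff]
  exact fun g => mem_centralizer_singleton_iff.1 (h ▸ mem_top g)

variable {A : Subgroup G} {S : Sylow 2 G} (hA : Closed A S)

include hA

theorem Closed.comm {x y : G} (hx : x ∈ A) (hy : y ∈ A) : x * y = y * x :=
  congrArg Subtype.val (hA.ea.1.is_comm.comm ⟨x, hx⟩ ⟨y, hy⟩)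

theorem Closed.sq {a : G} (ha : a ∈ A) : a * a = 1 := by
  rw [← pow_two]; exact hA.ea.2 a ha

theorem Closed.inv {a : G} (ha : a ∈ A) : a⁻¹ = a := inv_eq_of_mul_eq_one_left (hA.sq ha)

theorem Closed.le_sylow : A ≤ (S : Subgroup G) := hA.sc.1

theorem Closed.ne_bot : A ≠ ⊥ := fun h => by
  have h8 := hA.card_ge
  rw [h, Subgroup.card_bot] at h8
  omega

theorem Closed.le_centralizer {a : G} (ha : a ∈ A) : A ≤ centralizer ({a} : Set G) := fun _ hx =>
  mem_centralizer_singleton_iff.2 (hA.comm hx ha)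

theorem Closed.le_centralizer_self : A ≤ centralizer (A : Set G) := fun _ hx =>
  mem_centralizer_iff.2 fun _ hy => hA.comm hy hx

theorem Closed.isPGroup : IsPGroup 2 A := S.2.to_le hA.sc.1

variable [Finite G]

theorem Closed.sylow_le_normalizer : (S : Subgroup G) ≤ normalizer (A : Set G) := fun s hs =>
  mem_normalizer_fintype fun a ha => hA.sc.2 a ha s (mul_mem (mul_mem hs (hA.sc.1 ha)) (inv_mem hs))

/-- `A` is strongly closed in every Sylow subgroup containing it. -/
theorem Closed.sc_of_le (T : Sylow 2 G) (hT : A ≤ (T : Subgroup G)) :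
    Cfsg.IsStronglyClosed A (T : Subgroup G) := by
  haveI : Fact (Nat.Prime 2) := ⟨Nat.prime_two⟩
  obtain ⟨h, hh⟩ := LESylow.exists_conj_eq T S
  have hmem : ∀ x ∈ (T : Subgroup G), h * x * h⁻¹ ∈ (S : Subgroup G) := fun x hx => hh ▸ ⟨x, hx, rfl⟩
  have hconj : A.map (MulAut.conj h).toMonoidHom = A := by
    refine eq_of_le_of_card_ge ?_ (LEBasic.card_map_conj A h).ge
    rintro _ ⟨a, ha, rfl⟩
    exact hA.sc.2 a ha h (hmem a (hT ha))
  refine ⟨hT, fun a ha g hg => ?_⟩
  have h1 : h * (g * a * g⁻¹) * h⁻¹ ∈ A := by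
    have h2 := hA.sc.2 a ha (h * g) (by
      convert hmem _ hg using 1
      group)
    convert h2 using 1
    group
  obtain ⟨b, hb, e⟩ := hconj.ge h1
  have e' : h * b * h⁻¹ = h * (g * a * g⁻¹) * h⁻¹ := e
  rwa [← mul_left_cancel (mul_right_cancel e')]

/-- A conjugate of an element of `A` lying in a `2`-group over `A` lies in `A`. -/
theorem Closed.mem_of_conj {P : Subgroup G} (hP : IsPGroup 2 P) (hAP : A ≤ P) {a : G} (ha : a ∈ A) {g : G}
    (hg : g * a * g⁻¹ ∈ P) : g * a * g⁻¹ ∈ A := by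
  obtain ⟨T, hT⟩ := hP.exists_le_sylow
  exact (hA.sc_of_le T (hAP.trans hT)).2 a ha g (hT hg)

/-- A `2`-group over `A` normalises `A`. -/
theorem Closed.le_normalizer_of_isPGroup {P : Subgroup G} (hP : IsPGroup 2 P) (hAP : A ≤ P) :
    P ≤ normalizer (A : Set G) := fun x hx => mem_normalizer_fintype fun a ha =>
  hA.mem_of_conj hP hAP ha (mul_mem (mul_mem hx (hAP ha)) (inv_mem hx))

/-- Fusion of subsets of `A` takes place in `N(A)`. -/
theorem Closed.fusion {X : Set G} (hX : X ⊆ (S : Subgroup G)) {g : G} (hg : ∀ x ∈ X, g * x * g⁻¹ ∈ (S : Subgroup G)) :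
    ∃ n ∈ normalizer (A : Set G), ∀ x ∈ X, g * x * g⁻¹ = n * x * n⁻¹ :=
  haveI : Fact (Nat.Prime 2) := ⟨Nat.prime_two⟩
  haveI := hA.ea.1
  LEAbelianClosed.controls S hA.sc X hX g hg

theorem Closed.fusion_one {a : G} (ha : a ∈ A) {g : G} (hg : g * a * g⁻¹ ∈ A) :
    ∃ n ∈ normalizer (A : Set G), g * a * g⁻¹ = n * a * n⁻¹ := by
  obtain ⟨n, hn, hn'⟩ := hA.fusion (X := {a}) (fun x hx => by rw [hx]; exact hA.sc.1 ha)
    (g := g) fun x hx => by rw [hx]; exact hA.sc.1 hg
  exact ⟨n, hn, hn' a rfl⟩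

omit [Finite G] in
theorem Closed.centralizer_le_normalizer : centralizer (A : Set G) ≤ normalizer (A : Set G) :=
  Subgroup.centralizer_le_normalizer _

/-- A fused element of `A#` fixes only the point `M`. -/
theorem Closed.mem_of_fusion {M : Subgroup G} (hN : normalizer (A : Set G) ≤ M)
    (hC : ∀ a ∈ A, a ≠ 1 → centralizer ({a} : Set G) ≤ M) {a : G} (ha : a ∈ A) (ha1 : a ≠ 1) {k : G}
    (hk : k * a * k⁻¹ ∈ A) : k ∈ M := by
  obtain ⟨n, hn, he⟩ := hA.fusion_one ha hk
  have h1 : n⁻¹ * k ∈ centralizer ({a} : Set G) := mem_centralizer_singleton_iff.2 (by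
    calc n⁻¹ * k * a = n⁻¹ * (k * a * k⁻¹) * k := by group
      _ = n⁻¹ * (n * a * n⁻¹) * k := by rw [he]
      _ = a * (n⁻¹ * k) := by group)
  have h2 := mul_mem (hN hn) (hC a ha ha1 h1)
  rwa [mul_inv_cancel_left] at h2

omit hA in
private theorem exists_central_pair {x y : G} (hx : orderOf x = 2) (hy : orderOf y = 2)
    (hne : ¬ IsConj x y) : ∃ u : G, u ≠ 1 ∧ u * u = 1 ∧ Commute u x ∧ Commute u y ∧
      (IsConj (x * u) x ∨ IsConj (x * u) y) ∧ (IsConj (y * u) x ∨ IsConj (y * u) y) := by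
  have heven : Even (orderOf (x * y)) := by
    rw [← Nat.not_odd_iff_even]
    intro hodd
    obtain ⟨d, -, hd⟩ := Invol.conj_of_odd hx hy hodd
    exact hne (isConj_iff.2 ⟨d, hd⟩)
  have hu := Invol.half_order hx hy heven (orderOf_pos _)
  obtain ⟨h1, h2⟩ := Invol.half_commute hx hy heven
  have hswap : y * x = (x * y)⁻¹ := by rw [mul_inv_rev, Invol.inv_self hx, Invol.inv_self hy]
  have hord : orderOf (y * x) = orderOf (x * y) := by rw [hswap, orderOf_inv]
  have hhalf : (y * x) ^ (orderOf (y * x) / 2) = (x * y) ^ (orderOf (x * y) / 2) := by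
    rw [hord, hswap, inv_pow, Invol.inv_self hu]
  have key : ∀ {p q : G} (hp : orderOf p = 2) (hq : orderOf q = 2), Even (orderOf (p * q)) →
      IsConj (p * (p * q) ^ (orderOf (p * q) / 2)) p ∨ IsConj (p * (p * q) ^ (orderOf (p * q) / 2)) q := by
    intro p q hp hq he
    by_cases h4 : 4 ∣ orderOf (p * q)
    · obtain ⟨d, -, hd⟩ := Invol.conj_mul_half_of_four_dvd hp hq h4
      exact Or.inl (isConj_iff.2 ⟨d, hd⟩).symm
    · obtain ⟨d, -, hd⟩ := Invol.conj_y_mul_half hp hq he h4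
      exact Or.inr (isConj_iff.2 ⟨d, hd⟩).symm
  refine ⟨(x * y) ^ (orderOf (x * y) / 2), Invol.ne_one hu, Invol.mul_self hu, h1, h2,
    key hx hy heven, ?_⟩
  rw [← hhalf]
  exact (key hy hx (hord.symm ▸ heven)).symm

/-- With a proper subgroup over `N(A)` and the centralisers of `A#`, all elements of `A#` are fused. -/
theorem Closed.one_orbit {M : Subgroup G} (hM : M ≠ ⊤) (hN : normalizer (A : Set G) ≤ M)
    (hC : ∀ a ∈ A, a ≠ 1 → centralizer ({a} : Set G) ≤ M) {a b : G} (ha : a ∈ A) (ha1 : a ≠ 1)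
    (hb : b ∈ A) (hb1 : b ≠ 1) : ∃ n ∈ normalizer (A : Set G), n * a * n⁻¹ = b := by
  haveI : Fact (Nat.Prime 2) := ⟨Nat.prime_two⟩
  suffices h : IsConj a b by
    obtain ⟨g, hg⟩ := isConj_iff.1 h
    obtain ⟨n, hn, he⟩ := hA.fusion_one ha (g := g) (hg.symm ▸ hb)
    exact ⟨n, hn, he.symm.trans hg⟩
  by_contra hab
  obtain ⟨g, hg⟩ : ∃ g, g ∉ M := by
    by_contra h
    push Not at h
    exact hM (eq_top_iff.2 fun g _ => h g)
  -- an involution of `A`-type commuting with a conjugate of `a₀ ∈ A` lies in a conjugate of `A` at the same point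
  have key : ∀ (a₀ k₀ u : G), a₀ ∈ A → a₀ ≠ 1 → u * u = 1 → Commute u (k₀ * a₀ * k₀⁻¹) →
      (∃ c ∈ A, IsConj (k₀ * a₀ * k₀⁻¹ * u) c) → ∃ k, k₀⁻¹ * k ∈ M ∧ k⁻¹ * u * k ∈ A := by
    intro a₀ k₀ u ha₀ ha₀1 hu hcomm ⟨c, hc, hcc⟩
    set x := k₀ * a₀ * k₀⁻¹ with hxdef
    have hxx : x * x = 1 := by
      rw [hxdef, show k₀ * a₀ * k₀⁻¹ * (k₀ * a₀ * k₀⁻¹) = k₀ * (a₀ * a₀) * k₀⁻¹ by group, hA.sq ha₀]
      group
    have hsub : IsPGroup 2 (zpowers x ⊔ zpowers u : Subgroup G) := by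
      have hp : ∀ w : G, w * w = 1 → IsPGroup 2 (zpowers w) := fun w hw => by
        rintro ⟨_, i, rfl⟩
        refine ⟨1, Subtype.ext ?_⟩
        show (w ^ i) ^ 2 ^ 1 = 1
        rw [pow_one, ← zpow_natCast, zpow_comm, zpow_natCast, pow_two, hw, one_zpow]
      refine IsPGroup.to_sup_of_normal_right' (hp x hxx) (hp u hu) ?_
      rw [zpowers_le]
      refine Subgroup.centralizer_le_normalizer _ (mem_centralizer_iff.2 ?_)
      rintro _ ⟨i, rfl⟩
      exact (hcomm.zpow_left i).eq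
    obtain ⟨T, hT⟩ := hsub.exists_le_sylow
    obtain ⟨k, hk⟩ := LESylow.exists_conj_eq S T
    have hin : ∀ w c : G, c ∈ A → IsConj w c → w ∈ (T : Subgroup G) → k⁻¹ * w * k ∈ A := by
      intro w c hc hwc hw
      obtain ⟨d, hd⟩ := isConj_iff.1 hwc
      rw [← hk] at hw
      obtain ⟨s, hs, hsw⟩ := hw
      have hsw' : k * s * k⁻¹ = w := hsw
      have e : k⁻¹ * w * k = s := by rw [← hsw']; group
      have e2 : s = (k⁻¹ * d⁻¹) * c * (k⁻¹ * d⁻¹)⁻¹ := by rw [← e, ← hd]; group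
      rw [e, e2]
      exact hA.sc.2 c hc _ (e2 ▸ hs)
    have hxT : x ∈ (T : Subgroup G) := hT (mem_sup_left (mem_zpowers x))
    have hx' := hin x a₀ ha₀ (isConj_iff.2 ⟨k₀⁻¹, by rw [hxdef]; group⟩) hxT
    have hxu := hin (x * u) c hc hcc (mul_mem hxT (hT (mem_sup_right (mem_zpowers u))))
    refine ⟨k, ?_, ?_⟩
    · have := hA.mem_of_fusion hN hC ha₀ ha₀1 (k := k⁻¹ * k₀) (by
        convert hx' using 1
        rw [hxdef]; group)
      simpa using inv_mem this
    · have := mul_mem (inv_mem hx') hxu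
      convert this using 1
      group
  have hox : ∀ {w : G}, w * w = 1 → w ≠ 1 → orderOf w = 2 := fun h1 h2 => Invol.order_two_of_sq h1 h2
  have hy2 : orderOf (g * b * g⁻¹) = 2 := by rw [Invol.order_conj, hox (hA.sq hb) hb1]
  have hne : ¬ IsConj a (g * b * g⁻¹) := fun h => hab (h.trans (isConj_iff.2 ⟨g, rfl⟩).symm)
  obtain ⟨u, hu1, huu, hux, huy, hxu, hyu⟩ := exists_central_pair (hox (hA.sq ha) ha1) hy2 hne
  have htype : ∀ {w : G}, IsConj w a ∨ IsConj w (g * b * g⁻¹) → ∃ c ∈ A, IsConj w c := fun h => by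
    rcases h with h | h
    · exact ⟨a, ha, h⟩
    · exact ⟨b, hb, h.trans (isConj_iff.2 ⟨g, rfl⟩).symm⟩
  obtain ⟨k, hk, hku⟩ := key a 1 u ha ha1 huu (by simpa using hux) (by simpa using htype hxu)
  obtain ⟨l, hl, hlu⟩ := key b g u hb hb1 huu huy (htype hyu)
  have hu0 : k⁻¹ * u * k ≠ 1 := fun h => hu1 (by
    calc u = k * (k⁻¹ * u * k) * k⁻¹ := by group
      _ = 1 := by rw [h]; group)
  have h := hA.mem_of_fusion hN hC hku hu0 (k := l⁻¹ * k) (by
    convert hlu using 1
    group)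
  refine hg ?_
  have hk' : k ∈ M := by simpa using hk
  have h2 := inv_mem (mul_mem (mul_mem hl h) (inv_mem hk'))
  simpa [mul_assoc] using h2

end Cfsg.Agent.ThreePrime
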