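import Cfsg.Agent.S1927
import Cfsg.Agent.Lib.ThreePrime.Pieces
import Cfsg.Agent.Lib.BrauerSuzuki.ZStar
import Cfsg.Agent.Lib.OddChar.OddTheorem
import Cfsg.Agent.Lib.FpfS3.Main

/-!
# A minimal strongly closed elementary abelian subgroup
-/

set_option autoImplicit false
set_option linter.style.haveILetI false
set_option linter.unusedSectionVars false

namespace Cfsg.Agent.ThreePrime

open Subgroup

universe u

variable {G : Type u} [Group G] [Finite G]

theorem Min3.oddCore_eq_bot (hG : Min3 G) : Cfsg.pPrimeCore 2 G = ⊥ := by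
  haveI : Fact (Nat.Prime 2) := ⟨Nat.prime_two⟩
  by_contra hne
  have htop := hG.ne_bot_top (FittingCores.pPrimeCore_normal 2) hne
  have h2 : Group.IsSolvable G := OddChar.oddSolvable G (by
    rw [← Nat.coprime_two_right]
    have := Cfsg.Agent.PBasic.pPrimeCore_coprime 2 G
    rwa [htop, Subgroup.card_top] at this)
  haveI := hG.simple
  obtain ⟨p, q, hpq⟩ := hG.nonab
  exact hpq (IsSimpleGroup.comm_iff_isSolvable.2 h2 p q)

theorem Min3.even_card (hG : Min3 G) : 2 ∣ Nat.card G := by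
  haveI : Fact (Nat.Prime 2) := ⟨Nat.prime_two⟩
  by_contra h
  have h2 : Group.IsSolvable G := OddChar.oddSolvable G (Nat.not_even_iff_odd.1 fun he => h (even_iff_two_dvd.1 he))
  haveI := hG.simple
  obtain ⟨p, q, hpq⟩ := hG.nonab
  exact hpq (IsSimpleGroup.comm_iff_isSolvable.2 h2 p q)

/-- A minimal strongly closed elementary abelian subgroup, of rank at least three. -/
theorem Min3.exists_closed (hG : Min3 G) : ∃ (S : Sylow 2 G) (A : Subgroup G), Closed A S := by
  classical
  haveI : Fact (Nat.Prime 2) := ⟨Nat.prime_two⟩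
  obtain ⟨S⟩ : Nonempty (Sylow 2 G) := inferInstance
  obtain ⟨W₀, -, hlow, hup, hctl⟩ := S1927.result (FpfS3.not_involves hG.h3) S
  set W := W₀.map (S : Subgroup G).subtype with hW
  have hWS : W ≤ (S : Subgroup G) := map_subtype_le _
  have hWea : Cfsg.IsElementaryAbelian 2 W := by
    have hgen : ∀ x ∈ Cfsg.omegaOne 2 (Cfsg.centerThompsonOf 2 (S : Subgroup G)),
        x ^ 2 = 1 ∧ x ∈ Cfsg.centerThompsonOf 2 (S : Subgroup G) := by
      intro x hx
      refine Subgroup.closure_induction (p := fun x _ => x ^ 2 = 1 ∧ x ∈ Cfsg.centerThompsonOf 2 (S : Subgroup G))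
        (fun y hy => ⟨hy.2, hy.1⟩) ⟨one_pow _, one_mem _⟩ ?_ ?_ hx
      · rintro a b _ _ ⟨ha, haC⟩ ⟨hb, hbC⟩
        have hc : Commute a b := mem_centralizer_iff.1 hbC.2 a haC.1
        exact ⟨by rw [hc.mul_pow, ha, hb, one_mul], mul_mem haC hbC⟩
      · rintro a _ ⟨ha, haC⟩
        exact ⟨by rw [inv_pow, ha, inv_one], inv_mem haC⟩
    refine ⟨⟨⟨fun a b => Subtype.ext ?_⟩⟩, fun a ha => (hgen a (hup ha)).1⟩
    exact mem_centralizer_iff.1 (hgen _ (hup b.2)).2.2 _ (hgen _ (hup a.2)).2.1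
  have hWsc : Cfsg.IsStronglyClosed W (S : Subgroup G) := by
    refine ⟨hWS, fun x hx g hg => ?_⟩
    obtain ⟨-, hc⟩ := hctl {x} (by intro y hy; rw [hy]; exact hWS hx)
    obtain ⟨n, hn, he⟩ := hc g (by rintro _ ⟨y, hy, rfl⟩; rw [hy]; exact hg)
    rw [he x rfl]
    exact (mem_normalizer_iff.1 hn x).1 hx
  have hWne : W ≠ ⊥ := by
    haveI : Nontrivial (S : Subgroup G) :=
      (Subgroup.nontrivial_iff_ne_bot _).2 (S.ne_bot_of_dvd_card hG.even_card)
    haveI : Nontrivial (center (S : Subgroup G)) := S.2.center_nontrivial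
    obtain ⟨n, hn0, hn⟩ := (S.2.to_subgroup (center _)).nontrivial_iff_card.1 inferInstance
    obtain ⟨⟨z, hz⟩, hzo⟩ := exists_prime_orderOf_dvd_card' (G := center (S : Subgroup G)) 2
      (hn ▸ dvd_pow_self 2 hn0.ne')
    rw [orderOf_mk] at hzo
    intro h
    have hzW : (z : G) ∈ W := hlow (subset_closure ⟨⟨z, hz, rfl⟩, by
      rw [← SubmonoidClass.coe_pow]
      exact congrArg Subtype.val (show z ^ 2 = 1 by
        have h2 := pow_orderOf_eq_one z
        rwa [hzo] at h2)⟩)
    rw [h, mem_bot] at hzW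
    rw [show z = 1 from Subtype.ext hzW, orderOf_one] at hzo
    omega
  -- a minimal one
  obtain ⟨A, hAmem, hmin⟩ := Set.exists_min_image {B : Subgroup G | Cfsg.IsElementaryAbelian 2 B ∧
    Cfsg.IsStronglyClosed B (S : Subgroup G) ∧ B ≠ ⊥} (fun B => Nat.card B) (Set.toFinite _) ⟨W, hWea, hWsc, hWne⟩
  obtain ⟨hea, hsc, hne⟩ := hAmem
  have hcommA : ∀ x ∈ A, ∀ y ∈ A, x * y = y * x := fun x hx y hy =>
    congrArg Subtype.val (hea.1.is_comm.comm ⟨x, hx⟩ ⟨y, hy⟩)
  have hirr : ∀ B ≤ A, B ≠ ⊥ → normalizer (A : Set G) ≤ normalizer (B : Set G) → B = A := by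
    intro B hBA hB hN
    refine eq_of_le_of_card_ge hBA ?_
    have hBea : Cfsg.IsElementaryAbelian 2 B :=
      ⟨⟨⟨fun a b => Subtype.ext (hcommA _ (hBA a.2) _ (hBA b.2))⟩⟩, fun a ha => hea.2 a (hBA ha)⟩
    have hBsc : Cfsg.IsStronglyClosed B (S : Subgroup G) := by
      refine ⟨hBA.trans hsc.1, fun x hx g hg => ?_⟩
      haveI := hea.1
      obtain ⟨n, hn, he⟩ := LEAbelianClosed.controls S hsc {x}
        (by intro y hy; rw [hy]; exact hsc.1 (hBA hx)) g (by intro y hy; rw [hy]; exact hg)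
      rw [he x rfl]
      exact (mem_normalizer_iff.1 (hN hn) x).1 hx
    exact hmin B ⟨hBea, hBsc, hB⟩
  refine ⟨S, A, hea, hsc, ?_, hirr⟩
  obtain ⟨e, he⟩ := (S.2.to_le hsc.1).exists_card_eq
  by_contra hlt
  have he3 : e < 3 := by
    by_contra h
    exact hlt (he ▸ (le_of_eq (show 8 = 2 ^ 3 from rfl)).trans (Nat.pow_le_pow_right (by norm_num) (not_lt.1 h)))
  obtain ⟨a, ha, ha1⟩ : ∃ a ∈ A, a ≠ 1 := by
    by_contra h
    push Not at h
    exact hne ((eq_bot_iff_forall A).2 h)
  -- the invariance of `⟨x⟩` for a fixed point `x`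
  have hfix : ∀ x ∈ A, x ≠ 1 → (∀ n ∈ normalizer (A : Set G), n * x * n⁻¹ = x) → zpowers x = A := fun x hx hx1 h =>
    hirr _ (zpowers_le.2 hx) (fun hb => hx1 (zpowers_eq_bot.1 hb)) fun n hn =>
      Subgroup.centralizer_le_normalizer _ (mem_centralizer_iff.2 (by
        rintro _ ⟨i, rfl⟩
        exact ((show Commute x n from (mul_inv_eq_iff_eq_mul.1 (h n hn)).symm).zpow_left i).eq))
  interval_cases e
  · rw [pow_zero, card_eq_one] at he; exact hne he
  · -- an isolated involution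
    rw [pow_one] at he
    have hA2 : ∀ y ∈ A, y = 1 ∨ y = a := fun y hy => by
      by_contra h
      push Not at h
      have hsub : ({1, a, y} : Set G) ⊆ A := by
        rintro z (rfl | rfl | rfl)
        exacts [one_mem _, ha, hy]
      have h4 := Set.ncard_le_ncard hsub (Set.toFinite _)
      rw [Set.ncard_eq_three.2 ⟨1, a, y, fun e => ha1 e.symm, fun e => h.1 e.symm, fun e => h.2 e.symm, rfl⟩,
        ← Nat.card_coe_set_eq] at h4
      change 3 ≤ Nat.card A at h4
      omega
    have ha2 : orderOf a = 2 := orderOf_eq_prime (hea.2 a ha) ha1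
    have hiso : Cfsg.IsIsolated a := by
      intro g hc
      have hp : ∀ w : G, w ^ 2 = 1 → IsPGroup 2 (zpowers w) := fun w hw => by
        rintro ⟨_, i, rfl⟩
        refine ⟨1, Subtype.ext ?_⟩
        show (w ^ i) ^ 2 ^ 1 = 1
        rw [pow_one, ← zpow_natCast, zpow_comm, zpow_natCast, hw, one_zpow]
      have hsub : IsPGroup 2 (zpowers a ⊔ zpowers (g * a * g⁻¹) : Subgroup G) := by
        refine IsPGroup.to_sup_of_normal_right' (hp a (hea.2 a ha))
          (hp _ (by rw [conj_pow, hea.2 a ha, mul_one, mul_inv_cancel])) ?_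
        rw [zpowers_le]
        refine Subgroup.centralizer_le_normalizer _ (mem_centralizer_iff.2 ?_)
        rintro _ ⟨i, rfl⟩
        exact (hc.zpow_right i).symm.eq
      obtain ⟨T, hT⟩ := hsub.exists_le_sylow
      obtain ⟨k, hk⟩ := LESylow.exists_conj_eq S T
      have hin : ∀ w : G, w ≠ 1 → IsConj a w → w ∈ (T : Subgroup G) → k⁻¹ * w * k = a := by
        intro w hw1 haw hw
        rw [← hk] at hw
        obtain ⟨s, hs, hsw⟩ := hw
        have hsw' : k * s * k⁻¹ = w := hsw
        obtain ⟨d, hd⟩ := isConj_iff.1 haw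
        have e1 : k⁻¹ * w * k = s := by rw [← hsw']; group
        have e2 : s = (k⁻¹ * d) * a * (k⁻¹ * d)⁻¹ := by rw [← e1, ← hd]; group
        have hsA : s ∈ A := e2 ▸ hsc.2 a ha _ (e2 ▸ hs)
        rw [e1]
        refine (hA2 s hsA).resolve_left fun h => hw1 ?_
        rw [← hsw', h]; group
      have h1 := hin a ha1 (IsConj.refl a) (hT (mem_sup_left (mem_zpowers a)))
      have h2 := hin (g * a * g⁻¹) (by rwa [Ne, conj_eq_one_iff]) (isConj_iff.2 ⟨g, rfl⟩)
        (hT (mem_sup_right (mem_zpowers _)))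
      exact mul_left_cancel (mul_right_cancel (h2.trans h1.symm))
    have hz := BrauerSuzuki.zStar G a ha2 hiso
    refine ha1 ?_
    rw [← mem_bot, ← hG.center_eq_bot, mem_center_iff]
    intro g
    have := hz g
    rw [hG.oddCore_eq_bot, mem_bot, mul_inv_eq_one, mul_inv_eq_iff_eq_mul] at this
    exact this
  · -- four elements
    have hcard : Nat.card A = 4 := by rw [he]; norm_num
    have hsub : orb A a ⊆ (A : Set G) \ {1} := fun x hx => ⟨orb_subset ha hx, orb_ne_one ha1 hx⟩
    have hle := Set.ncard_le_ncard hsub (Set.toFinite _)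
    rw [Set.ncard_sdiff_singleton_of_mem (one_mem A), ← Nat.card_coe_set_eq] at hle
    change _ ≤ Nat.card A - 1 at hle
    have hpos : 0 < (orb A a).ncard := (Set.ncard_pos (Set.toFinite _)).2 ⟨a, orb_self a⟩
    have h3 : (orb A a).ncard ≠ 3 := fun h => hG.h3 (h ▸ ncard_orb_dvd a)
    have hne4 : ∀ x : G, zpowers x = A → False := fun x hx => by
      have : Nat.card (zpowers x) = 4 := by rw [hx, hcard]
      rw [Nat.card_zpowers] at this
      have h2 := orderOf_dvd_of_pow_eq_one (hea.2 x (hx ▸ mem_zpowers x))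
      rw [this] at h2
      omega
    rcases (show (orb A a).ncard = 1 ∨ (orb A a).ncard = 2 by simp only [Nat.card_coe_set_eq] at *; omega) with h | h
    · obtain ⟨b, hb⟩ := Set.ncard_eq_one.1 h
      refine hne4 a (hfix a ha ha1 fun n hn => ?_)
      have h1 := orb_conj hn (orb_self (A := A) a)
      have h2 := orb_self (A := A) a
      rw [hb, Set.mem_singleton_iff] at h1 h2
      rw [h1, h2]
    · obtain ⟨x, y, hxy, hxyo⟩ := Set.ncard_eq_two.1 h
      have hx : x ∈ orb A a := hxyo ▸ Set.mem_insert _ _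
      have hy : y ∈ orb A a := hxyo ▸ Set.mem_insert_of_mem _ rfl
      have hxA := orb_subset ha hx
      have hyA := orb_subset ha hy
      have hxy1 : x * y ≠ 1 := fun e => hxy (by
        rw [← inv_eq_of_mul_eq_one_right e, inv_eq_of_mul_eq_one_left (by rw [← pow_two]; exact hea.2 x hxA)])
      refine hne4 (x * y) (hfix _ (mul_mem hxA hyA) hxy1 fun n hn => ?_)
      have h1 := orb_conj hn hx
      have h2 := orb_conj hn hy
      rw [hxyo] at h1 h2
      have hne' : n * x * n⁻¹ ≠ n * y * n⁻¹ := fun e => hxy (mul_left_cancel (mul_right_cancel e))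
      rw [show n * (x * y) * n⁻¹ = n * x * n⁻¹ * (n * y * n⁻¹) by group]
      rcases h1 with h1 | h1 <;> rcases h2 with h2 | h2
      · exact absurd (h1.trans h2.symm) hne'
      · rw [h1, h2]
      · rw [h1, h2]; exact hcommA _ hyA _ hxA
      · exact absurd (h1.trans h2.symm) hne'

end Cfsg.Agent.ThreePrime
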