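import Cfsg.Agent.Lib.ThreePrime.Local
import Cfsg.Agent.Lib.ThreePrime.Start
import Cfsg.Agent.Lib.Signalizer.SFT.Main

/-!
# The signalizer functor `a ↦ O(C(a))` and the subgroup over the centralisers
-/

set_option autoImplicit false
set_option linter.style.haveILetI false
set_option linter.unusedSectionVars false

namespace Cfsg.Agent.ThreePrime

open Subgroup

universe u

variable {G : Type u} [Group G] [Finite G] {A : Subgroup G} {S : Sylow 2 G} (hG : Min3 G) (hA : Closed A S)

include hG hA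

theorem solvableFunctor :
    Cfsg.IsSolvableSignalizerFunctor 2 A (fun a => Cfsg.centralizerPPrimeCore 2 a) := by
  haveI : Fact (Nat.Prime 2) := ⟨Nat.prime_two⟩
  have hcop : ∀ a : G, (Nat.card (Cfsg.centralizerPPrimeCore 2 a)).Coprime 2 := fun a =>
    (Components.centralizerPPrimeCore_props (p := 2) a).2.2
  refine ⟨⟨fun a _ _ => map_subtype_le _, fun a _ _ hd => ?_, fun a ha _ b hb x hx => ?_,
    fun a ha ha1 b hb hb1 => hG.balance (hA.sq ha) ha1 hb1 (hA.comm ha hb)⟩, fun a _ _ => ?_⟩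
  · exact Nat.prime_two.ne_one (Nat.eq_one_of_dvd_coprimes (hcop a) hd dvd_rfl)
  · have h : b ∈ normalizer ((Cfsg.centralizerPPrimeCore 2 a : Subgroup G) : Set G) := by
      refine (Components.centralizerPPrimeCore_props (p := 2) a).2.1 ?_
      rw [zpowers_eq_closure, centralizer_closure]
      exact hA.le_centralizer ha hb
    exact (mem_normalizer_iff.1 h x).1 hx
  · exact OddChar.oddSolvable _ (Nat.coprime_two_right.1 (hcop a))

/-- A moved component of `C(a)` has a kernel of order at least four. -/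
theorem kernel_ge_four {a : G} (ha : a ∈ A) (ha1 : a ≠ 1)
    {L : Subgroup (↥(centralizer ({a} : Set G)) ⧸ Cfsg.pPrimeCore 2 ↥(centralizer ({a} : Set G)))}
    (hL : Cfsg.IsComponent L) : 4 ≤ Nat.card (kerIn (centralizer ({a} : Set G)) A L) := by
  haveI : Fact (Nat.Prime 2) := ⟨Nat.prime_two⟩
  have hY := hG.centralizer_ne_top ha1
  have hB := hA.scIn (hA.le_centralizer ha)
  rcases hB.kerIn_or_piece hG hY hL with h | ⟨P, hPK, -, -⟩
  · rw [h]; have := hA.card_ge; omega
  obtain ⟨e, he⟩ := (hA.isPGroup.to_le (inf_le_right : kerIn (centralizer ({a} : Set G)) A L ≤ A)).exists_card_eq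
  by_contra hlt
  have haK : a ∈ P.K := by
    rw [hPK, mem_kerIn hB.le]
    refine ⟨ha, mem_centralizer_iff.2 fun l _ => ?_⟩
    obtain ⟨⟨y, hy⟩, rfl⟩ := QuotientGroup.mk'_surjective _ l
    rw [← map_mul, ← map_mul]
    exact congrArg _ (Subtype.ext (mem_centralizer_singleton_iff.1 hy))
  refine P.false_of_kernel_two hA hG.h3 haK ha1 fun k hk => ?_
  have he2 : e < 2 := by
    by_contra h
    exact hlt (he ▸ (le_of_eq (show 4 = 2 ^ 2 from rfl)).trans (Nat.pow_le_pow_right (by norm_num) (not_lt.1 h)))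
  by_contra hne
  push Not at hne
  have hsub : ({1, a, k} : Set G) ⊆ (kerIn (centralizer ({a} : Set G)) A L : Set G) := by
    rintro z (rfl | rfl | rfl)
    exacts [one_mem _, hPK ▸ haK, hPK ▸ hk]
  have h4 := Set.ncard_le_ncard hsub (Set.toFinite _)
  rw [Set.ncard_eq_three.2 ⟨1, a, k, fun e => ha1 e.symm, fun e => hne.1 e.symm, fun e => hne.2 e.symm, rfl⟩,
    ← Nat.card_coe_set_eq] at h4
  change 3 ≤ Nat.card (kerIn (centralizer ({a} : Set G)) A L) at h4
  have h5 : Nat.card (kerIn (centralizer ({a} : Set G)) A L) = 2 ^ e := he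
  rw [h5] at h4
  interval_cases e <;> omega

/-- When some core is nontrivial, a proper subgroup contains `N(A)` and all centralisers. -/
theorem exists_over_of_core {a₀ : G} (ha₀ : a₀ ∈ A) (ha₀1 : a₀ ≠ 1)
    (hne : Cfsg.centralizerPPrimeCore 2 a₀ ≠ ⊥) :
    ∃ M : Subgroup G, M ≠ ⊤ ∧ normalizer (A : Set G) ≤ M ∧ ∀ a ∈ A, a ≠ 1 → centralizer ({a} : Set G) ≤ M := by
  haveI : Fact (Nat.Prime 2) := ⟨Nat.prime_two⟩
  have h8 : 2 ^ 3 ≤ Nat.card A := hA.card_ge
  have hθ := solvableFunctor hG hA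
  obtain ⟨hmem, hinf⟩ := Signalizer.SFT.iSup_props hA.ea h8 hθ
  set T := ⨆ a : {a : G // a ∈ A ∧ a ≠ 1}, Cfsg.centralizerPPrimeCore 2 a.1 with hT
  have hTle : ∀ b ∈ A, b ≠ 1 → Cfsg.centralizerPPrimeCore 2 b ≤ T := fun b hb hb1 =>
    le_iSup (fun a : {a : G // a ∈ A ∧ a ≠ 1} => Cfsg.centralizerPPrimeCore 2 a.1) ⟨b, hb, hb1⟩
  refine ⟨normalizer (T : Set G), fun htop => ?_, ?_, ?_⟩
  · have hn : T.Normal := normalizer_eq_top_iff.1 htop
    have h1 : T = ⊤ := hG.ne_bot_top hn fun h => hne (le_bot_iff.1 (h ▸ hTle a₀ ha₀ ha₀1))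
    haveI := hG.simple
    haveI : Group.IsSolvable T := hmem.1
    haveI : Group.IsSolvable G := Group.isSolvable_of_surjective
      (f := T.subtype) fun g => ⟨⟨g, h1 ▸ mem_top g⟩, rfl⟩
    obtain ⟨p, q, hpq⟩ := hG.nonab
    exact hpq (IsSimpleGroup.comm_iff_isSolvable.2 inferInstance p q)
  · intro n hn
    refine mem_normalizer_fintype fun x hx => ?_
    have hle : T ≤ T.comap (MulAut.conj n).toMonoidHom := by
      refine iSup_le ?_
      rintro ⟨b, hb, hb1⟩
      rw [← map_le_iff_le_comap, Components.centralizerPPrimeCore_map_equiv]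
      exact hTle _ ((mem_normalizer_iff.1 hn b).1 hb) (by
        show MulAut.conj n b ≠ 1
        rwa [Ne, EmbeddingLike.map_eq_one_iff])
    exact hle hx
  -- centralisers of four groups
  have hfour : ∀ B ≤ A, 4 ≤ Nat.card B → centralizer (B : Set G) ≤ normalizer (T : Set G) := by
    intro B hBA hB4 c hc
    have hBea := Signalizer.ea_mono hA.ea hBA
    have hTB : T ≤ ⨆ b : {b : G // b ∈ B ∧ b ≠ 1}, Cfsg.centralizerPPrimeCore 2 b.1 := by
      refine Signalizer.le_of_centralizer_le hBea hB4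
        (hBA.trans (Signalizer.family_normalizer hmem)) hmem.2.1 fun b hb hb1 => ?_
      rw [hinf b (hBA hb) hb1]
      exact le_iSup (fun a : {a : G // a ∈ B ∧ a ≠ 1} => Cfsg.centralizerPPrimeCore 2 a.1) ⟨b, hb, hb1⟩
    refine mem_normalizer_fintype fun x hx => ?_
    have hle : (⨆ b : {b : G // b ∈ B ∧ b ≠ 1}, Cfsg.centralizerPPrimeCore 2 b.1) ≤
        T.comap (MulAut.conj c).toMonoidHom := by
      refine iSup_le ?_
      rintro ⟨b, hb, hb1⟩
      rw [← map_le_iff_le_comap, Components.centralizerPPrimeCore_map_equiv]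
      have e : MulAut.conj c b = b := by
        rw [MulAut.conj_apply, ← mem_centralizer_iff.1 hc b hb, mul_inv_cancel_right]
      show Cfsg.centralizerPPrimeCore 2 (MulAut.conj c b) ≤ T
      rw [e]
      exact hTle b (hBA hb) hb1
    exact hle (hTB hx)
  intro a ha ha1
  set Y := centralizer ({a} : Set G) with hYdef
  have hY : Y ≠ ⊤ := hG.centralizer_ne_top ha1
  have hB : ScIn Y A := hA.scIn (hA.le_centralizer ha)
  have hNA : normalizer (A : Set G) ≤ normalizer (T : Set G) := by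
    intro n hn
    refine mem_normalizer_fintype fun x hx => ?_
    have hle : T ≤ T.comap (MulAut.conj n).toMonoidHom := by
      refine iSup_le ?_
      rintro ⟨b, hb, hb1⟩
      rw [← map_le_iff_le_comap, Components.centralizerPPrimeCore_map_equiv]
      exact hTle _ ((mem_normalizer_iff.1 hn b).1 hb) (by
        show MulAut.conj n b ≠ 1
        rwa [Ne, EmbeddingLike.map_eq_one_iff])
    exact hle hx
  have hO : oddIn Y ≤ normalizer (T : Set G) := (hTle a ha ha1).trans Subgroup.le_normalizer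
  intro y hy
  obtain ⟨e, he, n, hn, rfl⟩ := hB.exists_mul hG hY hy
  refine mul_mem (layerIn_le_of hO (fun L hL x hx => ?_) he) (hNA hn.2)
  obtain ⟨o, ho, c, hc, rfl⟩ := hB.compIn_le_mul (le_refl (kerIn Y A L)) hx
  exact mul_mem (hO ho) (hfour _ inf_le_right (kernel_ge_four hG hA ha ha1 hL) hc)

end Cfsg.Agent.ThreePrime
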