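import Cfsg.Agent.Lib.ThreePrime.Pieces

/-!
# Classes of commuting components: the counting arguments
-/

set_option autoImplicit false
set_option linter.style.haveILetI false
set_option linter.unusedSectionVars false

namespace Cfsg.Agent.ThreePrime

open Subgroup

universe u

variable {G : Type u} [Group G] [Finite G] {A : Subgroup G} {S : Sylow 2 G}

theorem card_mul_le_of_disjoint {B C D : Subgroup G} (hB : B ≤ D) (hC : C ≤ D)
    (h : ∀ x, x ∈ B → x ∈ C → x = 1) : Nat.card B * Nat.card C ≤ Nat.card D := by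
  rw [← Nat.card_prod]
  refine Nat.card_le_card_of_injective (fun x => (⟨(x.1 : G) * x.2, mul_mem (hB x.1.2) (hC x.2.2)⟩ : D)) ?_
  rintro ⟨b, c⟩ ⟨b', c'⟩ he
  have e : (b : G) * c = b' * c' := congrArg Subtype.val he
  have h1 : (b' : G)⁻¹ * b = c' * (c : G)⁻¹ := by rw [eq_mul_inv_iff_mul_eq, mul_assoc, e, inv_mul_cancel_left]
  have h2 := h _ (mul_mem (inv_mem b'.2) b.2) (h1 ▸ mul_mem c'.2 (inv_mem c.2))
  have hb := inv_mul_eq_one.1 h2
  refine Prod.ext (Subtype.ext hb.symm) (Subtype.ext ?_)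
  rw [hb] at e
  exact mul_left_cancel e

namespace Piece

theorem card_two_mul_le (hA : Closed A S) {P₁ P₂ : Piece A} (hZ : P₂.Z ≤ P₁.K)
    (hk : ∃ y, y ≠ 1 ∧ y ∈ P₁.K ∧ y ∈ P₂.K) : 2 * Nat.card P₂.Z ≤ Nat.card P₁.K := by
  obtain ⟨y, hy1, hyK₁, hyK₂⟩ := hk
  have hc : 2 ≤ Nat.card (zpowers y) := by
    rw [Nat.card_zpowers, orderOf_eq_prime (by rw [pow_two]; exact hA.sq (P₁.hK hyK₁)) hy1]
  calc 2 * Nat.card P₂.Z ≤ Nat.card (zpowers y) * Nat.card P₂.Z := Nat.mul_le_mul_right _ hc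
    _ ≤ _ := card_mul_le_of_disjoint (zpowers_le.2 hyK₁) hZ fun x hx hxZ =>
        P₂.disj x hxZ ((zpowers_le.2 hyK₂) hx)

/-- Two classes of commuting pieces cannot both have two members. -/
theorem false_of_two_classes (hA : Closed A S) {P₁ P₂ Q₁ Q₂ : Piece A} (hP₁ : P₂.Z ≤ P₁.K) (hP₂ : P₁.Z ≤ P₂.K)
    (hPk : ∃ y, y ≠ 1 ∧ y ∈ P₁.K ∧ y ∈ P₂.K)
    (h11 : ∀ y, y ∈ P₁.K → y ∈ Q₁.K → y = 1) (h22 : ∀ y, y ∈ P₂.K → y ∈ Q₂.K → y = 1)
    (hQ₁ : Q₂.Z ≤ Q₁.K) (hQ₂ : Q₁.Z ≤ Q₂.K) (hQk : ∃ y, y ≠ 1 ∧ y ∈ Q₁.K ∧ y ∈ Q₂.K) : False := by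
  have a1 := P₁.card_mul hA
  have a2 := P₂.card_mul hA
  have b1 := Q₁.card_mul hA
  have b2 := Q₂.card_mul hA
  have c1 := card_two_mul_le hA hP₁ hPk
  have c2 := card_two_mul_le hA hQ₁ hQk
  have d1 := card_mul_le_of_disjoint P₁.hK Q₁.hK h11
  have d2 := card_mul_le_of_disjoint P₂.hK Q₂.hK h22
  have e1 : Nat.card P₁.K ≤ Nat.card Q₁.Z := Nat.le_of_mul_le_mul_left
    (show Nat.card Q₁.K * Nat.card P₁.K ≤ Nat.card Q₁.K * Nat.card Q₁.Z by rw [b1, mul_comm]; exact d1) Nat.card_pos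
  have e2 : Nat.card P₂.K ≤ Nat.card Q₂.Z := Nat.le_of_mul_le_mul_left
    (show Nat.card Q₂.K * Nat.card P₂.K ≤ Nat.card Q₂.K * Nat.card Q₂.Z by rw [b2, mul_comm]; exact d2) Nat.card_pos
  -- `|A|² ≤ |Z₁||Z₂||Z'₁||Z'₂| ≤ |A|²/4`
  have f1 : 2 * (Nat.card P₂.Z * Nat.card P₁.Z) ≤ Nat.card A := by
    rw [← a1, ← mul_assoc]; exact Nat.mul_le_mul_right _ c1
  have f2 : 2 * (Nat.card Q₂.Z * Nat.card Q₁.Z) ≤ Nat.card A := by
    rw [← b1, ← mul_assoc]; exact Nat.mul_le_mul_right _ c2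
  have h3 : Nat.card A * Nat.card A ≤ (Nat.card P₂.Z * Nat.card P₁.Z) * (Nat.card Q₂.Z * Nat.card Q₁.Z) := by
    calc Nat.card A * Nat.card A = (Nat.card P₁.K * Nat.card P₁.Z) * (Nat.card P₂.K * Nat.card P₂.Z) := by rw [a1, a2]
      _ ≤ (Nat.card Q₁.Z * Nat.card P₁.Z) * (Nat.card Q₂.Z * Nat.card P₂.Z) :=
          Nat.mul_le_mul (Nat.mul_le_mul_right _ e1) (Nat.mul_le_mul_right _ e2)
      _ = _ := by ring
  have h4 := Nat.mul_le_mul f1 f2
  have hpos : 0 < Nat.card A * Nat.card A := Nat.mul_pos Nat.card_pos Nat.card_pos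
  nlinarith

open scoped Classical in
/-- The number of members of the family not centralised by `a`. -/
noncomputable def wt {ι : Type*} [Fintype ι] (P : ι → Piece A) (a : G) : ℕ :=
  (Finset.univ.filter fun i => a ∉ (P i).K).card

/-- A class of at least three pieces and a piece outside it with small kernel. -/
theorem false_of_weight (hA : Closed A S) {ι : Type*} [Fintype ι] (P : ι → Piece A) (Q : Piece A)
    (hι : 3 ≤ Fintype.card ι) (hZK : ∀ i j, i ≠ j → (P i).Z ≤ (P j).K)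
    (hinj : ∀ a ∈ A, (∀ i, a ∈ (P i).K) → a = 1)
    (hwt : ∀ a ∈ A, wt P (Q.t * a * Q.t⁻¹) = wt P a)
    (hQK : ∀ i, Nat.card Q.K ≤ Nat.card (P i).Z) : False := by
  classical
  let supp : G → Finset ι := fun a => Finset.univ.filter fun i => a ∉ (P i).K
  have hs : ∀ a i, i ∈ supp a ↔ a ∉ (P i).K := fun a i => by simp [supp]
  have hw : ∀ a, wt P a = (supp a).card := fun a => rfl
  -- the weight is constant on `Q.Z#`
  have hpow : ∀ (i : ℕ), ∀ a ∈ A, wt P (Q.t ^ i * a * (Q.t ^ i)⁻¹) = wt P a := by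
    intro i
    induction i with
    | zero => intro a _; simp
    | succ i ih =>
      intro a ha
      rw [show Q.t ^ (i + 1) * a * (Q.t ^ (i + 1))⁻¹ = Q.t * (Q.t ^ i * a * (Q.t ^ i)⁻¹) * Q.t⁻¹ by
        rw [pow_succ']; group, hwt _ ((mem_normalizer_iff.1 (Q.pow_mem i) a).1 ha), ih a ha]
  have hconst : ∀ c ∈ Q.Z, c ≠ 1 → ∀ d ∈ Q.Z, d ≠ 1 → (supp c).card = (supp d).card := fun c hc hc1 d hd hd1 => by
    obtain ⟨i, hi⟩ := Q.trans c hc hc1 d hd hd1
    rw [← hw, ← hw, ← hi, hpow i c (Q.hZ hc)]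
  -- the intersection of `Q.Z` with `Z_i Z_j`
  have hU : ∀ i j, i ≠ j → ∃ V : Subgroup G, V ≤ Q.Z ∧ (∀ v ∈ V, supp v ⊆ {i, j}) ∧
      Nat.card (P i).Z ≤ Nat.card V := by
    intro i j hij
    refine ⟨Q.Z ⊓ ((P i).Z ⊔ (P j).Z), inf_le_left, fun v hv l hl => ?_, ?_⟩
    · by_contra hne
      simp only [Finset.mem_insert, Finset.mem_singleton, not_or] at hne
      exact (hs v l).1 hl ((sup_le (hZK i l (Ne.symm hne.1)) (hZK j l (Ne.symm hne.2))) hv.2)
    · set V := (P i).Z ⊔ (P j).Z with hV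
      have hVA : V ≤ A := sup_le (P i).hZ (P j).hZ
      have hVcard : Nat.card (P i).Z * Nat.card (P j).Z ≤ Nat.card V :=
        card_mul_le_of_disjoint le_sup_left le_sup_right fun x hx hxj => (P j).disj x hxj (hZK i j hij hx)
      have hproj : ∀ v : V, ∃ k ∈ Q.K, ∃ z ∈ Q.Z, (v : G) = k * z := fun v => Q.split v (hVA v.2)
      choose k hk z hz hkz using hproj
      have hle : Nat.card V ≤ Nat.card Q.K * Nat.card (Q.Z ⊓ V : Subgroup G) := by
        -- a section of the projection on each fibre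
        let base : Q.K → V := fun c => if h : ∃ v : V, k v = c then h.choose else 1
        have hmem : ∀ v : V, ((base ⟨k v, hk v⟩ : V) : G)⁻¹ * v ∈ Q.Z ⊓ V := by
          intro v
          refine Subgroup.mem_inf.2 ⟨?_, mul_mem (inv_mem (base _).2) v.2⟩
          have hb : k (base ⟨k v, hk v⟩) = k v := by
            have hex : ∃ w : V, k w = (⟨k v, hk v⟩ : Q.K) := ⟨v, rfl⟩
            simp only [base, dif_pos hex]
            exact hex.choose_spec
          rw [hkz (base _), hkz v, hb, mul_inv_rev, mul_assoc, inv_mul_cancel_left]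
          exact mul_mem (inv_mem (hz _)) (hz _)
        rw [← Nat.card_prod]
        refine Nat.card_le_card_of_injective (fun v => ((⟨k v, hk v⟩ : Q.K), (⟨_, hmem v⟩ : (Q.Z ⊓ V : Subgroup G))))
          fun v w he => ?_
        obtain ⟨h1, h2⟩ := Prod.ext_iff.1 he
        have h2' : ((base ⟨k v, hk v⟩ : V) : G)⁻¹ * v = ((base ⟨k w, hk w⟩ : V) : G)⁻¹ * w := congrArg Subtype.val h2
        simp only at h1
        rw [h1] at h2'
        exact Subtype.ext (mul_left_cancel h2')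
      exact Nat.le_of_mul_le_mul_right
        (hVcard.trans (hle.trans ((Nat.mul_le_mul_right _ (hQK j)).trans (mul_comm _ _).le))) Nat.card_pos
  have hne1 : ∀ v ∈ A, v ≠ 1 → (supp v).Nonempty := fun v hv hv1 => by
    by_contra h
    refine hv1 (hinj v hv fun i => ?_)
    by_contra hi
    exact h ⟨i, (hs v i).2 hi⟩
  have h8 : ∀ i j, i ≠ j → ∃ u v : G, u ∈ Q.Z ∧ v ∈ Q.Z ∧ u ≠ 1 ∧ v ≠ 1 ∧ u ≠ v ∧
      supp u ⊆ {i, j} ∧ supp v ⊆ {i, j} := by
    intro i j hij
    obtain ⟨V, hVQ, hVs, hVc⟩ := hU i j hij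
    have h := (P i).eight_le.trans hVc
    obtain ⟨u, hu, hu1⟩ : ∃ u ∈ V, u ≠ 1 := by
      by_contra h'
      push Not at h'
      rw [(eq_bot_iff_forall V).2 h', Subgroup.card_bot] at h
      omega
    obtain ⟨v, hv, hv1, hvu⟩ : ∃ v ∈ V, v ≠ 1 ∧ v ≠ u := by
      by_contra h'
      push Not at h'
      have hsub : (V : Set G) ⊆ {1, u} := fun x hx => by
        rcases eq_or_ne x 1 with e | e
        · exact Or.inl e
        · exact Or.inr (h' x hx e)
      have h2 := Set.ncard_le_ncard hsub (Set.toFinite _)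
      have h3 := Set.ncard_insert_le (1 : G) {u}
      rw [Set.ncard_singleton] at h3
      rw [← Nat.card_coe_set_eq] at h2
      change Nat.card V ≤ _ at h2
      omega
    exact ⟨u, v, hVQ hu, hVQ hv, hu1, hv1, hvu.symm, hVs u hu, hVs v hv⟩
  -- a product of two elements lying outside a kernel only through the first
  have hleft : ∀ u v : G, ∀ l, l ∈ supp u → l ∉ supp v → l ∈ supp (u * v) := fun u v l hu hv => by
    rw [hs] at hu hv ⊢
    push Not at hv
    exact fun h => hu (by simpa using mul_mem h (inv_mem hv))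
  have hright : ∀ u v : G, ∀ l, l ∉ supp u → l ∈ supp v → l ∈ supp (u * v) := fun u v l hu hv => by
    rw [hs] at hu hv ⊢
    push Not at hu
    exact fun h => hv (by simpa using mul_mem (inv_mem hu) h)
  obtain ⟨i, j, l, hij, hil, hjl⟩ : ∃ i j l : ι, i ≠ j ∧ i ≠ l ∧ j ≠ l :=
    Fintype.two_lt_card_iff.1 (by omega)
  obtain ⟨v, -, hv, -, hv1, -, -, hvs, -⟩ := h8 j l hjl
  have hw2 : (supp v).card ≤ 2 := (Finset.card_le_card hvs).trans Finset.card_le_two
  have hw1 := Finset.card_pos.2 (hne1 v (Q.hZ hv) hv1)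
  rcases Nat.lt_or_ge (supp v).card 2 with hlt | hge
  · -- weight one
    obtain ⟨s, hs1⟩ := Finset.card_eq_one.1 (show (supp v).card = 1 by omega)
    have hsjl : s = j ∨ s = l := by
      have := hvs (hs1 ▸ Finset.mem_singleton_self s)
      simpa using this
    obtain ⟨r, hr, hri⟩ : ∃ r, r ≠ s ∧ r ≠ i := by
      rcases hsjl with rfl | rfl
      · exact ⟨l, hjl.symm, hil.symm⟩
      · exact ⟨j, hjl, hij.symm⟩
    have hsi : s ≠ i := by rcases hsjl with rfl | rfl; exacts [hij.symm, hil.symm]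
    obtain ⟨u, -, hu, -, hu1, -, -, hus, -⟩ := h8 i r hri.symm
    obtain ⟨c, hc⟩ := Finset.card_eq_one.1 ((hconst u hu hu1 v hv hv1).trans (show (supp v).card = 1 by omega))
    have hcs : c ≠ s := fun e => by
      have := hus (hc ▸ Finset.mem_singleton_self c)
      simp only [Finset.mem_insert, Finset.mem_singleton] at this
      rcases this with h | h
      · exact hsi (e.symm.trans h)
      · exact hr (h.symm.trans e)
    have h1 : c ∈ supp (u * v) := hleft u v c (by simp [hc]) (by simp [hs1, hcs])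
    have h2 : s ∈ supp (u * v) := hright u v s (by simp [hc, Ne.symm hcs]) (by simp [hs1])
    have huv1 : u * v ≠ 1 := fun e => by
      rw [hs, e] at h1
      exact h1 (one_mem _)
    have h3 := hconst (u * v) (mul_mem hu hv) huv1 v hv hv1
    have h4 : ({c, s} : Finset ι).card ≤ (supp (u * v)).card :=
      Finset.card_le_card (by simp [Finset.insert_subset_iff, h1, h2])
    rw [Finset.card_pair hcs] at h4
    omega
  · -- weight two
    have hvjl : supp v = {j, l} := Finset.eq_of_subset_of_card_le hvs (Finset.card_le_two.trans hge)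
    obtain ⟨u, u', hu, hu', hu1, hu'1, hne, hus, hu's⟩ := h8 i j hij
    have hboth : ∀ x ∈ Q.Z, x ≠ 1 → supp x ⊆ {i, j} → x * v ∈ (P j).K := by
      intro x hx hx1 hxs
      have hxc : (supp x).card = (supp v).card := hconst x hx hx1 v hv hv1
      have hxij : supp x = {i, j} := Finset.eq_of_subset_of_card_le hxs (Finset.card_le_two.trans (by omega))
      have h1 : i ∈ supp (x * v) := hleft x v i (by simp [hxij]) (by simp [hvjl, hij, hil])
      have h2 : l ∈ supp (x * v) := hright x v l (by simp [hxij, hil.symm, hjl.symm]) (by simp [hvjl])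
      have hxv1 : x * v ≠ 1 := fun e => by
        rw [hs, e] at h1
        exact h1 (one_mem _)
      have h3 := hconst (x * v) (mul_mem hx hv) hxv1 v hv hv1
      by_contra hjn
      have h4 : ({i, j, l} : Finset ι).card ≤ (supp (x * v)).card :=
        Finset.card_le_card (by simp [Finset.insert_subset_iff, h1, h2, (hs _ j).2 hjn])
      rw [Finset.card_eq_three.2 ⟨i, j, l, hij, hil, hjl, rfl⟩] at h4
      omega
    have hxx : u * u' ∈ Q.Z := mul_mem hu hu'
    have hne1' : u * u' ≠ 1 := fun e => hne (by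
      rw [← hA.inv (Q.hZ hu)]; exact inv_eq_of_mul_eq_one_right e)
    have hjK : u * u' ∈ (P j).K := by
      have := mul_mem (hboth u hu hu1 hus) (inv_mem (hboth u' hu' hu'1 hu's))
      rwa [mul_inv_rev, mul_assoc, mul_inv_cancel_left, hA.inv (Q.hZ hu')] at this
    have hsub : supp (u * u') ⊆ {i} := fun x hx => by
      have hxij : x ∈ ({i, j} : Finset ι) := by
        by_contra hout
        rw [hs] at hx
        refine hx (mul_mem ?_ ?_)
        · by_contra h; exact hout (hus ((hs u x).2 h))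
        · by_contra h; exact hout (hu's ((hs u' x).2 h))
      simp only [Finset.mem_insert, Finset.mem_singleton] at hxij ⊢
      exact hxij.resolve_right fun e => by rw [hs, e] at hx; exact hx hjK
    have h3 := hconst (u * u') hxx hne1' v hv hv1
    have h4 := Finset.card_le_card hsub
    rw [Finset.card_singleton] at h4
    omega

end Piece

end Cfsg.Agent.ThreePrime
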