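import Cfsg.Agent.Lib.ThreePrime.PairStep
import Cfsg.Agent.Lib.ThreePrime.Weights

/-!
# Trivial cores: the moved components commute, so their join is normalised by all centralisers
-/

set_option autoImplicit false
set_option linter.style.haveILetI false
set_option linter.unusedSectionVars false

namespace Cfsg.Agent.ThreePrime

open Subgroup

universe u

variable {G : Type u} [Group G] [Finite G] {A : Subgroup G} {S : Sylow 2 G} (hG : Min3 G) (hA : Closed A S)
  (h1 : ∀ a ∈ A, a ≠ 1 → Cfsg.pPrimeCore 2 ↥(centralizer ({a} : Set G)) = ⊥)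

/-- Two kernels share a nontrivial element. -/
def Share (A L L' : Subgroup G) : Prop :=
  ∃ y, y ≠ 1 ∧ y ∈ A ⊓ centralizer (L : Set G) ∧ y ∈ A ⊓ centralizer (L' : Set G)

theorem Share.symm {A L L' : Subgroup G} (h : Share A L L') : Share A L' L :=
  let ⟨y, h1, h2, h3⟩ := h
  ⟨y, h1, h3, h2⟩

include hG hA h1

theorem IsMoved.share_self {L : Subgroup G} (hL : IsMoved A L) : Share A L L := by
  obtain ⟨⟨a, ha, ha1, hc⟩, -⟩ := hL
  have h : a ∈ A ⊓ centralizer (L : Set G) :=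
    ⟨ha, mem_centralizer_iff.2 fun l hl => mem_centralizer_singleton_iff.1 (hc.1 hl)⟩
  exact ⟨a, ha1, h, h⟩

theorem IsMoved.Z_le_of_share {L L' : Subgroup G} (hL : IsMoved A L) (hL' : IsMoved A L') (hne : L ≠ L')
    (h : Share A L L') {P : Piece A} (hP : P.Z ≤ L') : P.Z ≤ A ⊓ centralizer (L : Set G) := by
  obtain ⟨y, hy1, hyL, hyL'⟩ := h
  exact le_inf P.hZ (hP.trans (hL.commute_of_share hG hA h1 hL' hne hyL.1 hy1 hyL.2 hyL'.2))

theorem IsMoved.share_trans {L L' L'' : Subgroup G} (hL : IsMoved A L) (hL' : IsMoved A L') (hL'' : IsMoved A L'')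
    (h : Share A L L') (h' : Share A L' L'') : Share A L L'' := by
  by_cases e1 : L = L'
  · exact e1 ▸ h'
  by_cases e2 : L'' = L'
  · exact e2.symm ▸ h
  obtain ⟨P, -, hPZ, -⟩ := hL'.piece hG hA h1
  obtain ⟨z, hz, hz1⟩ := P.exists_ne_one
  exact ⟨z, hz1, hL.Z_le_of_share hG hA h1 hL' e1 h hPZ hz, hL''.Z_le_of_share hG hA h1 hL' e2 h'.symm hPZ hz⟩

omit h1 in
theorem share_conj {L L' : Subgroup G} {n : G} (hn : n ∈ normalizer (A : Set G)) (h : Share A L L') :
    Share A (L.map (MulAut.conj n).toMonoidHom) (L'.map (MulAut.conj n).toMonoidHom) := by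
  obtain ⟨y, hy1, hy, hy'⟩ := h
  refine ⟨n * y * n⁻¹, by rwa [Ne, conj_eq_one_iff], (kernel_conj hn _).2 ?_, (kernel_conj hn _).2 ?_⟩ <;>
    simpa [mul_assoc]

omit hG h1 in
theorem kernel_ne_top {L : Subgroup G} (hL : IsMoved A L) : A ⊓ centralizer (L : Set G) ≠ A := fun h =>
  hL.2 fun a ha => (h.ge ha).2

/-- Two classes of moved components with shared kernels are impossible, as is a class of three and an outsider. -/
theorem false_of_share {L₁ L₂ Q₀ : Subgroup G} (hL₁ : IsMoved A L₁) (hL₂ : IsMoved A L₂) (hne : L₁ ≠ L₂)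
    (hs : Share A L₁ L₂) (hQ₀ : IsMoved A Q₀) (hout : ¬ Share A Q₀ L₁) : False := by
  classical
  haveI : Fact (Nat.Prime 2) := ⟨Nat.prime_two⟩
  -- every component outside the class shares only with itself
  have hsingle : ∀ Q, IsMoved A Q → ¬ Share A Q L₁ → ∀ Q', IsMoved A Q' → Share A Q Q' → Q' = Q := by
    intro Q hQ hQout Q' hQ' hQQ'
    by_contra hne'
    obtain ⟨P₁, hP₁, hP₁Z, -⟩ := hL₁.piece hG hA h1
    obtain ⟨P₂, hP₂, hP₂Z, -⟩ := hL₂.piece hG hA h1
    obtain ⟨R₁, hR₁, hR₁Z, -⟩ := hQ.piece hG hA h1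
    obtain ⟨R₂, hR₂, hR₂Z, -⟩ := hQ'.piece hG hA h1
    refine Piece.false_of_two_classes hA (P₁ := P₁) (P₂ := P₂) (Q₁ := R₁) (Q₂ := R₂)
      (hP₁ ▸ hL₁.Z_le_of_share hG hA h1 hL₂ hne hs hP₂Z)
      (hP₂ ▸ hL₂.Z_le_of_share hG hA h1 hL₁ hne.symm hs.symm hP₁Z) ?_ ?_ ?_
      (hR₁ ▸ hQ.Z_le_of_share hG hA h1 hQ' (Ne.symm hne') hQQ' hR₂Z)
      (hR₂ ▸ hQ'.Z_le_of_share hG hA h1 hQ hne' hQQ'.symm hR₁Z) ?_
    · rw [hP₁, hP₂]; exact hs
    · intro y hy hy'
      by_contra hy1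
      exact hQout ⟨y, hy1, hR₁ ▸ hy', hP₁ ▸ hy⟩
    · intro y hy hy'
      by_contra hy1
      exact hQout (hQ.share_trans hG hA h1 hQ' hL₁ hQQ'
        (hQ'.share_trans hG hA h1 hL₂ hL₁ ⟨y, hy1, hR₂ ▸ hy', hP₂ ▸ hy⟩ hs.symm))
    · rw [hR₁, hR₂]; exact hQQ'
  let ι := {R : Subgroup G // IsMoved A R ∧ Share A R L₁}
  haveI : Fintype ι := Fintype.ofFinite ι
  have hclass : ∀ i j : ι, Share A i.1 j.1 := fun i j =>
    i.2.1.share_trans hG hA h1 hL₁ j.2.1 i.2.2 j.2.2.symm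
  -- the class is invariant
  have hinv : ∀ n ∈ normalizer (A : Set G), ∀ i : ι, IsMoved A (i.1.map (MulAut.conj n).toMonoidHom) ∧
      Share A (i.1.map (MulAut.conj n).toMonoidHom) L₁ := by
    intro n hn i
    have hm := i.2.1.conj hG hA hn
    refine ⟨hm, ?_⟩
    by_contra hno
    have h1' := hsingle _ hm hno _ (hL₁.conj hG hA hn) (share_conj hG hA hn i.2.2)
    have h2' := hsingle _ hm hno _ (hL₂.conj hG hA hn)
      (share_conj hG hA hn (i.2.1.share_trans hG hA h1 hL₁ hL₂ i.2.2 hs))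
    exact hne (Subgroup.map_injective (MulAut.conj n).injective (h1'.trans h2'.symm))
  let act : ∀ n ∈ normalizer (A : Set G), ι → ι := fun n hn i => ⟨_, hinv n hn i⟩
  have hinj : ∀ n (hn : n ∈ normalizer (A : Set G)), Function.Injective (act n hn) := fun n hn i j h =>
    Subtype.ext (Subgroup.map_injective (MulAut.conj n).injective (congrArg Subtype.val h))
  choose P hPK hPZ hPt using fun i : ι => i.2.1.piece hG hA h1
  -- the common kernel is trivial
  have hK0 : ∀ a ∈ A, (∀ i, a ∈ (P i).K) → a = 1 := by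
    intro a ha hall
    let K₀ : Subgroup G := A ⊓ ⨅ i : ι, centralizer (i.1 : Set G)
    have haK₀ : a ∈ K₀ := ⟨ha, mem_iInf.2 fun i => ((hPK i) ▸ hall i).2⟩
    by_contra ha1
    refine kernel_ne_top hA hL₁ (le_antisymm inf_le_left ?_)
    have hK₀ : K₀ = A := by
      refine hA.eq_of_invariant inf_le_left (fun h => ha1 ((eq_bot_iff_forall _).1 h a haK₀)) fun n hn b hb => ?_
      refine ⟨(mem_normalizer_iff.1 hn b).1 hb.1, mem_iInf.2 fun i => ?_⟩
      obtain ⟨j, hj⟩ := Finite.surjective_of_injective (hinj n hn) i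
      have hj' : j.1.map (MulAut.conj n).toMonoidHom = i.1 := congrArg Subtype.val hj
      rw [← hj']
      refine ((kernel_conj hn (n * b * n⁻¹)).2 ?_).2
      rw [show n⁻¹ * (n * b * n⁻¹) * n = b by group]
      exact ⟨hb.1, mem_iInf.1 hb.2 j⟩
    intro b hb
    exact ⟨hb, mem_iInf.1 (hK₀.ge hb).2 ⟨L₁, hL₁, hL₁.share_self hG hA h1⟩⟩
  obtain ⟨Q, hQK, -⟩ := hQ₀.piece hG hA h1
  refine Piece.false_of_weight hA P Q ?_ ?_ hK0 ?_ ?_
  · -- at least three members
    by_contra hlt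
    have hle : ∀ R : ι, R.1 = L₁ ∨ R.1 = L₂ := fun R => by
      by_contra h
      push Not at h
      refine hlt (Nat.succ_le_of_lt (Fintype.two_lt_card_iff.2 ⟨⟨L₁, hL₁, hL₁.share_self hG hA h1⟩,
        ⟨L₂, hL₂, hs.symm⟩, R, ?_, ?_, ?_⟩))
      · exact fun e => hne (congrArg Subtype.val e)
      · exact fun e => h.1 (congrArg Subtype.val e).symm
      · exact fun e => h.2 (congrArg Subtype.val e).symm
    obtain ⟨y, hy1, hy, hy'⟩ := hs
    refine hy1 (hK0 y hy.1 fun R => ?_)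
    rw [hPK R]
    rcases hle R with e | e <;> rw [e]
    exacts [hy, hy']
  · intro i j hij
    rw [hPK j]
    exact j.2.1.Z_le_of_share hG hA h1 i.2.1 (fun e => hij (Subtype.ext e.symm)) (hclass j i) (hPZ i)
  · -- invariant weight
    have hle : ∀ n (hn : n ∈ normalizer (A : Set G)) (a : G), Piece.wt P a ≤ Piece.wt P (n * a * n⁻¹) := by
      intro n hn a
      refine Finset.card_le_card_of_injOn (act n hn) (fun i hi => ?_) (hinj n hn).injOn
      simp only [Finset.coe_filter, Finset.mem_univ, true_and, Set.mem_setOf_eq] at hi ⊢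
      intro h
      refine hi ?_
      rw [hPK] at h ⊢
      have h2 := (kernel_conj hn _).1 h
      rwa [show n⁻¹ * (n * a * n⁻¹) * n = a by group] at h2
    intro a _
    refine le_antisymm ?_ (hle _ Q.tN a)
    have h2 := hle _ (inv_mem Q.tN) (Q.t * a * Q.t⁻¹)
    rwa [show Q.t⁻¹ * (Q.t * a * Q.t⁻¹) * Q.t⁻¹⁻¹ = a by group] at h2
  · intro i
    have hd : ∀ y, y ∈ Q.K → y ∈ (P i).K → y = 1 := by
      intro y hy hy'
      by_contra hy1
      exact hout (hQ₀.share_trans hG hA h1 i.2.1 hL₁ ⟨y, hy1, hQK ▸ hy, hPK i ▸ hy'⟩ i.2.2)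
    refine Nat.le_of_mul_le_mul_right ?_ (Nat.card_pos (α := (P i).K))
    rw [mul_comm (Nat.card (P i).Z), (P i).card_mul hA]
    exact card_mul_le_of_disjoint Q.hK (P i).hK hd

/-- Distinct moved components commute. -/
theorem IsMoved.commute {L L' : Subgroup G} (hL : IsMoved A L) (hL' : IsMoved A L') (hne : L ≠ L') :
    L' ≤ centralizer (L : Set G) := by
  by_contra hnc
  have hno : ¬ Share A L L' := fun ⟨y, hy1, hy, hy'⟩ =>
    hnc (hL.commute_of_share hG hA h1 hL' hne hy.1 hy1 hy.2 hy'.2)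
  by_cases hex : ∃ L₁ L₂, IsMoved A L₁ ∧ IsMoved A L₂ ∧ L₁ ≠ L₂ ∧ Share A L₁ L₂
  · obtain ⟨L₁, L₂, hL₁, hL₂, hne12, hs⟩ := hex
    by_cases hLs : Share A L L₁
    · exact false_of_share hG hA h1 hL₁ hL₂ hne12 hs hL' fun h =>
        hno (hL.share_trans hG hA h1 hL₁ hL' hLs h.symm)
    · exact false_of_share hG hA h1 hL₁ hL₂ hne12 hs hL hLs
  push Not at hex
  have huniq : ∀ R R', IsMoved A R → IsMoved A R' → Share A R R' → R' = R := fun R R' hR hR' h => by
    by_contra hne'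
    exact hex R R' hR hR' (Ne.symm hne') h
  obtain ⟨P, hPK, hPZ, hPt⟩ := hL.piece hG hA h1
  have hK1 : P.K ≠ ⊥ := fun h => by
    obtain ⟨y, hy1, hy, -⟩ := hL.share_self hG hA h1
    rw [← hPK, h] at hy
    exact hy1 hy
  have hdis : ∀ x ∈ normalizer (A : Set G),
      (∀ k ∈ P.K, x * k * x⁻¹ ∈ P.K) ∨ ∀ k ∈ P.K, x * k * x⁻¹ ∈ P.K → k = 1 := by
    intro x hx
    by_cases hfix : L.map (MulAut.conj x).toMonoidHom = L
    · left
      intro k hk
      rw [hPK] at hk ⊢
      rw [← hfix]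
      exact (kernel_conj hx _).2 (by simpa [mul_assoc] using hk)
    · right
      intro k hk hxk
      by_contra hk1
      refine hfix (huniq _ _ hL (hL.conj hG hA hx) ⟨x * k * x⁻¹, by rwa [Ne, conj_eq_one_iff], hPK ▸ hxk, ?_⟩)
      rw [hPK] at hk
      exact (kernel_conj hx _).2 (by simpa [mul_assoc] using hk)
  obtain ⟨⟨x, hx, hxK, -⟩, hpair⟩ := P.cover hA hG.h3 hK1 hdis
  set M₀ := L.map (MulAut.conj x).toMonoidHom with hM₀
  have hMK : ∀ y, y ∈ A ⊓ centralizer (M₀ : Set G) ↔ y ∈ P.Z := fun y => by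
    rw [hM₀, kernel_conj hx, ← hPK, hxK]
  obtain ⟨P', hP'K, -, -⟩ := hL'.piece hG hA h1
  have hM₀' : L' = M₀ := by
    rcases P.meet_of_pair hA hpair hK1 P' with ⟨y, hy1, hy', hy⟩ | ⟨y, hy1, hy', hy⟩
    · exact absurd ⟨y, hy1, hPK ▸ hy, hP'K ▸ hy'⟩ hno
    · exact huniq _ _ (hL.conj hG hA hx) hL' ⟨y, hy1, (hMK y).2 hy, hP'K ▸ hy'⟩
  subst hM₀'
  exact hnc (hL.le_centralizer_of_swap hG hA h1 hL' P hPK hPZ hPt hMK
    (fun R hR y hy1 hy hy' => huniq _ _ hL hR ⟨y, hy1, hy, hy'⟩)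
    (fun R hR y hy1 hy hy' => huniq _ _ hL' hR ⟨y, hy1, hy, hy'⟩) hpair)

/-- A subgroup over `N(A)` containing the moved components contains all the centralisers. -/
theorem centralizer_le_of_moved {M : Subgroup G} (hN : normalizer (A : Set G) ≤ M)
    (hmv : ∀ L, IsMoved A L → L ≤ M) {a : G} (ha : a ∈ A) (ha1 : a ≠ 1) : centralizer ({a} : Set G) ≤ M := by
  haveI : Fact (Nat.Prime 2) := ⟨Nat.prime_two⟩
  set Y := centralizer ({a} : Set G) with hY
  have hB := hA.scIn (hA.le_centralizer ha)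
  obtain ⟨T, hsc⟩ := hB.sc
  intro y hy
  obtain ⟨e, he, n, hn, hye⟩ := exists_layer_mul (hG.framed_of_core (hG.centralizer_ne_top ha1) (h1 a ha ha1))
    (ea_subgroupOf hA.ea) hsc (⟨y, hy⟩ : Y)
  have hlayer : Cfsg.layer ↥Y ≤ M.subgroupOf Y := Components.layer_le_iff.2 fun K hK x hx => by
    show (x : G) ∈ M
    by_cases hKA : A ≤ centralizer ((K.map Y.subtype : Subgroup G) : Set G)
    · refine hN (Subgroup.centralizer_le_normalizer _ (mem_centralizer_iff.2 fun c hc => ?_))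
      exact (mem_centralizer_iff.1 (hKA hc) (x : G) ⟨x, hx, rfl⟩).symm
    · have hKY : Cfsg.IsComponentOf (K.map Y.subtype) Y := by
        refine ⟨map_subtype_le _, ?_⟩
        rw [subgroupOf, comap_map_eq_self_of_injective Y.subtype_injective]
        exact hK
      exact hmv _ ⟨⟨a, ha, ha1, hKY⟩, hKA⟩ ⟨x, hx, rfl⟩
  have hnA : (n : G) ∈ normalizer (A : Set G) := mem_normalizer_fintype fun c hc =>
    ((mem_normalizer_iff.1 hn ⟨c, hA.le_centralizer ha hc⟩).1 hc :)
  have hye' : y = (e : G) * n := congrArg Subtype.val hye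
  rw [hye']
  exact mul_mem (hlayer he) (hN hnA)

/-- When all cores are trivial, a proper subgroup contains `N(A)` and all centralisers. -/
theorem exists_over_of_trivial :
    ∃ M : Subgroup G, M ≠ ⊤ ∧ normalizer (A : Set G) ≤ M ∧ ∀ a ∈ A, a ≠ 1 → centralizer ({a} : Set G) ≤ M := by
  haveI := hG.simple
  by_cases hex : ∃ L, IsMoved A L
  · obtain ⟨L, hL⟩ := hex
    set U := ⨆ R : {R : Subgroup G // IsMoved A R}, R.1 with hU
    have hle : ∀ R, IsMoved A R → R ≤ U := fun R hR => le_iSup (fun R : {R : Subgroup G // IsMoved A R} => R.1) ⟨R, hR⟩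
    have hN : normalizer (A : Set G) ≤ normalizer (U : Set G) := fun n hn => mem_normalizer_fintype fun x hx => by
      have h : U ≤ U.comap (MulAut.conj n).toMonoidHom := by
        refine iSup_le ?_
        rintro ⟨R, hR⟩
        rw [← map_le_iff_le_comap]
        exact hle _ (hR.conj hG hA hn)
      exact h hx
    have hmv : ∀ R, IsMoved A R → R ≤ normalizer (U : Set G) := fun R hR => (hle R hR).trans Subgroup.le_normalizer
    refine ⟨normalizer (U : Set G), fun htop => ?_, hN, fun a ha ha1 =>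
      centralizer_le_of_moved hG hA h1 hN hmv ha ha1⟩
    obtain ⟨a, ha, ha1, hc⟩ := hL.1
    have hLne : L ≠ ⊥ := fun h => hL.2 fun x _ => mem_centralizer_iff.2 fun l hl => by
      rw [h] at hl
      rw [show l = 1 from hl]; simp
    have hUtop := hG.ne_bot_top (normalizer_eq_top_iff.1 htop) fun h => hLne (le_bot_iff.1 (h ▸ hle L hL))
    have hUN : U ≤ normalizer (L : Set G) := iSup_le fun R => by
      rcases eq_or_ne R.1 L with e | e
      · exact e.le.trans Subgroup.le_normalizer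
      · exact (hL.commute hG hA h1 R.2 e.symm).trans (Subgroup.centralizer_le_normalizer _)
    have hLtop := hG.ne_bot_top (normalizer_eq_top_iff.1 (eq_top_iff.2 (hUtop ▸ hUN))) hLne
    exact hG.centralizer_ne_top ha1 (eq_top_iff.2 (hLtop ▸ hc.1))
  · push Not at hex
    refine ⟨normalizer (A : Set G), fun htop => ?_, le_rfl, fun a ha ha1 =>
      centralizer_le_of_moved hG hA h1 le_rfl (fun L hL => absurd hL (hex L)) ha ha1⟩
    have hAtop := hG.ne_bot_top (normalizer_eq_top_iff.1 htop) hA.ne_bot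
    obtain ⟨p, q, hpq⟩ := hG.nonab
    exact hpq (hA.comm (hAtop ▸ mem_top p) (hAtop ▸ mem_top q))

end Cfsg.Agent.ThreePrime
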